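import Cfsg.Agent.ClassicalMax.Unitary

/-!
Hermitian spaces: isotropic partners, vectors of a given norm orthogonal to a pair, products of transvections moving
isotropic lines, orthogonal subspaces and maximal families of orthogonal isotropic vectors.
-/

set_option autoImplicit false
set_option linter.unusedSectionVars false

namespace Cfsg.Agent.ClassicalMax.UnTensor

open Module Cfsg.Agent.Classical

variable {F E : Type*} [Field F] [Finite F] [AddCommGroup E] [Module F E] [FiniteDimensional F E] {σ : F →+* F}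
  {B : E →ₛₗ[σ] E →ₗ[F] F}

/-- the vectors orthogonal to a subspace -/
def orth (B : E →ₛₗ[σ] E →ₗ[F] F) (L : Submodule F E) : Submodule F E where
  carrier := {w | ∀ l ∈ L, B l w = 0}
  add_mem' := fun {a b} ha hb l hl => by rw [map_add, ha l hl, hb l hl, add_zero]
  zero_mem' := fun l _ => map_zero _
  smul_mem' := fun c {a} ha l hl => by rw [map_smul, ha l hl, smul_zero]

theorem mem_orth {L : Submodule F E} {w : E} : w ∈ orth B L ↔ ∀ l ∈ L, B l w = 0 := Iff.rfl

variable (hB : Herm.IsHerm B)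
include hB

theorem exists_pairing_one {u : E} (hu : u ≠ 0) : ∃ w, B w u = 1 ∧ B u w = 1 := by
  obtain ⟨y, hy⟩ : ∃ y, B u y ≠ 0 := by
    by_contra! h
    exact hu (hB.nondeg u h)
  refine ⟨(B u y)⁻¹ • y, ?_, by rw [map_smul, smul_eq_mul, inv_mul_cancel₀ hy]⟩
  rw [← hB.symm, map_smul, smul_eq_mul, inv_mul_cancel₀ hy, map_one]

theorem exists_iso_partner {u : E} (hu : u ≠ 0) (huu : B u u = 0) :
    ∃ w, B w w = 0 ∧ B u w = 1 ∧ B w u = 1 := by
  obtain ⟨w, hwu, huw⟩ := exists_pairing_one hB hu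
  obtain ⟨c, hc⟩ := Herm.exists_trace hB.toIsInvol (a := -B w w) (by rw [map_neg, Herm.fix_self hB])
  refine ⟨w + c • u, ?_, by simp [huw, huu], by simp [hwu, huu]⟩
  simp only [map_add, map_smulₛₗ, LinearMap.add_apply, LinearMap.smul_apply, smul_eq_mul, RingHom.id_apply, huu, huw,
    hwu, mul_zero, mul_one]
  linear_combination hc

/-- a subspace of dimension at least two has an isotropic vector -/
theorem exists_iso_mem {S : Submodule F E} (hS : 2 ≤ finrank F S) : ∃ v ∈ S, v ≠ 0 ∧ B v v = 0 := by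
  obtain ⟨f, hf⟩ := exists_linearIndependent_of_le_finrank hS
  have hne : (f 0 : E) ≠ 0 := fun h => hf.ne_zero 0 (Subtype.ext h)
  by_cases h0 : B (f 0 : E) (f 0 : E) = 0
  · exact ⟨_, (f 0).2, hne, h0⟩
  set a : E := (f 0 : E) with ha
  set x : E := (f 1 : E) - (B a (f 1 : E) / B a a) • a with hx
  have hax : B a x = 0 := by rw [hx, map_sub, map_smul, smul_eq_mul, div_mul_cancel₀ _ h0, sub_self]
  have hindep : ∀ t : F, x + t • a ≠ 0 := fun t h => by
    have h2 : (t - B a (f 1 : E) / B a a) • f 0 + (1 : F) • f 1 = 0 := Subtype.ext (by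
      rw [Submodule.coe_add, Submodule.coe_smul, Submodule.coe_smul, Submodule.coe_zero, ← ha, ← h, hx]
      module)
    have := Fintype.linearIndependent_iff.1 hf ![t - B a (f 1 : E) / B a a, 1] (by rw [Fin.sum_univ_two]; exact h2) 1
    exact one_ne_zero this
  have hxS : x ∈ S := S.sub_mem (f 1).2 (S.smul_mem _ (f 0).2)
  obtain ⟨t, ht⟩ := Herm.exists_norm hB.toIsInvol (a := -B x x / B a a)
    (by rw [map_div₀, map_neg, Herm.fix_self hB, Herm.fix_self hB])
  refine ⟨x + t • a, S.add_mem hxS (S.smul_mem _ (f 0).2), hindep t, ?_⟩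
  have hxa : B x a = 0 := (Herm.eq_zero_comm hB).1 hax
  have e : t * σ t * B a a = -B x x := by rw [ht, div_mul_cancel₀ _ h0]
  simp only [map_add, map_smulₛₗ, LinearMap.add_apply, LinearMap.smul_apply, smul_eq_mul, RingHom.id_apply, hax, hxa,
    mul_zero]
  linear_combination e

theorem exists_pair (hn : 2 ≤ finrank F E) : ∃ s t, B s s = 0 ∧ B t t = 0 ∧ B s t = 1 ∧ B t s = 1 := by
  obtain ⟨s, -, hs, hss⟩ := exists_iso_mem hB (S := ⊤) (by rw [finrank_top]; exact hn)
  obtain ⟨t, ht, h1, h2⟩ := exists_iso_partner hB hs hss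
  exact ⟨s, t, hss, ht, h1, h2⟩

omit [Finite F] [FiniteDimensional F E] in
theorem pair_ne {s t : E} (hst : B s t = 1) : s ≠ 0 ∧ t ≠ 0 :=
  ⟨fun h => by simp [h] at hst, fun h => by simp [h] at hst⟩

/-- a vector of a given norm orthogonal to an orthonormal family -/
theorem exists_perp_value {k : ℕ} {a : Fin k → E} (ha : Herm.IsON B a) (hk : k < finrank F E) {c : F} (hc : σ c = c) :
    ∃ v, (∀ i, B (a i) v = 0) ∧ B v v = c := by
  obtain ⟨v, hv⟩ := Herm.exists_snoc hB ha hk
  obtain ⟨t, ht⟩ := Herm.exists_norm hB.toIsInvol hc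
  refine ⟨t • v, fun i => ?_, ?_⟩
  · have := hv i.castSucc (Fin.last k)
    rw [Fin.snoc_castSucc, Fin.snoc_last, if_neg (Fin.castSucc_lt_last i).ne] at this
    rw [map_smul, this, smul_zero]
  · have := hv (Fin.last k) (Fin.last k)
    rw [Fin.snoc_last, if_pos rfl] at this
    rw [Herm.smul_self hB, this, ht, mul_one]

/-- an orthonormal pair in the plane of an isotropic pair -/
theorem exists_on_of_pair {x y : E} (hx : B x x = 0) (hy : B y y = 0) (hxy : B x y = 1) :
    ∃ a : Fin 2 → E, Herm.IsON B a ∧ ∀ v, (∀ i, B (a i) v = 0) → B x v = 0 ∧ B y v = 0 := by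
  have hyx : B y x = 1 := by rw [← hB.symm, hxy, map_one]
  obtain ⟨μ, hμ⟩ := Herm.exists_trace hB.toIsInvol (a := (1 : F)) (map_one σ)
  obtain ⟨γ, hγ0, hγ⟩ := Herm.exists_neg_one_norm hB
  refine ⟨![x + μ • y, γ • (x + (-σ μ) • y)], fun i j => ?_, fun v hv => ?_⟩
  · fin_cases i <;> fin_cases j <;>
      simp only [Fin.zero_eta, Fin.isValue, Fin.mk_one, Matrix.cons_val_zero, Matrix.cons_val_one, map_add, map_smulₛₗ,
        LinearMap.add_apply, LinearMap.smul_apply, smul_eq_mul, RingHom.id_apply, hx, hy, hxy, hyx, map_neg, hB.invol,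
        mul_zero, mul_one, reduceIte, Fin.reduceEq]
    · linear_combination hμ
    · ring
    · ring
    · linear_combination -(γ * σ γ) * hμ - hγ
  · have h0 := hv 0
    have h1 := hv 1
    simp only [Matrix.cons_val_zero, Matrix.cons_val_one, map_add, map_smulₛₗ, LinearMap.add_apply,
      LinearMap.smul_apply, smul_eq_mul, map_neg, hB.invol, mul_eq_zero, (map_ne_zero σ).2 hγ0, false_or] at h0 h1
    have hy0 : B y v = 0 := by linear_combination h0 - h1 - B y v * hμ
    exact ⟨by linear_combination h0 - σ μ * hy0, hy0⟩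

/-- a vector of a given norm orthogonal to an isotropic pair -/
theorem exists_perp_pair_value (hn : 3 ≤ finrank F E) {x y : E} (hx : B x x = 0) (hy : B y y = 0) (hxy : B x y = 1)
    {c : F} (hc : σ c = c) :
    ∃ v, B x v = 0 ∧ B y v = 0 ∧ B v x = 0 ∧ B v y = 0 ∧ B v v = c := by
  obtain ⟨a, ha, hperp⟩ := exists_on_of_pair hB hx hy hxy
  obtain ⟨v, hv, hvv⟩ := exists_perp_value hB ha (by omega) hc
  obtain ⟨h1, h2⟩ := hperp v hv
  exact ⟨v, h1, h2, (Herm.eq_zero_comm hB).1 h1, (Herm.eq_zero_comm hB).1 h2, hvv⟩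

/-- a second isotropic pair orthogonal to a first -/
theorem exists_perp_pair (hn : 4 ≤ finrank F E) {x y : E} (hx : B x x = 0) (hy : B y y = 0) (hxy : B x y = 1) :
    ∃ p p', B p p = 0 ∧ B p' p' = 0 ∧ B p' p = 1 ∧ B x p = 0 ∧ B y p = 0 ∧ B x p' = 0 ∧ B y p' = 0 := by
  obtain ⟨a, ha, hperp⟩ := exists_on_of_pair hB hx hy hxy
  obtain ⟨v, hv⟩ := Herm.exists_snoc hB ha (by omega)
  obtain ⟨w, hw⟩ := Herm.exists_snoc hB hv (by omega)
  obtain ⟨γ, hγ0, hγ⟩ := Herm.exists_neg_one_norm hB
  obtain ⟨τ, hτ⟩ := Herm.exists_trace hB.toIsInvol (a := (-1 : F)) (by simp)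
  have hv' : ∀ i, B (a i) v = 0 ∧ B (a i) w = 0 := fun i => by
    have h1 := hw i.castSucc.castSucc (Fin.last 2).castSucc
    have h2 := hw i.castSucc.castSucc (Fin.last 3)
    simp only [Fin.snoc_castSucc, Fin.snoc_last] at h1 h2
    rw [if_neg (fun h => (Fin.castSucc_lt_last i).ne (Fin.castSucc_injective _ h))] at h1
    rw [if_neg (Fin.castSucc_lt_last _).ne] at h2
    exact ⟨h1, h2⟩
  have hvv : B v v = 1 := by
    have h1 := hw (Fin.last 2).castSucc (Fin.last 2).castSucc
    simp only [Fin.snoc_castSucc, Fin.snoc_last, if_true] at h1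
    exact h1
  have hww : B w w = 1 := by
    have h1 := hw (Fin.last 3) (Fin.last 3)
    simp only [Fin.snoc_last, if_true] at h1
    exact h1
  have hvw : B v w = 0 := by
    have h1 := hw (Fin.last 2).castSucc (Fin.last 3)
    rw [Fin.snoc_castSucc, Fin.snoc_last, Fin.snoc_last, if_neg (Fin.castSucc_lt_last _).ne] at h1
    exact h1
  have hwv : B w v = 0 := (Herm.eq_zero_comm hB).1 hvw
  have hp : ∀ s t : F, B x (s • v + t • w) = 0 ∧ B y (s • v + t • w) = 0 := fun s t =>
    hperp _ fun i => by rw [map_add, map_smul, map_smul, (hv' i).1, (hv' i).2, smul_zero, smul_zero, add_zero]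
  refine ⟨(1 + τ) • v + (τ * γ) • w, (1 : F) • v + γ • w, ?_, ?_, ?_, (hp _ _).1, (hp _ _).2, (hp _ _).1, (hp _ _).2⟩
  all_goals simp only [map_add, map_smulₛₗ, LinearMap.add_apply, LinearMap.smul_apply, smul_eq_mul, RingHom.id_apply,
    map_mul, map_one, hvv, hww, hvw, hwv, mul_zero, mul_one]
  · linear_combination hτ + τ * σ τ * hγ
  · linear_combination hγ
  · linear_combination τ * hγ

/-- a transvection carrying a vector to another of the same norm -/
theorem exists_move {h₀ h₁ : E} (hN : B h₁ h₁ = B h₀ h₀) (hd : B (h₁ - h₀) (h₁ - h₀) = 0)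
    (hne : B (h₁ - h₀) h₀ ≠ 0) : ∃ c, c + σ c = 0 ∧ Herm.tvU hd c h₀ = h₁ := by
  refine ⟨(B (h₁ - h₀) h₀)⁻¹, ?_, by rw [Herm.tvU_apply, inv_mul_cancel₀ hne, one_smul, add_sub_cancel]⟩
  have e : B (h₁ - h₀) h₀ + σ (B (h₁ - h₀) h₀) = 0 := by
    simp only [map_sub, LinearMap.sub_apply, hB.symm] at hd ⊢
    linear_combination -hd + hN
  rw [map_inv₀, inv_add_inv hne ((map_ne_zero σ).2 hne), e, zero_div]

/-- isotropic vectors pairing to a non-zero skew scalar are moved into one another -/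
theorem exists_move_iso {u x : E} (hu : B u u = 0) (hx : B x x = 0) (hne : B x u ≠ 0)
    (hsk : B x u + σ (B x u) = 0) : ∃ a ∈ Herm.TUon B ⊤, a u = x := by
  have hd : B (x - u) (x - u) = 0 := by
    simp only [map_sub, LinearMap.sub_apply, hB.symm, hu, hx] at hsk ⊢
    linear_combination -hsk
  obtain ⟨c, hc, e⟩ := exists_move hB (hx.trans hu.symm) hd (by rwa [map_sub, LinearMap.sub_apply, hu, sub_zero])
  exact ⟨_, Herm.tvU_mem_TUon hB hd (Submodule.mem_top (R := F)) hc, e⟩

/-- the products of transvections are transitive on isotropic lines -/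
theorem exists_TU_line {u x : E} (hu0 : u ≠ 0) (hu : B u u = 0) (hx0 : x ≠ 0) (hx : B x x = 0) :
    ∃ a ∈ Herm.TUon B ⊤, ∃ l : F, l ≠ 0 ∧ a u = l • x := by
  have key : ∀ {u x : E}, B u u = 0 → B x x = 0 → B x u ≠ 0 → ∃ a ∈ Herm.TUon B ⊤, ∃ l : F, l ≠ 0 ∧ a u = l • x := by
    intro u x hu hx hne
    obtain ⟨k, hk0, hk⟩ := Herm.exists_skew hB.toIsInvol
    refine (exists_move_iso hB (u := u) (x := σ (k / B x u) • x) hu
      (by rw [Herm.smul_self hB, hx, mul_zero]) ?_ ?_).imp fun a ⟨ha, e⟩ =>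
      ⟨ha, _, (map_ne_zero σ).2 (div_ne_zero hk0 hne), e⟩
    all_goals rw [map_smulₛₗ, LinearMap.smul_apply, smul_eq_mul, hB.invol, div_mul_cancel₀ _ hne]
    · exact hk0
    · rw [hk, add_neg_cancel]
  by_cases hne : B x u = 0
  swap
  · exact key hu hx hne
  by_cases hdep : x ∈ F ∙ u
  · obtain ⟨l, hl⟩ := Submodule.mem_span_singleton.1 hdep
    have hl0 : l ≠ 0 := fun h => hx0 (by rw [← hl, h, zero_smul])
    exact ⟨1, one_mem _, l⁻¹, inv_ne_zero hl0, by rw [← hl, inv_smul_smul₀ hl0]; rfl⟩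
  obtain ⟨w, hw, hxw⟩ := Unitary.exists_perp hB hdep
  obtain ⟨w', hw'u, huw'⟩ := exists_pairing_one hB hu0
  have hux : B u x = 0 := (Herm.eq_zero_comm hB).1 hne
  set z₀ := w' + (1 - B x w') • w with hz₀
  have h1 : B u z₀ = 1 := by
    rw [hz₀, map_add, map_smul, huw', hw u (Submodule.mem_span_singleton_self u), smul_zero, add_zero]
  have h2 : B x z₀ = 1 := by rw [hz₀, map_add, map_smul, hxw, smul_eq_mul, mul_one, add_sub_cancel]
  obtain ⟨γ, hγ⟩ := Herm.exists_trace hB.toIsInvol (a := -B z₀ z₀) (by rw [map_neg, Herm.fix_self hB])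
  have h1' : B z₀ u = 1 := by rw [← hB.symm, h1, map_one]
  have hzz : B (z₀ + γ • u) (z₀ + γ • u) = 0 := by
    simp only [map_add, map_smulₛₗ, LinearMap.add_apply, LinearMap.smul_apply, smul_eq_mul, RingHom.id_apply, hu, h1,
      h1', mul_zero, mul_one]
    linear_combination hγ
  obtain ⟨a, ha, l, hl, e⟩ := key (x := z₀ + γ • u) hu hzz (by simp [hu, h1'])
  obtain ⟨a', ha', l', hl', e'⟩ := key (u := z₀ + γ • u) (x := x) hzz hx (by simp [hne, h2])
  exact ⟨a' * a, mul_mem ha' ha, l * l', mul_ne_zero hl hl', by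
    rw [LinearEquiv.mul_apply, e, map_smul, e', smul_smul]⟩

/-- the products of transvections realise every scalar on an isotropic vector -/
theorem exists_TU_scale (hn : 3 ≤ finrank F E) {u : E} (hu0 : u ≠ 0) (hu : B u u = 0) {μ : F} (hμ : μ ≠ 0) :
    ∃ a ∈ Herm.TUon B ⊤, a u = μ • u := by
  obtain ⟨f, hf, huf, hfu⟩ := exists_iso_partner hB hu0 hu
  obtain ⟨k, hk0, hk⟩ := Herm.exists_skew hB.toIsInvol
  set β := k / σ μ with hβ
  have hσμ : σ μ ≠ 0 := (map_ne_zero σ).2 hμ
  obtain ⟨p, hup, hfp, hpu, hpf, hpp⟩ := exists_perp_pair_value hB hn hu hf huf (c := -(β + σ β))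
    (by rw [map_neg, map_add, hB.invol, add_comm])
  set z := k • f with hz
  set z' := u + β • f + p with hz'
  have hzz : B z z = 0 := by rw [hz, Herm.smul_self hB, hf, mul_zero]
  have hz'z' : B z' z' = 0 := by
    simp only [hz', map_add, map_smulₛₗ, LinearMap.add_apply, LinearMap.smul_apply, smul_eq_mul, RingHom.id_apply, hu,
      hf, huf, hfu, hup, hfp, hpu, hpf, hpp, mul_zero, mul_one]
    ring
  obtain ⟨a, ha, e⟩ := exists_move_iso hB hu hzz (by simp [hz, hfu, hk0]) (by simp [hz, hfu, hk])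
  obtain ⟨a', ha', e'⟩ := exists_move_iso hB (u := z) (x := z') hzz hz'z'
    (by simp [hz, hz', huf, hf, hpf, hk0]) (by simp [hz, hz', huf, hf, hpf, hk])
  have hμz' : B (μ • u) z' = k := by
    simp only [hz', map_add, map_smulₛₗ, LinearMap.smul_apply, smul_eq_mul, RingHom.id_apply, hu, huf, hup, mul_zero,
      mul_one, zero_add, add_zero, hβ]
    field_simp
  obtain ⟨a'', ha'', e''⟩ := exists_move_iso hB (u := z') (x := μ • u) hz'z'
    (by rw [Herm.smul_self hB, hu, mul_zero]) (by rw [hμz']; exact hk0) (by rw [hμz', hk, add_neg_cancel])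
  exact ⟨a'' * a' * a, mul_mem (mul_mem ha'' ha') ha, by
    rw [LinearEquiv.mul_apply, LinearEquiv.mul_apply, e, e', e'']⟩

/-- the orthogonal of a subspace has the complementary dimension -/
theorem finrank_orth_add (L : Submodule F E) : finrank F (orth B L) + finrank F L = finrank F E := by
  let b := Module.finBasis F L
  let T : E →ₗ[F] (Fin (finrank F L) → F) := LinearMap.pi fun i => B (b i : E)
  have hker : LinearMap.ker T = orth B L := by
    ext w
    rw [LinearMap.mem_ker]
    refine ⟨fun h l hl => ?_, fun h => funext fun i => h _ (b i).2⟩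
    have e := congrArg Subtype.val (b.sum_repr ⟨l, hl⟩)
    simp only [Submodule.coe_sum, Submodule.coe_smul] at e
    rw [← e, map_sum, LinearMap.sum_apply]
    refine Finset.sum_eq_zero fun i _ => ?_
    rw [map_smulₛₗ, LinearMap.smul_apply, show B (b i : E) w = 0 from congrFun h i, smul_zero]
  have hsurj : LinearMap.range T = ⊤ := by
    by_contra hne
    obtain ⟨φ, hφ, hle⟩ := (LinearMap.range T).exists_le_ker_of_lt_top (lt_top_iff_ne_top.2 hne)
    refine hφ (LinearMap.ext fun c => ?_)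
    have key : ∀ x, φ (T x) = 0 := fun x => LinearMap.mem_ker.1 (hle ⟨x, rfl⟩)
    have hz : ∑ i, σ (φ (Pi.single i 1)) • (b i : E) = 0 := hB.nondeg _ fun y => by
      have := key y
      rw [pi_eq_sum_univ' (T y), map_sum] at this
      simp only [map_smul, smul_eq_mul] at this
      simp only [map_sum, map_smulₛₗ, LinearMap.sum_apply, LinearMap.smul_apply, smul_eq_mul, hB.invol]
      rw [← this]
      exact Finset.sum_congr rfl fun i _ => mul_comm _ _
    have hli := Fintype.linearIndependent_iff.1 (b.linearIndependent.map' L.subtype L.ker_subtype) _ hz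
    rw [pi_eq_sum_univ' c, map_sum, LinearMap.zero_apply]
    refine Finset.sum_eq_zero fun i _ => ?_
    rw [map_smul, show φ (Pi.single i 1) = 0 from (map_eq_zero σ).1 (hli i), smul_zero]
  have h1 := T.finrank_range_add_finrank_ker
  rw [hker, hsurj, finrank_top, Module.finrank_fin_fun] at h1
  omega

/-- a non-degenerate subspace and its orthogonal span the space -/
theorem sup_orth {L : Submodule F E} (hL : ∀ l ∈ L, l ∈ orth B L → l = 0) : L ⊔ orth B L = ⊤ := by
  refine Submodule.eq_top_of_finrank_eq ?_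
  have h1 := Submodule.finrank_sup_add_finrank_inf_eq L (orth B L)
  have h2 := finrank_orth_add hB L
  rw [(Submodule.eq_bot_iff (L ⊓ orth B L)).2 fun l hl => hL l (Submodule.mem_inf.1 hl).1 (Submodule.mem_inf.1 hl).2,
    finrank_bot] at h1
  omega

/-- orthogonal isotropic vectors with dual vectors, one of them prescribed -/
theorem exists_frame {t : ℕ} [NeZero t] (ht : 2 * t ≤ finrank F E) {v : E} (hv : v ≠ 0) (hvv : B v v = 0) :
    ∃ z w : Fin t → E, z 0 = v ∧ (∀ i j, B (z i) (z j) = 0) ∧ ∀ i j, B (w i) (z j) = if i = j then 1 else 0 := by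
  obtain ⟨b, hb⟩ := Herm.exists_orthonormal hB
  obtain ⟨γ, hγ0, hγ⟩ := Herm.exists_neg_one_norm hB
  let p : Fin t → Fin (finrank F E) := fun i => ⟨2 * i.1, by omega⟩
  let q : Fin t → Fin (finrank F E) := fun i => ⟨2 * i.1 + 1, by omega⟩
  let z₁ : Fin t → E := fun i => b (p i) + γ • b (q i)
  let w₁ : Fin t → E := fun i => b (p i)
  have hpq : ∀ i j, p i ≠ q j := fun i j h => by
    have := congrArg Fin.val h
    simp only [p, q] at this
    omega
  have hp : ∀ i j, (p i = p j ↔ i = j) := fun i j => by simp [p, Fin.ext_iff]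
  have hq : ∀ i j, (q i = q j ↔ i = j) := fun i j => by simp [q, Fin.ext_iff]
  have hzz : ∀ i j, B (z₁ i) (z₁ j) = 0 := fun i j => by
    simp only [z₁, map_add, map_smulₛₗ, LinearMap.add_apply, LinearMap.smul_apply, smul_eq_mul, RingHom.id_apply,
      hb _ _, hp, hq, hpq, (hpq _ _).symm, if_false, mul_zero, add_zero, zero_add]
    split_ifs
    · linear_combination hγ
    · ring
  have hwz : ∀ i j, B (w₁ i) (z₁ j) = if i = j then 1 else 0 := fun i j => by
    simp only [w₁, z₁, map_add, map_smul, smul_eq_mul, hb _ _, hp, hpq, if_false, mul_zero, add_zero]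
  have hne : z₁ 0 ≠ 0 := fun h => by
    have := hwz 0 0
    rw [h, map_zero, if_pos rfl] at this
    exact zero_ne_one this
  obtain ⟨a, ha, l, hl, e⟩ := exists_TU_line hB hne (hzz 0 0) hv hvv
  have hiso : ∀ x y, B (a x) (a y) = B x y := (Herm.TUon_le_suG hB ⊤ ha).1
  let z : Fin t → E := fun i => if i = 0 then v else a (z₁ i)
  let w : Fin t → E := fun i => if i = 0 then σ l • a (w₁ i) else a (w₁ i)
  have hz : ∀ i, z i = (if i = 0 then l⁻¹ else 1) • a (z₁ i) := fun i => by
    simp only [z]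
    split_ifs with h
    · rw [h, e, inv_smul_smul₀ hl]
    · rw [one_smul]
  have hw : ∀ i, w i = (if i = 0 then σ l else 1) • a (w₁ i) := fun i => by
    simp only [w]
    split_ifs with h <;> simp
  refine ⟨z, w, if_pos rfl, fun i j => ?_, fun i j => ?_⟩
  · simp only [hz, map_smulₛₗ, LinearMap.smul_apply, hiso, hzz, smul_zero]
  · simp only [hw, hz, map_smulₛₗ, LinearMap.smul_apply, hiso, hwz, smul_eq_mul, RingHom.id_apply]
    split_ifs <;> simp_all [hB.invol]

/-- an anisotropic vector is a combination of an isotropic pair -/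
theorem exists_split (hn : 2 ≤ finrank F E) {y : E} (hy : B y y ≠ 0) :
    ∃ (y₁ y₂ : E) (β : F), B y₁ y₁ = 0 ∧ B y₂ y₂ = 0 ∧ B y₁ y₂ = 1 ∧ β ≠ 0 ∧ y = y₂ + β • y₁ := by
  obtain ⟨c, hc⟩ := Herm.exists_unit_of_ne_zero hB hy
  obtain ⟨p, hp, hpp⟩ := exists_perp_value hB (a := ![c • y]) (fun i j => by
      fin_cases i; fin_cases j; simpa using hc) (by omega) (c := -B y y) (by rw [map_neg, Herm.fix_self hB])
  have hyp : B y p = 0 := by
    have := hp 0
    simp only [Matrix.cons_val_zero, map_smulₛₗ, LinearMap.smul_apply, smul_eq_mul] at this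
    exact (mul_eq_zero.1 this).resolve_left ((map_ne_zero σ).2 fun h0 => by simp [h0] at hc)
  have hpy : B p y = 0 := (Herm.eq_zero_comm hB).1 hyp
  obtain ⟨β, hβ⟩ := Herm.exists_trace hB.toIsInvol (a := B y y) (Herm.fix_self hB y)
  set y₁ := (B y y)⁻¹ • (y + p) with hy₁
  have h11 : B y₁ y₁ = 0 := by
    rw [hy₁, Herm.smul_self hB]
    simp [hyp, hpy, hpp]
  have h1y : B y₁ y = 1 := by simp [hy₁, hpy, Herm.fix_self hB, hy]
  have hy1 : B y y₁ = 1 := by rw [← hB.symm, h1y, map_one]
  clear_value y₁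
  refine ⟨y₁, y - β • y₁, β, h11, ?_, ?_, ?_, (sub_add_cancel _ _).symm⟩
  · simp only [map_sub, map_smulₛₗ, LinearMap.sub_apply, LinearMap.smul_apply, smul_eq_mul, RingHom.id_apply, h11,
      h1y, hy1, mul_zero, mul_one]
    linear_combination -hβ
  · rw [map_sub, map_smul, h11, smul_zero, sub_zero, h1y]
  · intro h0
    rw [h0, map_zero, add_zero] at hβ
    exact hy hβ.symm

/-- a field with two fixed elements is the field with four elements -/
theorem exists_cube_root (hfix : ∀ k : F, σ k = k → k = 0 ∨ k = 1) :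
    (2 : F) = 0 ∧ ∃ w : F, σ w = w * w ∧ w * w + w + 1 = 0 := by
  have h2 : (2 : F) = 0 := by
    rcases hfix 2 (map_ofNat σ 2) with h | h
    · exact h
    · exact absurd (show (1 : F) = 0 by linear_combination h) one_ne_zero
  obtain ⟨w, hw⟩ := Herm.exists_moved hB.toIsInvol
  refine ⟨h2, w, ?_⟩
  have htr : w + σ w = 1 := (hfix _ (by rw [map_add, hB.invol, add_comm])).resolve_left fun h =>
    hw (by linear_combination h - w * h2)
  have hn : w * σ w = 1 := (hfix _ (by rw [map_mul, hB.invol, mul_comm])).resolve_left fun h => by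
    rcases mul_eq_zero.1 h with h0 | h0
    · exact hw (by rw [h0, map_zero])
    · exact hw (by rw [h0, (map_eq_zero σ).1 h0])
  have e1 : w * w + w + 1 = 0 := by linear_combination w * htr - hn + w * h2
  exact ⟨by linear_combination htr - e1 + h2, e1⟩

end Cfsg.Agent.ClassicalMax.UnTensor
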