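import Cfsg.Agent.ClassicalMax.UnTensor.Small
import Cfsg.Agent.ClassicalMax.SpTensor.Bridge
import Cfsg.Agent.NotMax.TensorFrame

/-!
The stabiliser of a decomposition of the unitary space into a tensor product of two unitary spaces is maximal.
-/

set_option autoImplicit false
set_option linter.unusedSectionVars false
set_option linter.style.haveILetI false

namespace Cfsg.Agent.ClassicalMax.UnTensor

open Module Cfsg.Agent.Classical Cfsg.Agent.ClassicalMax

variable {F : Type*} [Field F] [Fintype F] {n q : ℕ}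

/-- a unitary form as a semilinear map -/
noncomputable def formMap {k : ℕ} (σ : F →+* F) (hσq : ∀ x, σ x = x ^ q) {f : (Fin k → F) → (Fin k → F) → F}
    (hf : Cfsg.Geo.IsUnitaryFormPow q f) (c : F) : (Fin k → F) →ₛₗ[σ] (Fin k → F) →ₗ[F] F :=
  LinearMap.mk₂'ₛₗ σ (RingHom.id F) (fun y y' => c * f y' y)
    (fun y y' z => by
      have : f z (y + y') = f z y + f z y' := by
        rw [hf.herm z, hf.add_left, ← hσq, map_add, hσq, hσq, ← hf.herm, ← hf.herm]
      rw [this, mul_add])
    (fun a y z => by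
      have : f z (a • y) = σ a * f z y := by
        rw [hf.herm z, hf.smul_left, ← hσq, map_mul, hσq (f y z), ← hf.herm]
      rw [this, smul_eq_mul, mul_left_comm])
    (fun y z z' => by rw [hf.add_left, mul_add])
    (fun a y z => by rw [hf.smul_left, RingHom.id_apply, smul_eq_mul, mul_left_comm])

theorem formMap_apply {k : ℕ} (σ : F →+* F) (hσq : ∀ x, σ x = x ^ q) {f : (Fin k → F) → (Fin k → F) → F}
    (hf : Cfsg.Geo.IsUnitaryFormPow q f) (c : F) (y y' : Fin k → F) : formMap σ hσq hf c y y' = c * f y' y := rfl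

theorem formMap_isHerm {k : ℕ} {σ : F →+* F} (hσ : Herm.IsInvol σ) (hσq : ∀ x, σ x = x ^ q)
    {f : (Fin k → F) → (Fin k → F) → F} (hf : Cfsg.Geo.IsUnitaryFormPow q f) {c : F} (hc : σ c = c) (hc0 : c ≠ 0) :
    Herm.IsHerm (formMap σ hσq hf c) where
  toIsInvol := hσ
  symm x y := by rw [formMap_apply, formMap_apply, map_mul, hc, hσq, ← hf.herm]
  nondeg x hx := by
    by_contra hne
    obtain ⟨y, hy⟩ := (hf.nondegenerate x hne).1
    exact hy ((mul_eq_zero.1 (hx y)).resolve_left hc0)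

/-- maximality in the special unitary group from the isotropic centres, with the determinant of the outside element -/
theorem isMaximalIn_suGL_det {σ : F →+* F} (hσ : Herm.IsInvol σ) (hσq : ∀ x, σ x = x ^ q) (hn : 4 ≤ n)
    (K : Subgroup (GL (Fin n) F))
    (hproper : ∃ (v : Fin n → F) (hv : hermB n σ v v = 0) (c : F), c + σ c = 0 ∧
      (glEquiv (Fin n) F).symm (Herm.tvU hv c) ∉ K)
    (h : ∀ M : Subgroup ((Fin n → F) ≃ₗ[F] (Fin n → F)),
      (∀ g : (Fin n → F) ≃ₗ[F] (Fin n → F), (∀ x y, hermB n σ (g x) (g y) = hermB n σ x y) →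
        LinearMap.det g.toLinearMap = 1 → (glEquiv (Fin n) F).symm g ∈ K → g ∈ M) →
      (∀ g ∈ M, (∀ x y, hermB n σ (g x) (g y) = hermB n σ x y) ∧ LinearMap.det g.toLinearMap = 1) →
      (∃ g ∈ M, (glEquiv (Fin n) F).symm g ∉ K) →
      ∀ v, hermB n σ v v = 0 → v ∈ Unitary.centres (hermB n σ) M) :
    Cfsg.Geo.IsMaximalIn (Cfsg.GU n F q ⊓ Cfsg.Geo.specialLinear (Fin n) F)
      (K ⊓ (Cfsg.GU n F q ⊓ Cfsg.Geo.specialLinear (Fin n) F)) := by
  have hB := hermB_isHerm (n := n) hσ
  constructor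
  · refine lt_of_le_of_ne inf_le_right fun heq => ?_
    obtain ⟨v, hv, c, hc, hvc⟩ := hproper
    refine hvc (heq.ge ((Unitary.glEquiv_mem_iff hσq _).2 ?_)).1
    rw [MulEquiv.apply_symm_apply]
    have := Herm.tvU_mem hB hv hc
    exact ⟨this.1, by simpa [Units.ext_iff] using this.2⟩
  · intro M hM1 hM2
    by_cases hle : M ≤ K
    · exact Or.inl (le_antisymm (le_inf hle hM2) hM1)
    refine Or.inr (le_antisymm hM2 fun k hk => ?_)
    obtain ⟨g, hg, hgK⟩ := SetLike.not_le_iff_exists.1 hle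
    have hall := h (M.map (glEquiv (Fin n) F).toMonoidHom)
      (fun g hgi hgd hgK => ⟨_, hM1 ⟨hgK, (Unitary.glEquiv_mem_iff hσq _).2
        (by rw [MulEquiv.apply_symm_apply]; exact ⟨hgi, hgd⟩)⟩, MulEquiv.apply_symm_apply _ g⟩)
      (by rintro _ ⟨g', hg', rfl⟩; exact (Unitary.glEquiv_mem_iff hσq g').1 (hM2 hg'))
      ⟨_, Subgroup.mem_map_of_mem _ hg, by
        rw [MulEquiv.coe_toMonoidHom, MulEquiv.symm_apply_apply]; exact hgK⟩
    obtain ⟨k', hk', e⟩ := Unitary.suG_le hB (by rw [Module.finrank_fin_fun]; exact hn) hall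
      (Unitary.mem_suG hB ((Unitary.glEquiv_mem_iff hσq k).1 hk).1 ((Unitary.glEquiv_mem_iff hσq k).1 hk).2)
    exact (glEquiv (Fin n) F).injective e ▸ hk'

/-- the stabiliser of a tensor decomposition of the unitary space is maximal -/
theorem isMaximal_tensor {n₁ n₂ : ℕ} (hF : Fintype.card F = q ^ 2) (hn : 6 ≤ n) (h1 : 2 ≤ n₁) (h12 : n₁ < n₂)
    (hex : ¬ (n₁ = 2 ∧ q = 2)) (e : Fin n ≃ Fin n₁ × Fin n₂) (P : GL (Fin n) F)
    (f₁ : (Fin n₁ → F) → (Fin n₁ → F) → F) (f₂ : (Fin n₂ → F) → (Fin n₂ → F) → F)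
    (hf₁ : Cfsg.Geo.IsUnitaryFormPow q f₁) (hf₂ : Cfsg.Geo.IsUnitaryFormPow q f₂)
    (hT : Cfsg.Geo.IsTensorFormStructure (fun x : F => x ^ q) (Cfsg.hermForm n F q) f₁ f₂ e P) :
    Cfsg.Geo.IsMaximalIn (Cfsg.GU n F q ⊓ Cfsg.Geo.specialLinear (Fin n) F)
      (Cfsg.Geo.tensorProductSubgroup n₁ n₂ e P ⊓ (Cfsg.GU n F q ⊓ Cfsg.Geo.specialLinear (Fin n) F)) := by
  classical
  obtain ⟨σ, hσq, hσ, hcard, hq⟩ := exists_powHom hF
  have hB := hermB_isHerm (n := n) hσ
  have hadd : ∀ {k : ℕ} {f : (Fin k → F) → (Fin k → F) → F} (_ : Cfsg.Geo.IsUnitaryFormPow q f) (v x y : Fin k → F),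
      f v (x + y) = f v x + f v y := fun {k f} hf v x y => by
    have := LinearMap.congr_fun ((formMap σ hσq hf 1).map_add x y) v
    rwa [LinearMap.add_apply, formMap_apply, formMap_apply, formMap_apply, one_mul, one_mul, one_mul] at this
  have hsmul : ∀ {k : ℕ} {f : (Fin k → F) → (Fin k → F) → F} (_ : Cfsg.Geo.IsUnitaryFormPow q f) (a : F)
      (v x : Fin k → F), f v (a • x) = a ^ q * f v x := fun {k f} hf a v x => by
    have := LinearMap.congr_fun ((formMap σ hσq hf 1).map_smulₛₗ a x) v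
    rwa [LinearMap.smul_apply, formMap_apply, formMap_apply, one_mul, one_mul, smul_eq_mul, hσq] at this
  obtain ⟨c, hc0, hform⟩ := NotMax.form_pureT (fun x : F => x ^ q) (fun a b => mul_pow a b q) hT
    (NotMax.formOfGram_bilinear _ hf₁.add_left hf₁.smul_left (hadd hf₁) (hsmul hf₁))
    (NotMax.formOfGram_bilinear _ hf₂.add_left hf₂.smul_left (hadd hf₂) (hsmul hf₂))
  set pt := (NotMax.pureT e P).flip with hpt
  have hform' : ∀ u w u' w', hermB n σ (pt u w) (pt u' w') = c * (f₁ w' w * f₂ u' u) := fun u w u' w' => by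
    rw [← hermForm_eq hσq]; exact hform _ _ _ _
  have hcσ : σ c = c := by
    obtain ⟨w, w', hw⟩ : ∃ w w', f₁ w' w ≠ 0 := by
      haveI : Nonempty (Fin n₁) := ⟨⟨0, by omega⟩⟩
      obtain ⟨x, hx⟩ := exists_ne (0 : Fin n₁ → F)
      obtain ⟨y, hy⟩ := (hf₁.nondegenerate x hx).2
      exact ⟨y, x, hy⟩
    obtain ⟨u, u', hu⟩ : ∃ u u', f₂ u' u ≠ 0 := by
      haveI : Nonempty (Fin n₂) := ⟨⟨0, by omega⟩⟩
      obtain ⟨x, hx⟩ := exists_ne (0 : Fin n₂ → F)
      obtain ⟨y, hy⟩ := (hf₂.nondegenerate x hx).2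
      exact ⟨y, x, hy⟩
    have h := hB.symm (pt u w) (pt u' w')
    rw [hform', hform', map_mul, map_mul, hσq (f₁ w' w), ← hf₁.herm, hσq (f₂ u' u), ← hf₂.herm] at h
    refine mul_right_cancel₀ (mul_ne_zero ?_ ?_) h
    · intro h0; exact hw (by rw [hf₁.herm, h0, zero_pow (by omega)])
    · intro h0; exact hu (by rw [hf₂.herm, h0, zero_pow (by omega)])
  set A := formMap σ hσq hf₂ c
  set C := formMap σ hσq hf₁ 1
  have hprod : ∀ u w u' w', hermB n σ (pt u w) (pt u' w') = A u u' * C w w' := fun u w u' w' => by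
    rw [hform', formMap_apply, formMap_apply]; ring
  have hFr : Frame (hermB n σ) A C pt := by
    refine ⟨hB, formMap_isHerm hσ hσq hf₂ hcσ hc0, formMap_isHerm hσ hσq hf₁ (map_one σ) one_ne_zero, hprod, ?_, ?_⟩
    · intro z hz
      refine hB.nondeg z fun w => (Herm.eq_zero_comm hB).1 ?_
      obtain ⟨w, rfl⟩ : ∃ w', (P : Matrix (Fin n) (Fin n) F).mulVec w' = w :=
        ⟨((P⁻¹ : GL (Fin n) F) : Matrix (Fin n) (Fin n) F).mulVec w, by
          rw [Matrix.mulVec_mulVec, ← Units.val_mul, mul_inv_cancel, Units.val_one, Matrix.one_mulVec]⟩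
      rw [show w = ∑ i, w i • (Pi.single i (1 : F) : Fin n → F) from pi_eq_sum_univ' w, Matrix.mulVec_sum, map_sum,
        LinearMap.sum_apply]
      refine Finset.sum_eq_zero fun i _ => ?_
      rw [Matrix.mulVec_smul, map_smulₛₗ, LinearMap.smul_apply, ← SpTensor.pureT_single e P i]
      rw [show NotMax.pureT e P (Pi.single (e i).1 1) (Pi.single (e i).2 1) =
        pt (Pi.single (e i).2 1) (Pi.single (e i).1 1) from rfl, hz, smul_zero]
    · intro a b
      obtain ⟨G, -, hG⟩ := SpTensor.exists_tensor e P b a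
      refine ⟨glEquiv (Fin n) F G, fun x y => ?_⟩
      rw [← symm_mulVec, MulEquiv.symm_apply_apply]
      exact hG y x
  have h5 : 3 ≤ n₂ := by omega
  have hd : Dims σ (Fin n₂ → F) (Fin n₁ → F) := by
    refine ⟨?_, ?_, ?_, ?_⟩ <;> simp only [Module.finrank_fintype_fun_eq_card, Fintype.card_fin]
    · exact h1
    · exact h12
    · exact h5
    · intro h2
      have hq2 : q ≠ 2 := fun h => hex ⟨h2, h⟩
      by_contra! hno
      letI := Fintype.ofFinite (Herm.fixField σ)
      have hsub : (Finset.univ : Finset (Herm.fixField σ)) ⊆ {0, 1} := fun k _ => by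
        rcases eq_or_ne k 0 with hk | hk
        · simp [hk]
        · have := hno (k : F) k.2 (fun h => hk (Subtype.ext h))
          simp [show k = 1 from Subtype.ext this]
      have := (Finset.card_le_card hsub).trans Finset.card_le_two
      rw [Finset.card_univ, ← Nat.card_eq_fintype_card, hcard] at this
      omega
  haveI : Nontrivial (Fin n₂ → F) := Module.nontrivial_of_finrank_pos (R := F) (by
    rw [Module.finrank_fintype_fun_eq_card, Fintype.card_fin]; omega)
  haveI : Nontrivial (Fin n₁ → F) := Module.nontrivial_of_finrank_pos (R := F) (by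
    rw [Module.finrank_fintype_fun_eq_card, Fintype.card_fin]; omega)
  -- elements preserving the decomposition are in the stabiliser
  have hmem : ∀ g, InN pt g → (glEquiv (Fin n) F).symm g ∈ Cfsg.Geo.tensorProductSubgroup n₁ n₂ e P := by
    intro g hg
    obtain ⟨a, b, hg⟩ := hg
    have ha : Function.Injective a := (injective_iff_map_eq_zero a).2 fun x hx => by
      by_contra hx0
      obtain ⟨y, hy⟩ := exists_ne (0 : Fin n₁ → F)
      refine hy (hFr.pt_injective hx0 (g.injective ?_))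
      rw [hg, hx, map_zero pt, LinearMap.zero_apply, map_zero (pt x), map_zero g]
    have hb : Function.Injective b := (injective_iff_map_eq_zero b).2 fun y hy => by
      obtain ⟨x, hx⟩ := exists_ne (0 : Fin n₂ → F)
      refine hFr.pt_injective hx (g.injective ?_)
      rw [hg, hy, map_zero (pt (a x)), map_zero (pt x), map_zero g]
    obtain ⟨G, hGK, hG⟩ := SpTensor.exists_tensor e P (LinearEquiv.ofInjectiveEndo b hb) (LinearEquiv.ofInjectiveEndo a ha)
    suffices g = glEquiv (Fin n) F G by rwa [this, MulEquiv.symm_apply_apply]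
    refine hFr.ext_equiv fun x y => ?_
    rw [← symm_mulVec (glEquiv (Fin n) F G), MulEquiv.symm_apply_apply]
    exact (hg x y).trans (hG y x).symm
  refine isMaximalIn_suGL_det hσ hσq (by omega) _ ?_ fun M hM hMs hg => ?_
  · -- a transvection is outside
    obtain ⟨v, -, hv0, hv⟩ := exists_iso_mem hB (S := (⊤ : Submodule F (Fin n → F))) (by
      rw [finrank_top, Module.finrank_fintype_fun_eq_card, Fintype.card_fin]; omega)
    obtain ⟨k, hk0, hk⟩ := Herm.exists_skew hσ
    refine ⟨v, hv, k, by rw [hk, add_neg_cancel], fun hmemK => ?_⟩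
    obtain ⟨a, b, hab⟩ := NotMax.exists_pair e P hmemK
    have hN : InN pt (Herm.tvU hv k) := ⟨Matrix.mulVecLin b.val, Matrix.mulVecLin a.val, fun x y => by
      rw [← symm_mulVec, Matrix.mulVecLin_apply, Matrix.mulVecLin_apply]; exact hab y x⟩
    obtain ⟨z, hz⟩ : ∃ z, hermB n σ v z ≠ 0 := by
      by_contra! h
      exact hv0 (hB.nondeg v h)
    obtain ⟨w, hw0, hw⟩ := hFr.range_inN hd.lt hN (fun h1 => by
      have := LinearEquiv.congr_fun h1 z
      rw [Herm.tvU_apply] at this
      exact smul_ne_zero (mul_ne_zero hk0 hz) hv0 (add_eq_left.1 this))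
      (R := F ∙ v) (fun z => by
        rw [Herm.tvU_apply, add_sub_cancel_left]; exact Submodule.smul_mem _ _ (Submodule.mem_span_singleton_self v))
      (by rw [finrank_span_singleton hv0]; have := hd.two; omega)
    have := hFr.finrank_R hw0
    rw [hw, finrank_span_singleton hv0] at this
    have := hd.two
    omega
  · obtain ⟨g, hgM, hgK⟩ := hg
    have hO : Over (hermB n σ) pt M := ⟨fun g hg => (hMs g hg).1, fun g hg => (hMs g hg).2,
      fun g hgi hgN hgd => hM g hgi hgd (hmem g hgN)⟩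
    have hDone : Done (hermB n σ) M := by
      by_contra hD
      exact hgK (hmem g (hO.inN hFr hd hD hgM))
    exact hDone

end Cfsg.Agent.ClassicalMax.UnTensor
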