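import Cfsg.Agent.ClassicalMax.UnTensor.Criterion
import Cfsg.Agent.UnitDec.Basic

/-!
Overgroups of the stabiliser of a unitary tensor decomposition: the pure isotropic centres generate all.
-/

set_option autoImplicit false
set_option linter.unusedSectionVars false
set_option linter.style.haveILetI false

namespace Cfsg.Agent.ClassicalMax.UnTensor

open Module Cfsg.Agent.Classical Cfsg.Agent.ClassicalMax

variable {F U W V : Type*} [Field F] [Finite F] [AddCommGroup U] [Module F U] [AddCommGroup W] [Module F W]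
  [AddCommGroup V] [Module F V] [FiniteDimensional F U] [FiniteDimensional F W] [FiniteDimensional F V]
  {σ : F →+* F} {B : V →ₛₗ[σ] V →ₗ[F] F} {A : U →ₛₗ[σ] U →ₗ[F] F} {C : W →ₛₗ[σ] W →ₗ[F] F}
  {pt : U →ₗ[F] W →ₗ[F] V} {X : Subgroup (V ≃ₗ[F] V)}

/-- a non-degenerate subspace of dimension at least four all of whose isotropic vectors are centres -/
structure Good (B : V →ₛₗ[σ] V →ₗ[F] F) (X : Subgroup (V ≃ₗ[F] V)) (H : Submodule F V) : Prop where
  nd : ∀ h ∈ H, (∀ h' ∈ H, B h h' = 0) → h = 0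
  four : 4 ≤ finrank F H
  cen : ∀ h ∈ H, B h h = 0 → h ∈ Unitary.centres B X

variable (hB : Herm.IsHerm B) (hiso : ∀ g ∈ X, ∀ x y, B (g x) (g y) = B x y) {H : Submodule F V}
include hB

/-- the orthogonal of two vectors inside a large non-degenerate subspace is not totally isotropic -/
theorem Good.exists_aniso (hH : Good B X H) {a : V} (haH : a ∈ H) (haa : B a a ≠ 0) (b : V) :
    ∃ w ∈ H, B a w = 0 ∧ B b w = 0 ∧ B w w ≠ 0 := by
  set K := H ⊓ LinearMap.ker (B a) ⊓ LinearMap.ker (B b) with hK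
  by_contra! hall
  have hzero : ∀ k ∈ K, ∀ k' ∈ K, B k k' = 0 := by
    by_contra! hne
    obtain ⟨k, hk, k', hk', hne⟩ := hne
    obtain ⟨w, hw, hw'⟩ := Herm.exists_anisotropic hB K ⟨k, hk, k', hk', hne⟩
    exact hw' (hall w hw.1.1 hw.1.2 hw.2)
  have h1 := Unitary.finrank_ker_inf H (B a)
  have h2 := Unitary.finrank_ker_inf (H ⊓ LinearMap.ker (B a)) (B b)
  rw [← hK] at h2
  -- a subspace orthogonal to itself has at most half the dimension
  let B₀ : H →ₛₗ[σ] H →ₗ[F] F := (B.compl₂ H.subtype).comp H.subtype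
  have hB₀ : Herm.IsHerm B₀ :=
    { toIsInvol := hB.toIsInvol
      symm := fun x y => hB.symm _ _
      nondeg := fun x hx => Subtype.ext (hH.nd x x.2 fun h' hh' => hx ⟨h', hh'⟩) }
  have hKH : K ≤ H := inf_le_left.trans inf_le_left
  set K₀ := K.comap H.subtype with hK₀
  have hdim : finrank F K₀ = finrank F K := (Submodule.comapSubtypeEquivOfLe hKH).finrank_eq
  have h3 := finrank_orth_add hB₀ K₀
  have h4 : K₀ ≤ orth B₀ K₀ := fun k hk l hl => hzero _ hl _ hk
  have h5 := Submodule.finrank_mono h4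
  have := hH.four
  have h6 : K₀ = orth B₀ K₀ := Submodule.eq_of_le_of_finrank_le h4 (by omega)
  have h7 : (⟨a, haH⟩ : H) ∈ K₀ := by
    rw [h6]
    intro l hl
    exact (Herm.eq_zero_comm hB).1 hl.1.2
  exact haa (hzero a h7 a h7)

include hiso

/-- transvections inside a good subspace carry a vector to an independent one of the same norm -/
theorem Good.move_indep (hH : Good B X H) {h₀ h₁ : V} (hh₀ : h₀ ∈ H) (hh₁ : h₁ ∈ H) (hN : B h₁ h₁ = B h₀ h₀)
    (hne : B h₀ h₀ ≠ 0) (hind : LinearIndependent F ![h₀, h₁]) :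
    ∃ g ∈ X, g h₀ = h₁ ∧ ∀ e, (∀ h ∈ H, B h e = 0) → g e = e := by
  set N := B h₀ h₀ with hN₀
  have hσN : σ N = N := Herm.fix_self hB h₀
  obtain ⟨k, hk0, hk⟩ := Herm.exists_skew hB.toIsInvol
  let B₀ : H →ₛₗ[σ] H →ₗ[F] F := (B.compl₂ H.subtype).comp H.subtype
  have hB₀ : Herm.IsHerm B₀ :=
    { toIsInvol := hB.toIsInvol
      symm := fun x y => hB.symm _ _
      nondeg := fun x hx => Subtype.ext (hH.nd x x.2 fun h' hh' => hx ⟨h', hh'⟩) }
  -- a vector with given pairings
  obtain ⟨p, hp, hp₀, hp₁⟩ : ∃ p ∈ H, B h₀ p = N + k ∧ B h₁ p = N + k := by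
    let T : H →ₗ[F] (Fin 2 → F) := LinearMap.pi ![(B h₀).comp H.subtype, (B h₁).comp H.subtype]
    have hT : LinearMap.range T = ⊤ := by
      by_contra hne
      obtain ⟨φ, hφ, hle⟩ := (LinearMap.range T).exists_le_ker_of_lt_top (lt_top_iff_ne_top.2 hne)
      refine hφ (LinearMap.ext fun c => ?_)
      have key : ∀ x, φ (T x) = 0 := fun x => LinearMap.mem_ker.1 (hle ⟨x, rfl⟩)
      have hz : σ (φ (Pi.single 0 1)) • h₀ + σ (φ (Pi.single 1 1)) • h₁ = 0 := by
        refine hH.nd _ (H.add_mem (H.smul_mem _ hh₀) (H.smul_mem _ hh₁)) fun y hy => ?_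
        have := key ⟨y, hy⟩
        rw [pi_eq_sum_univ' (T ⟨y, hy⟩), map_sum, Fin.sum_univ_two] at this
        simp only [map_smul, smul_eq_mul] at this
        simp only [map_add, map_smulₛₗ, LinearMap.add_apply, LinearMap.smul_apply, smul_eq_mul, hB.invol]
        rw [← this]
        simp [T]
        ring
      obtain ⟨e0, e1⟩ := LinearIndependent.pair_iff.1 hind _ _ hz
      rw [pi_eq_sum_univ' c, map_sum, LinearMap.zero_apply, Fin.sum_univ_two, map_smul, map_smul,
        (map_eq_zero σ).1 e0, (map_eq_zero σ).1 e1, smul_zero, smul_zero, add_zero]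
    obtain ⟨p, hp⟩ : (fun _ => N + k) ∈ LinearMap.range T := by rw [hT]; trivial
    exact ⟨p, p.2, congrFun hp 0, congrFun hp 1⟩
  obtain ⟨w, hw, hw₀, hw₁, hww⟩ := hH.exists_aniso hB hh₀ (by exact hne) h₁
  -- adjust the norm
  obtain ⟨t, ht⟩ := Herm.exists_norm hB.toIsInvol (a := ((N - B p p) + B p w * σ (B p w) / B w w) / B w w) (by
    simp only [map_div₀, map_add, map_sub, map_mul, hσN, Herm.fix_self hB, hB.invol]
    rw [mul_comm (σ (B p w))])
  set h₂ := p + (t - σ (B p w) / B w w) • w with hh₂def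
  have hh₂ : h₂ ∈ H := H.add_mem hp (H.smul_mem _ hw)
  have h02 : B h₀ h₂ = N + k := by rw [hh₂def, map_add, map_smul, hw₀, smul_zero, add_zero, hp₀]
  have h12 : B h₁ h₂ = N + k := by rw [hh₂def, map_add, map_smul, hw₁, smul_zero, add_zero, hp₁]
  have h22 : B h₂ h₂ = N := by
    simp only [hh₂def, map_add, map_smulₛₗ, map_sub, map_div₀, LinearMap.add_apply, LinearMap.smul_apply, smul_eq_mul,
      RingHom.id_apply, hB.invol, Herm.fix_self hB]
    rw [← hB.symm p w]
    have e := eq_div_iff hww |>.1 ht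
    field_simp
    field_simp at e
    linear_combination e
  have hmove : ∀ a b : V, a ∈ H → b ∈ H → B a a = N → B b b = N → B b a - N ≠ 0 → B a b + B b a = 2 * N →
      ∃ g ∈ X, g a = b ∧ ∀ e, (∀ h ∈ H, B h e = 0) → g e = e := by
    intro a b ha hb haa hbb hne htr
    have hd : B (b - a) (b - a) = 0 := by
      simp only [map_sub, LinearMap.sub_apply, haa, hbb]
      linear_combination -htr
    obtain ⟨c, hc, e⟩ := exists_move hB (hbb.trans haa.symm) hd (by rwa [map_sub, LinearMap.sub_apply, haa])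
    refine ⟨_, (hH.cen _ (H.sub_mem hb ha) hd).2 hd c hc, e, fun e he => ?_⟩
    rw [Herm.tvU_apply, he _ (H.sub_mem hb ha), mul_zero, zero_smul, add_zero]
  have h20 : B h₂ h₀ = N - k := by rw [← hB.symm, h02, map_add, hσN, hk, sub_eq_add_neg]
  have h21 : B h₂ h₁ = N - k := by rw [← hB.symm, h12, map_add, hσN, hk, sub_eq_add_neg]
  obtain ⟨g, hg, hg0, hge⟩ := hmove h₀ h₂ hh₀ hh₂ rfl h22 (by rw [h20, sub_sub_cancel_left, neg_ne_zero]; exact hk0)
    (by rw [h02, h20]; ring)
  obtain ⟨g', hg', hg'2, hg'e⟩ := hmove h₂ h₁ hh₂ hh₁ h22 hN (by rw [h12, add_sub_cancel_left]; exact hk0)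
    (by rw [h12, h21]; ring)
  exact ⟨g' * g, mul_mem hg' hg, by rw [LinearEquiv.mul_apply, hg0, hg'2],
    fun e he => by rw [LinearEquiv.mul_apply, hge e he, hg'e e he]⟩

/-- transvections inside a good subspace are transitive on the vectors of one non-zero norm -/
theorem Good.move (hH : Good B X H) {h₀ h₁ : V} (hh₀ : h₀ ∈ H) (hh₁ : h₁ ∈ H) (hN : B h₁ h₁ = B h₀ h₀)
    (h0 : B h₀ h₀ ≠ 0) : ∃ g ∈ X, g h₀ = h₁ ∧ ∀ e, (∀ h ∈ H, B h e = 0) → g e = e := by
  by_cases hind : LinearIndependent F ![h₀, h₁]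
  · exact hH.move_indep hB hiso hh₀ hh₁ hN h0 hind
  obtain ⟨w, hw, hw₀, -, hww⟩ := hH.exists_aniso hB hh₀ h0 h₀
  obtain ⟨t, ht⟩ := Herm.exists_norm hB.toIsInvol (a := B h₀ h₀ / B w w)
    (by rw [map_div₀, Herm.fix_self hB, Herm.fix_self hB])
  set h' := t • w with hh'
  have h'N : B h' h' = B h₀ h₀ := by rw [hh', Herm.smul_self hB, ht, div_mul_cancel₀ _ hww]
  have h0' : B h₀ h' = 0 := by rw [hh', map_smul, hw₀, smul_zero]
  have hi : LinearIndependent F ![h₀, h'] := by
    refine LinearIndependent.pair_iff.2 fun a b e => ?_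
    have e1 := congrArg (B h₀) e
    rw [map_add, map_smul, map_smul, h0', smul_zero, add_zero, map_zero, smul_eq_mul, mul_eq_zero] at e1
    have ha : a = 0 := e1.resolve_right h0
    rw [ha, zero_smul, zero_add, smul_eq_zero] at e
    exact ⟨ha, e.resolve_right fun hz => h0 (by rw [← h'N, hz, map_zero])⟩
  have hne : h₀ ≠ 0 := fun hz => h0 (by rw [hz, map_zero])
  obtain ⟨l, rfl⟩ : ∃ l : F, l • h₀ = h₁ := by
    rw [LinearIndependent.pair_iff' hne] at hind
    push Not at hind
    exact hind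
  have hi' : LinearIndependent F ![h', l • h₀] := by
    have hl : l ≠ 0 := fun hl => h0 (by rw [← hN, hl, zero_smul, map_zero])
    refine LinearIndependent.pair_iff.2 fun a b e => ?_
    have := LinearIndependent.pair_iff.1 hi (b * l) a (by rw [mul_smul, add_comm, e])
    exact ⟨this.2, (mul_eq_zero.1 this.1).resolve_right hl⟩
  obtain ⟨g, hg, e, hge⟩ := hH.move_indep hB hiso hh₀ (H.smul_mem _ hw) h'N h0 hi
  obtain ⟨g', hg', e', hg'e⟩ := hH.move_indep hB hiso (H.smul_mem _ hw) hh₁ (hN.trans h'N.symm) (by rw [h'N]; exact h0) hi'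
  exact ⟨g' * g, mul_mem hg' hg, by rw [LinearEquiv.mul_apply, e, e'],
    fun e he => by rw [LinearEquiv.mul_apply, hge e he, hg'e e he]⟩

/-- a good subspace is enlarged by an orthogonal unit vector appearing in one centre -/
theorem Good.insert (hH : Good B X H) {e h' : V} (he : ∀ h ∈ H, B h e = 0) (hee : B e e = 1) (hh' : h' ∈ H)
    (hv : h' + e ∈ Unitary.centres B X) : Good B X (H ⊔ F ∙ e) := by
  have he' : ∀ h ∈ H, B e h = 0 := fun h hh => (Herm.eq_zero_comm hB).1 (he h hh)
  refine ⟨fun x hx hperp => ?_, hH.four.trans (Submodule.finrank_mono le_sup_left), fun x hx hxx => ?_⟩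
  · obtain ⟨h, hh, y, hy, rfl⟩ := Submodule.mem_sup.1 hx
    obtain ⟨z, rfl⟩ := Submodule.mem_span_singleton.1 hy
    have h1 := hperp e (Submodule.mem_sup_right (Submodule.mem_span_singleton_self e))
    simp [he h hh, hee] at h1
    rw [h1, zero_smul, add_zero] at hperp ⊢
    exact hH.nd h hh fun h'' hh'' => hperp h'' (Submodule.mem_sup_left hh'')
  · obtain ⟨h, hh, y, hy, rfl⟩ := Submodule.mem_sup.1 hx
    obtain ⟨z, rfl⟩ := Submodule.mem_span_singleton.1 hy
    rcases eq_or_ne z 0 with rfl | hz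
    · rw [zero_smul, add_zero] at hxx ⊢
      exact hH.cen h hh hxx
    suffices z⁻¹ • h + e ∈ Unitary.centres B X by
      have h2 := Unitary.smul_mem_centres hB this z
      rwa [smul_add, smul_inv_smul₀ hz] at h2
    have hhz : z⁻¹ • h ∈ H := H.smul_mem _ hh
    have hn : B h h = -(z * σ z) := by
      simp [he h hh, he' h hh, hee] at hxx
      linear_combination hxx
    have hn' : B h' h' = -1 := by
      have := hv.1
      simp [he h' hh', he' h' hh', hee] at this
      linear_combination this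
    obtain ⟨g, hg, hgh, hge⟩ := hH.move hB hiso hh' hhz (by
      rw [Herm.smul_self hB, hn, hn', map_inv₀]
      have := (map_ne_zero σ).2 hz
      field_simp) (by rw [hn']; exact neg_ne_zero.2 one_ne_zero)
    have := Unitary.map_mem_centres hB hv hg (hiso g hg)
    rwa [map_add, hgh, hge e he] at this

omit hB hiso

variable (hO : Over B pt X) (hF : Frame B A C pt)
include hO hF

/-- pure vectors with one isotropic factor as centres give all -/
theorem Over.done_of_pure (hd : Dims σ U W) (hU : 4 ≤ finrank F U) (hP : ∀ x y, A x x = 0 → pt x y ∈ Unitary.centres B X)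
    (hQ : ∀ x y, C y y = 0 → pt x y ∈ Unitary.centres B X) : Done B X := by
  classical
  have hB := hF.hB
  obtain ⟨a, ha⟩ := Herm.exists_orthonormal hF.hA
  obtain ⟨b, hb⟩ := Herm.exists_orthonormal hF.hC
  haveI : NeZero (finrank F W) := ⟨by have := hd.two; omega⟩
  obtain ⟨γ, -, hγ⟩ := Herm.exists_neg_one_norm hF.hA
  set H₀ := LinearMap.range (pt.flip (b 0)) with hH₀
  have hgood : Good B X H₀ := by
    refine ⟨?_, ?_, ?_⟩
    · rintro _ ⟨x, rfl⟩ hperp
      have : x = 0 := hF.hA.nondeg x fun x' => by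
        have := hperp _ ⟨x', rfl⟩
        rwa [LinearMap.flip_apply, LinearMap.flip_apply, hF.prod, hb, if_pos rfl, mul_one] at this
      rw [this, map_zero]
    · rw [hH₀, LinearMap.finrank_range_of_inj (hF.swap.pt_injective (b.ne_zero 0))]
      exact hU
    · rintro _ ⟨x, rfl⟩ hxx
      rw [LinearMap.flip_apply, hF.prod, hb, if_pos rfl, mul_one] at hxx
      exact hP x _ hxx
  have key : ∀ S : Finset (Fin (finrank F U) × Fin (finrank F W)), ∃ H, Good B X H ∧ H₀ ≤ H ∧
      (∀ p ∈ S, pt (a p.1) (b p.2) ∈ H) ∧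
      ∀ i j, j ≠ 0 → (i, j) ∉ S → ∀ h ∈ H, B h (pt (a i) (b j)) = 0 := by
    intro S
    induction S using Finset.induction with
    | empty =>
      refine ⟨H₀, hgood, le_rfl, by simp, fun i j hj _ h hh => ?_⟩
      obtain ⟨x, rfl⟩ := hh
      rw [LinearMap.flip_apply, hF.prod, hb, if_neg (Ne.symm hj), mul_zero]
    | insert p S hpS ih =>
      obtain ⟨H, hH, h0, hS, hperp⟩ := ih
      by_cases hp : p.2 = 0
      · refine ⟨H, hH, h0, fun q hq => ?_, fun i j hj hn => hperp i j hj fun hm => hn (Finset.mem_insert_of_mem hm)⟩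
        rcases Finset.mem_insert.1 hq with rfl | hq
        · exact h0 ⟨a q.1, by rw [hp]; rfl⟩
        · exact hS q hq
      set e := pt (a p.1) (b p.2) with he
      have hee : B e e = 1 := by rw [he, hF.prod, ha, hb, if_pos rfl, if_pos rfl, mul_one]
      have hv : γ • pt (a p.1) (b 0) + e ∈ Unitary.centres B X := by
        have := hQ (a p.1) (γ • b 0 + b p.2) (by
          simp [hb _ _, hp, Ne.symm hp]
          linear_combination hγ)
        rwa [map_add, map_smul] at this
      refine ⟨H ⊔ F ∙ e, hH.insert hB hO.iso (hperp _ _ hp hpS) hee (H.smul_mem _ (h0 ⟨a p.1, rfl⟩)) hv,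
        h0.trans le_sup_left, fun q hq => ?_, fun i j hj hn h hh => ?_⟩
      · rcases Finset.mem_insert.1 hq with rfl | hq
        · exact Submodule.mem_sup_right (Submodule.mem_span_singleton_self e)
        · exact Submodule.mem_sup_left (hS q hq)
      · obtain ⟨h₁, hh₁, y, hy, rfl⟩ := Submodule.mem_sup.1 hh
        obtain ⟨z, rfl⟩ := Submodule.mem_span_singleton.1 hy
        rw [map_add, LinearMap.add_apply, hperp i j hj (fun hm => hn (Finset.mem_insert_of_mem hm)) h₁ hh₁,
          map_smulₛₗ, LinearMap.smul_apply, he, hF.prod, ha, hb, zero_add]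
        have : ¬ (p.1 = i ∧ p.2 = j) := fun ⟨e1, e2⟩ => hn (Finset.mem_insert.2 (Or.inl (Prod.ext e1.symm e2.symm)))
        by_cases h1 : p.1 = i
        · rw [if_neg fun h2 => this ⟨h1, h2⟩, mul_zero, smul_zero]
        · rw [if_neg h1, zero_mul, smul_zero]
  obtain ⟨H, hH, -, hall, -⟩ := key Finset.univ
  have htop : H = ⊤ := top_le_iff.1 (hF.span_top ▸ Submodule.span_le.2 (by
    rintro _ ⟨⟨x, y⟩, rfl⟩
    show pt x y ∈ H
    rw [← a.sum_repr x, ← b.sum_repr y]
    simp only [map_sum, map_smul, LinearMap.sum_apply, LinearMap.smul_apply]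
    exact Submodule.sum_mem _ fun i _ => Submodule.smul_mem _ _ (Submodule.sum_mem _ fun j _ =>
      Submodule.smul_mem _ _ (hall (j, i) (Finset.mem_univ _)))))
  exact fun v hv => hH.cen v (htop ▸ Submodule.mem_top) hv

/-- a second factor of dimension two: pure vectors with isotropic second factor as centres give all -/
theorem Over.done_two (hW : finrank F W = 2) (hQ : ∀ x y, C y y = 0 → pt x y ∈ Unitary.centres B X) : Done B X := by
  have hB := hF.hB
  have hA := hF.hA
  have hC := hF.hC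
  obtain ⟨s, t, hs, ht, hst, hts⟩ := exists_pair hC (by omega)
  have hdec : ∀ y : W, y = C t y • s + C s y • t := by
    intro y
    have hli : LinearIndependent F ![s, t] := LinearIndependent.pair_iff.2 fun a b e => by
      have e1 := congrArg (C t) e
      have e2 := congrArg (C s) e
      simp [hst, hts, hs, ht] at e1 e2
      exact ⟨e1, e2⟩
    obtain ⟨a, b, e⟩ := Submodule.mem_span_pair.1 (show y ∈ Submodule.span F ({s, t} : Set W) by
      have := hli.span_eq_top_of_card_eq_finrank (by simp [hW])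
      rw [Matrix.range_cons, Matrix.range_cons, Matrix.range_empty, Set.union_empty, Set.singleton_union] at this
      rw [this]; trivial)
    rw [← e]
    simp [hst, hts, hs, ht]
  intro v hv
  set u₁ := hF.swap.ev t v with hu₁
  set u₂ := hF.swap.ev s v with hu₂
  have hve : v = pt u₁ s + pt u₂ t := hF.swap.eq_of_ev fun y => by
    conv_lhs => rw [hdec y]
    simp only [map_add, map_smulₛₗ, LinearMap.add_apply, LinearMap.smul_apply, ← hu₁, ← hu₂,
      show pt u₁ s = pt.flip s u₁ from rfl, show pt u₂ t = pt.flip t u₂ from rfl, hF.swap.ev_pt, hC.symm]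
    abel
  have hpair : ∀ a b : U, pt a s ∈ Unitary.centres B X ∧ pt b t ∈ Unitary.centres B X := fun a b =>
    ⟨hQ a s hs, hQ b t ht⟩
  have hspan : ∀ a b : U, A a b ≠ 0 → B (pt a s + pt b t) (pt a s + pt b t) = 0 →
      pt a s + pt b t ∈ Unitary.centres B X := fun a b hab h0 => by
    have := UnitDec.span_centres hB (hpair a b).1 (hpair a b).2 (by rw [hF.prod, hst, mul_one]; exact hab) 1 1
      (by rw [one_smul, one_smul]; exact h0)
    rwa [one_smul, one_smul] at this
  rw [hve] at hv ⊢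
  by_cases h12 : A u₁ u₂ = 0
  swap
  · exact hspan _ _ h12 hv
  rcases eq_or_ne u₂ 0 with h2 | h2
  · rw [h2, map_zero pt, LinearMap.zero_apply, add_zero]
    exact (hpair u₁ u₁).1
  obtain ⟨w, hw, -⟩ := exists_pairing_one hA h2
  obtain ⟨c, hc0, hc⟩ := Herm.exists_skew hA.toIsInvol
  have hwv : B (pt w s) (pt u₁ s + pt u₂ t) = 1 := by simp [hF.prod, hs, hst, hw]
  have hmove : pt u₁ s + pt u₂ t + (c * B (pt w s) (pt u₁ s + pt u₂ t)) • pt w s = pt (u₁ + c • w) s + pt u₂ t := by
    rw [hwv, mul_one, map_add pt, map_smul pt, LinearMap.add_apply, LinearMap.smul_apply]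
    abel
  have hv' := Herm.tvU_isometry hB (hQ w s hs).1 (c := c) (by rw [hc, add_neg_cancel]) (pt u₁ s + pt u₂ t) (pt u₁ s + pt u₂ t)
  rw [Herm.tvU_apply, hmove, hv] at hv'
  have hne : A (u₁ + c • w) u₂ ≠ 0 := by
    rw [map_add, map_smulₛₗ, LinearMap.add_apply, LinearMap.smul_apply, h12, hw, zero_add, smul_eq_mul, mul_one]
    exact (map_ne_zero σ).2 hc0
  have := Unitary.move_mem_centres hB (hspan _ _ hne hv') (hpair w w).1 (c := -c) (by rw [map_neg, hc]; ring)
  convert this using 1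
  rw [show B (pt w s) (pt (u₁ + c • w) s + pt u₂ t) = 1 by simp [hF.prod, hs, hst, hw], mul_one, map_add pt,
    map_smul pt, LinearMap.add_apply, LinearMap.smul_apply, neg_smul]
  abel

/-- a non-scalar element supported on one subspace `u ⊗ W` gives every centre -/
theorem Over.rad_done (hd : Dims σ U W) {u : U} (hu0 : u ≠ 0) (hu : A u u = 0) {S : W →ₗ[F] W}
    (h : hF.rad u S ∈ X) (hS : ¬ ∃ μ : F, ∀ y, S y = μ • y) : Done B X := by
  obtain ⟨s, hs0, hs, hc⟩ := hO.pure_of_rad hF hd hu0 hu h hS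
  have hI : ∀ x y, A x x = 0 → C y y = 0 → pt x y ∈ Unitary.centres B X :=
    fun x y hx hy => hO.iso_pure hF hu0 hu hs0 hs hc hx hy
  have := hd.five
  have := hd.two
  have := hd.lt
  by_cases hk : ∃ k : F, σ k = k ∧ k ≠ 0 ∧ k ≠ 1
  · obtain ⟨k, h1, h2, h3⟩ := hk
    by_cases hU : 4 ≤ finrank F U
    swap
    · exact hO.done_two hF (by omega) fun x y hy => hO.pure_right_big hF hI (by omega) h1 h2 h3 x hy
    exact hO.done_of_pure hF hd hU (fun x y hx => hO.pure_left_big hF hI (by omega) (by omega) h1 h2 h3 hx y)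
      (fun x y hy => hO.pure_right_big hF hI (by omega) h1 h2 h3 x hy)
  push Not at hk
  have hfix : ∀ k : F, σ k = k → k = 0 ∨ k = 1 := fun k h => or_iff_not_imp_left.2 (hk k h)
  have h3 : 3 ≤ finrank F W := by
    by_contra hlt
    obtain ⟨k, h1, h2, h3⟩ := hd.hex (by omega)
    exact h3 (hk k h1 h2)
  exact hO.done_of_pure hF hd (by omega) (fun x y hx => hO.pure_left_two hF hI hfix (by omega) (by omega) hx y)
    (fun x y hy => hO.swap.pure_left_two hF.swap (fun y x hy hx => hI x y hx hy) hfix h3 (by omega) hy x)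

/-- a scalar on one subspace `u ⊗ W` -/
theorem Over.rad_scalar (hd : Dims σ U W) (hD : ¬ Done B X) {u : U} (hu0 : u ≠ 0) (hu : A u u = 0) {S : W →ₗ[F] W}
    (h : hF.rad u S ∈ X) : ∃ μ : F, ∀ y, S y = μ • y :=
  by_contra fun h' => hD (hO.rad_done hF hd hu0 hu h h')

end Cfsg.Agent.ClassicalMax.UnTensor
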