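import Cfsg.Agent.ClassicalMax.UnTensor.Frame

/-!
Overgroups of the stabiliser of a unitary tensor decomposition: one non-scalar element supported on `u ⊗ W` gives
every isotropic centre of transvections.
-/

set_option autoImplicit false
set_option linter.unusedSectionVars false
set_option linter.style.haveILetI false

namespace Cfsg.Agent.ClassicalMax.UnTensor

open Module Cfsg.Agent.Classical Cfsg.Agent.ClassicalMax

variable {F U W V : Type*} [Field F] [Finite F] [AddCommGroup U] [Module F U] [AddCommGroup W] [Module F W]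
  [AddCommGroup V] [Module F V] [FiniteDimensional F U] [FiniteDimensional F W] [FiniteDimensional F V]
  {σ : F →+* F} {B : V →ₛₗ[σ] V →ₗ[F] F} {A : U →ₛₗ[σ] U →ₗ[F] F} {C : W →ₛₗ[σ] W →ₗ[F] F}
  {pt : U →ₗ[F] W →ₗ[F] V} {X : Subgroup (V ≃ₗ[F] V)}

/-- an overgroup of the stabiliser inside the special unitary group -/
structure Over (B : V →ₛₗ[σ] V →ₗ[F] F) (pt : U →ₗ[F] W →ₗ[F] V) (X : Subgroup (V ≃ₗ[F] V)) : Prop where
  iso : ∀ g ∈ X, ∀ x y, B (g x) (g y) = B x y
  det : ∀ g ∈ X, LinearMap.det g.toLinearMap = 1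
  mem : ∀ g, (∀ x y, B (g x) (g y) = B x y) → InN pt g → LinearMap.det g.toLinearMap = 1 → g ∈ X

/-- every isotropic vector is a centre -/
def Done (B : V →ₛₗ[σ] V →ₗ[F] F) (X : Subgroup (V ≃ₗ[F] V)) : Prop :=
  ∀ v, B v v = 0 → v ∈ Unitary.centres B X

theorem Over.swap (hO : Over B pt X) : Over B pt.flip X :=
  ⟨hO.iso, hO.det, fun g hg hN hd => hO.mem g hg hN.of_flip hd⟩

theorem zero_mem_centres : (0 : V) ∈ Unitary.centres B X := ⟨by simp, fun hv c _ => by
  convert one_mem X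
  exact LinearEquiv.ext fun x => by simp [Herm.tvU_apply]⟩

variable (hO : Over B pt X) (hF : Frame B A C pt)
include hO hF

theorem Over.lt_mem {u : U} (hu : A u u = 0) {c : F} (hc : c + σ c = 0) : hF.lt u c ∈ X :=
  hO.mem _ (hF.lt_iso hu hc) (hF.lt_inN hu c) (hF.rad_det hu _)

/-- products of transvections of the first factor lift -/
theorem Over.lift_TU {a : U ≃ₗ[F] U} (ha : a ∈ Herm.TUon A ⊤) :
    ∃ k ∈ X, ∀ x y, k (pt x y) = pt (a x) y := by
  induction ha using Subgroup.closure_induction with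
  | mem t h =>
    obtain ⟨v, -, c, hv, hc, h⟩ := h
    exact ⟨_, hO.lt_mem hF hv hc, fun x y => by rw [hF.lt_pt hv, h, Herm.tvU_apply]⟩
  | one => exact ⟨1, one_mem X, fun x y => rfl⟩
  | mul a b _ _ ha hb =>
    obtain ⟨k, hk, e⟩ := ha
    obtain ⟨k', hk', e'⟩ := hb
    exact ⟨k * k', mul_mem hk hk', fun x y => by rw [LinearEquiv.mul_apply, e', e]; rfl⟩
  | inv a _ ha =>
    obtain ⟨k, hk, e⟩ := ha
    exact ⟨k⁻¹, inv_mem hk, fun x y => k.injective (by rw [apply_inv, e, apply_inv])⟩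

/-- unipotent isometries of the second factor lift -/
theorem Over.lift_unip {b : W ≃ₗ[F] W} (hb : ∀ y y', C (b y) (b y') = C y y')
    (h3 : ∀ y, b (b (b y) - b y) - (b (b y) - b y) - (b (b y - y) - (b y - y)) = 0) :
    ∃ k ∈ X, ∀ x y, k (pt x y) = pt x (b y) := by
  obtain ⟨k, hk, hkN, hkp, -⟩ := hF.exists_lift (a := LinearEquiv.refl F U) (b := b) (μ := (1 : F)) (ν := 1)
    (fun x y => (one_mul _).symm) (fun x y => (hb x y).trans (one_mul _).symm) (one_mul _)
  refine ⟨k, hO.mem k hk hkN (det_one_of_cube k fun z => ?_), hkp⟩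
  let P : V →ₗ[F] V := k.toLinearMap - LinearMap.id
  have hP : P ∘ₗ P ∘ₗ P = 0 := hF.ext_pure fun x y => by
    show k (k (k (pt x y) - pt x y) - (k (pt x y) - pt x y)) - (k (k (pt x y) - pt x y) - (k (pt x y) - pt x y)) = 0
    simp only [map_sub, hkp, LinearEquiv.refl_apply]
    have := congrArg (pt x) (h3 y)
    simp only [map_sub, map_zero] at this
    rw [← this]
  rw [← show P (P (P z)) = 0 from LinearMap.congr_fun hP z]
  simp only [P, LinearMap.sub_apply, LinearMap.id_apply, LinearEquiv.coe_coe, map_sub]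

theorem Over.ev_lift {k : V ≃ₗ[F] V} (hk : k ∈ X) {a : U → U} {b : W ≃ₗ[F] W}
    (hb : ∀ y y', C (b y) (b y') = C y y') (e : ∀ x y, k (pt x y) = pt (a x) (b y)) (v : U) (z : V) :
    hF.ev (a v) (k z) = b (hF.ev v z) := hF.eq_of_C fun y => by
  obtain ⟨y, rfl⟩ := b.surjective y
  rw [hF.C_ev, hb, hF.C_ev, ← e, hO.iso k hk]

section Rad

variable {u : U} (hu0 : u ≠ 0) (hu : A u u = 0) {S S' : W →ₗ[F] W}
include hu

theorem Over.rad_mem_add (h : hF.rad u S ∈ X) (h' : hF.rad u S' ∈ X) : hF.rad u (S + S') ∈ X :=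
  hF.rad_add hu S S' ▸ mul_mem h h'

theorem Over.rad_mem_neg (h : hF.rad u S ∈ X) : hF.rad u (-S) ∈ X := hF.rad_inv hu S ▸ inv_mem h

theorem Over.rad_mem_sub (h : hF.rad u S ∈ X) (h' : hF.rad u S' ∈ X) : hF.rad u (S - S') ∈ X := by
  rw [sub_eq_add_neg]; exact hO.rad_mem_add hF hu h (hO.rad_mem_neg hF hu h')

theorem Over.rad_conj (h : hF.rad u S ∈ X) {k : V ≃ₗ[F] V} (hk : k ∈ X) {b : W ≃ₗ[F] W}
    (hb : ∀ y y', C (b y) (b y') = C y y') (e : ∀ x y, k (pt x y) = pt x (b y)) :
    hF.rad u (b.toLinearMap ∘ₗ S ∘ₗ b.symm.toLinearMap) ∈ X := by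
  suffices hF.rad u (b.toLinearMap ∘ₗ S ∘ₗ b.symm.toLinearMap) = k * hF.rad u S * k⁻¹ by
    rw [this]; exact mul_mem (mul_mem hk h) (inv_mem hk)
  refine LinearEquiv.ext fun z => ?_
  obtain ⟨z, rfl⟩ := k.surjective z
  rw [LinearEquiv.mul_apply, LinearEquiv.mul_apply, inv_apply, hF.rad_apply hu, hF.rad_apply hu, map_add, e,
    show hF.ev u (k z) = b (hF.ev u z) from hO.ev_lift hF hk (a := id) hb e u z]
  simp

include hu0

theorem Over.rad_skew (h : hF.rad u S ∈ X) (e e' : W) : C (S e) e' + C e (S e') = 0 := by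
  obtain ⟨z, rfl⟩ := hF.ev_surjective hu0 e
  obtain ⟨z', rfl⟩ := hF.ev_surjective hu0 e'
  have := hO.iso _ h z z'
  simp only [hF.rad_apply hu, map_add, LinearMap.add_apply, hF.B_pt u z, hF.prod, hu, zero_mul, add_zero,
    ← hF.C_ev u z'] at this
  linear_combination this

theorem Over.rad_scale (hd : Dims σ U W) (h : hF.rad u S ∈ X) {μ : F} (hμ : μ ≠ 0) :
    hF.rad u ((μ * σ μ) • S) ∈ X := by
  obtain ⟨a, ha, hau⟩ := exists_TU_scale hF.hA (by have := hd.five; omega) hu0 hu hμ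
  obtain ⟨k, hk, e⟩ := hO.lift_TU hF ha
  suffices hF.rad u ((μ * σ μ) • S) = k * hF.rad u S * k⁻¹ by
    rw [this]; exact mul_mem (mul_mem hk h) (inv_mem hk)
  refine LinearEquiv.ext fun z => ?_
  obtain ⟨z, rfl⟩ := k.surjective z
  have he := hO.ev_lift hF hk (b := LinearEquiv.refl F W) (fun _ _ => rfl) e u z
  rw [hau, map_smulₛₗ, LinearMap.smul_apply, LinearEquiv.refl_apply] at he
  rw [LinearEquiv.mul_apply, LinearEquiv.mul_apply, inv_apply, hF.rad_apply hu, hF.rad_apply hu, map_add, e, hau, ← he]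
  simp only [LinearMap.smul_apply, map_smul, smul_smul, mul_comm μ]

theorem Over.rad_fix (hd : Dims σ U W) (h : hF.rad u S ∈ X) {k : F} (hk : σ k = k) : hF.rad u (k • S) ∈ X := by
  rcases eq_or_ne k 0 with rfl | hk0
  · rw [zero_smul, hF.rad_zero hu]; exact one_mem X
  obtain ⟨μ, hμ⟩ := Herm.exists_norm hF.hC.toIsInvol hk
  exact hμ ▸ hO.rad_scale hF hu0 hu hd h (fun h0 => hk0 (by rw [← hμ, h0, zero_mul]))

/-- all skew multiples of a rank one map give a centre -/
theorem Over.centre_of_rad (hd : Dims σ U W) {s : W} {c₀ : F} (hc₀ : c₀ ≠ 0) (hc₀' : c₀ + σ c₀ = 0)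
    (h : hF.rad u (c₀ • (C s).smulRight s) ∈ X) : pt u s ∈ Unitary.centres B X := by
  refine ⟨by rw [hF.prod, hu, zero_mul], fun hv c hc => ?_⟩
  have hσ : σ (c / c₀) = c / c₀ := by
    rw [map_div₀, show σ c = -c by linear_combination hc, show σ c₀ = -c₀ by linear_combination hc₀', neg_div_neg_eq]
  have := hO.rad_fix hF hu0 hu hd h hσ
  rwa [smul_smul, div_mul_cancel₀ _ hc₀, ← hF.tvU_pt hu hv] at this

end Rad

omit hO in
/-- a skew map vanishing on isotropic vectors is a scalar -/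
theorem Frame.exists_nu (hd : Dims σ U W) {S : W →ₗ[F] W} (hsk : ∀ a b, C (S a) b + C a (S b) = 0)
    (hS : ¬ ∃ μ : F, ∀ y, S y = μ • y) : ∃ s, C s s = 0 ∧ C s (S s) ≠ 0 := by
  have hC := hF.hC
  by_contra! hall
  have hflip : ∀ a b, C a (S b) = -σ (C b (S a)) := fun a b => by
    rw [hC.symm]; linear_combination hsk a b
  -- a pair: the value on it is skew, and it is orthogonal to the rest
  have key : ∀ s t, C s s = 0 → C t t = 0 → C s t = 1 →
      C s (S t) + σ (C s (S t)) = 0 ∧ ∀ z, C s z = 0 → C t z = 0 → C s (S z) = 0 := by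
    intro s t hs ht hst
    have hts : C t s = 1 := by rw [← hC.symm, hst, map_one]
    obtain ⟨k, hk0, hk⟩ := Herm.exists_skew hC.toIsInvol
    have hval : ∀ z, C s z = 0 → C t z = 0 → ∀ β, σ β + β + C z z = 0 →
        σ β * C s (S t) - β * σ (C s (S t)) + (σ β * C s (S z) - β * σ (C s (S z))) +
          (C t (S z) - σ (C t (S z))) + C z (S z) = 0 := by
      intro z hsz htz β hβ
      have hzs : C z s = 0 := (Herm.eq_zero_comm hC).1 hsz
      have hzt : C z t = 0 := (Herm.eq_zero_comm hC).1 htz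
      have h0 : C (β • s + t + z) (β • s + t + z) = 0 := by
        simp only [map_add, map_smulₛₗ, LinearMap.add_apply, LinearMap.smul_apply, smul_eq_mul, RingHom.id_apply, hs,
          ht, hst, hts, hsz, htz, hzs, hzt, mul_zero, mul_one]
        linear_combination hβ
      have := hall _ h0
      simp only [map_add, map_smulₛₗ, LinearMap.add_apply, LinearMap.smul_apply, smul_eq_mul, RingHom.id_apply,
        hall s hs, hall t ht, hflip t s, hflip z s, hflip z t, mul_zero, zero_add, add_zero] at this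
      linear_combination this
    have h1 : C s (S t) + σ (C s (S t)) = 0 := by
      have := hval 0 (map_zero _) (map_zero _) k (by simp [hk])
      simp only [map_zero, mul_zero, sub_zero, add_zero, LinearMap.zero_apply, hk] at this
      exact (mul_eq_zero.1 (show k * (C s (S t) + σ (C s (S t))) = 0 by linear_combination -this)).resolve_left hk0
    refine ⟨h1, fun z hsz htz => ?_⟩
    obtain ⟨ω, hω⟩ := Herm.exists_moved hC.toIsInvol
    have hb : ∀ z, C s z = 0 → C t z = 0 → C s (S z) + σ (C s (S z)) = 0 := fun z hsz htz => by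
      obtain ⟨β, hβ⟩ := Herm.exists_trace hC.toIsInvol (a := -C z z) (by rw [map_neg, Herm.fix_self hC])
      have e1 := hval z hsz htz β (by linear_combination hβ)
      have e2 := hval z hsz htz (β + k) (by rw [map_add, hk]; linear_combination hβ)
      rw [map_add, hk] at e2
      exact (mul_eq_zero.1 (show k * (C s (S z) + σ (C s (S z))) = 0 by
        linear_combination e1 - e2 - k * h1)).resolve_left hk0
    have e1 := hb z hsz htz
    have e2 := hb (ω • z) (by rw [map_smul, hsz, smul_zero]) (by rw [map_smul, htz, smul_zero])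
    simp only [map_smul, smul_eq_mul, map_mul] at e2
    exact (mul_eq_zero.1 (show (ω - σ ω) * C s (S z) = 0 by linear_combination e2 - σ ω * e1)).resolve_left
      (sub_ne_zero.2 (Ne.symm hω))
  obtain ⟨s, t, hs, ht, hst, hts⟩ := exists_pair hC hd.two
  obtain ⟨ha, hbs⟩ := key s t hs ht hst
  obtain ⟨-, hbt⟩ := key t s ht hs hts
  set a := C s (S t) with hadef
  -- the form is `a` times the form on the diagonal
  have hdiag : ∀ x, C x (S x) = a * C x x := by
    intro x
    set z := x - C t x • s - C s x • t with hzdef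
    have hsz : C s z = 0 := by simp [hzdef, hs, hst]
    have htz : C t z = 0 := by simp [hzdef, ht, hts]
    have hzs : C z s = 0 := (Herm.eq_zero_comm hC).1 hsz
    have hzt : C z t = 0 := (Herm.eq_zero_comm hC).1 htz
    have h1 := hbs z hsz htz
    have h2 := hbt z htz hsz
    obtain ⟨β, hβ⟩ := Herm.exists_trace hC.toIsInvol (a := -C z z) (by rw [map_neg, Herm.fix_self hC])
    have h0 : C (β • s + t + z) (β • s + t + z) = 0 := by
      simp only [map_add, map_smulₛₗ, LinearMap.add_apply, LinearMap.smul_apply, smul_eq_mul, RingHom.id_apply, hs,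
        ht, hst, hts, hsz, htz, hzs, hzt, mul_zero, mul_one]
      linear_combination hβ
    have hq := hall _ h0
    simp only [map_add, map_smulₛₗ, LinearMap.add_apply, LinearMap.smul_apply, smul_eq_mul, RingHom.id_apply,
      hall s hs, hall t ht, hflip t s, hflip z s, hflip z t, h1, h2, map_zero, neg_zero, mul_zero, zero_add,
      add_zero, ← hadef] at hq
    rw [show x = C t x • s + C s x • t + z by rw [hzdef]; abel]
    generalize C t x = α, C s x = γ
    simp only [map_add, map_smulₛₗ, LinearMap.add_apply, LinearMap.smul_apply, smul_eq_mul, RingHom.id_apply,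
      hall s hs, hall t ht, hflip t s, hflip z s, hflip z t, h1, h2, map_zero, neg_zero, mul_zero, zero_add,
      add_zero, ← hadef, hs, ht, hst, hts, hsz, htz, hzs, hzt, mul_one]
    linear_combination hq - (σ γ * α - β) * ha - a * hβ
  refine hS ⟨a, fun y => hF.eq_of_C fun x => ?_⟩
  obtain ⟨ω, hω⟩ := Herm.exists_moved hC.toIsInvol
  have h1 := hdiag (x + y)
  have h2 := hdiag (x + ω • y)
  simp only [map_add, map_smulₛₗ, LinearMap.add_apply, LinearMap.smul_apply, smul_eq_mul, RingHom.id_apply,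
    hdiag x, hdiag y] at h1 h2
  rw [map_smul, smul_eq_mul]
  refine sub_eq_zero.1 ((mul_eq_zero.1 (show (ω - σ ω) * (C x (S y) - a * C x y) = 0 by
    linear_combination h2 - σ ω * h1)).resolve_left (sub_ne_zero.2 (Ne.symm hω)))

/-- a non-scalar element gives a pure centre -/
theorem Over.pure_of_rad (hd : Dims σ U W) {u : U} (hu0 : u ≠ 0) (hu : A u u = 0) {S : W →ₗ[F] W}
    (h : hF.rad u S ∈ X) (hS : ¬ ∃ μ : F, ∀ y, S y = μ • y) :
    ∃ s, s ≠ 0 ∧ C s s = 0 ∧ pt u s ∈ Unitary.centres B X := by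
  have hC := hF.hC
  have hsk := hO.rad_skew hF hu0 hu h
  obtain ⟨s, hs, hν⟩ := hF.exists_nu hd hsk hS
  refine ⟨s, fun h0 => hν (by rw [h0, map_zero, LinearMap.zero_apply]), hs, ?_⟩
  set ν := C s (S s) with hνdef
  have hνsk : ν + σ ν = 0 := by
    have := hsk s s
    rw [← hC.symm, ← hνdef] at this
    linear_combination this
  set P : W →ₗ[F] W := (C s).smulRight s with hP
  have hPx : ∀ y, P y = C s y • s := fun y => rfl
  let f : F → (W →ₗ[F] W) := fun c => c • (P ∘ₗ S - S ∘ₗ P) - (c * c * ν) • P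
  have hf : ∀ c, c + σ c = 0 → hF.rad u (f c) ∈ X := by
    intro c hc
    have hk := hO.swap.lt_mem hF.swap hs hc
    have h1 := hO.rad_conj hF hu h hk (b := Herm.tvU hs c) (Herm.tvU_isometry hC hs hc)
      (fun x y => hF.swap.lt_pt hs c y x)
    have h2 := hO.rad_mem_sub hF hu h1 h
    suffices f c = (Herm.tvU hs c).toLinearMap ∘ₗ S ∘ₗ (Herm.tvU hs c).symm.toLinearMap - S from this ▸ h2
    refine LinearMap.ext fun y => ?_
    have hsymm : (Herm.tvU hs c).symm y = y + (-c * C s y) • s := rfl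
    simp only [f, LinearMap.sub_apply, LinearMap.smul_apply, LinearMap.comp_apply, LinearEquiv.coe_coe, hsymm,
      Herm.tvU_apply, hPx, map_add, map_smul, ← hνdef, smul_eq_mul]
    module
  by_cases hk : ∃ k : F, σ k = k ∧ k ≠ 0 ∧ k ≠ 1
  · obtain ⟨k, hk, hk0, hk1⟩ := hk
    obtain ⟨c, hc0, hc⟩ := Herm.exists_skew hC.toIsInvol
    have h1 := hf (k * c) (by rw [map_mul, hk, hc]; ring)
    have h2 := hO.rad_fix hF hu0 hu hd (hf c (by rw [hc]; ring)) hk
    refine hO.centre_of_rad hF hu0 hu hd (c₀ := -((k * k - k) * (c * c) * ν)) ?_ ?_ ?_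
    · refine neg_ne_zero.2 (mul_ne_zero (mul_ne_zero ?_ (mul_ne_zero hc0 hc0)) hν)
      rw [← mul_sub_one]
      exact mul_ne_zero hk0 (sub_ne_zero.2 hk1)
    · simp only [map_neg, map_mul, map_sub, hk, hc]
      linear_combination -(k * k - k) * (c * c) * hνsk
    · have h3 := hO.rad_mem_sub hF hu h1 h2
      suffices (-((k * k - k) * (c * c) * ν)) • P = f (k * c) - k • f c from this ▸ h3
      refine LinearMap.ext fun y => ?_
      simp only [f, LinearMap.sub_apply, LinearMap.smul_apply]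
      module
  push Not at hk
  have hfix : ∀ k : F, σ k = k → k = 0 ∨ k = 1 := fun k h => or_iff_not_imp_left.2 (hk k h)
  obtain ⟨two, ω, hσω, hωq⟩ := exists_cube_root hC hfix
  have hneg : ∀ x : F, -x = x := fun x => by linear_combination (-x) * two
  have hW : 3 ≤ finrank F W := by
    by_contra hlt
    obtain ⟨k, h1, h2, h3⟩ := hd.hex (by have := hd.two; omega)
    exact h3 (hk k h1 h2)
  have hν1 : ν = 1 := (hfix ν (by linear_combination hνsk - ν * two)).resolve_left hν
  set r₀ := S s with hr₀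
  have hsr : C s r₀ = 1 := hνdef.symm.trans hν1
  let E : W → (W →ₗ[F] W) := fun z => (C z).smulRight s + (C s).smulRight z
  have hD : hF.rad u (E r₀ + P) ∈ X := by
    have := hf 1 (by rw [map_one]; linear_combination two)
    suffices E r₀ + P = f 1 from this ▸ ‹hF.rad u (f 1) ∈ X›
    refine LinearMap.ext fun y => ?_
    have hPS : C s (S y) = -C r₀ y := by linear_combination hsk s y
    simp only [E, f, LinearMap.add_apply, LinearMap.sub_apply, LinearMap.smul_apply, LinearMap.smulRight_apply,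
      LinearMap.comp_apply, hPx, map_smul, ← hr₀, hν1, hPS, mul_one, one_smul]
    match_scalars <;> first | ring1 | linear_combination two | linear_combination (C r₀ y + C s y) * two | linear_combination C r₀ y * two | linear_combination C s y * two
  -- conjugates by the Eichler elements
  have hE : ∀ z, C s z = 0 → C r₀ z = 0 → hF.rad u (E z + C z z • P) ∈ X := by
    intro z hsz hrz
    obtain ⟨d, hdz⟩ := Herm.exists_trace hC.toIsInvol (a := -C z z) (by rw [map_neg, Herm.fix_self hC])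
    have hzs : C z s = 0 := (Herm.eq_zero_comm hC).1 hsz
    have hzr : C z r₀ = 0 := (Herm.eq_zero_comm hC).1 hrz
    set b := Herm.eichler hC hs hzs d with hb
    have hbiso := (Herm.eichler_mem hC hs hzs hdz).1
    obtain ⟨k, hkX, hkp⟩ := hO.lift_unip hF hbiso fun y => by
      simp only [hb, Herm.eichler_apply, map_add, map_sub, map_smul, hs, hsz, hzs, smul_eq_mul, mul_zero,
        add_zero, sub_zero, zero_smul]
      module
    have h1 := hO.rad_mem_sub hF hu (hO.rad_conj hF hu hD hkX hbiso hkp) hD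
    suffices E z + C z z • P = b.toLinearMap ∘ₗ (E r₀ + P) ∘ₗ b.symm.toLinearMap - (E r₀ + P) from this ▸ h1
    refine LinearMap.ext fun y => ?_
    obtain ⟨y, rfl⟩ := b.surjective y
    have hbs : b s = s := by simp [hb, Herm.eichler_apply, hs, hzs]
    have hbr : b r₀ = r₀ + z + d • s := by simp [hb, Herm.eichler_apply, hsr, hzr]
    have e1 : C s y = C s (b y) := by conv_rhs => rw [← hbs, hbiso]
    have e2 : C r₀ y = C r₀ (b y) + C z (b y) + σ d * C s (b y) := by
      rw [← hbiso, hbr]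
      simp [hb]
    simp only [E, LinearMap.add_apply, LinearMap.sub_apply, LinearMap.smul_apply, LinearMap.smulRight_apply,
      LinearMap.comp_apply, LinearEquiv.coe_coe, LinearEquiv.symm_apply_apply, hPx, map_add, map_smul, hbs, hbr,
      e1, e2]
    match_scalars
    all_goals first
      | ring1
      | linear_combination C s (b y) * hdz
      | linear_combination -(C s (b y)) * hdz
      | linear_combination C s (b y) * C z z * two - C s (b y) * hdz
      | linear_combination C s (b y) * hdz + C s (b y) * C z z * two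
  obtain ⟨r₁, hr₁, hr₁0⟩ : ∃ τ : F, C (r₀ + τ • s) (r₀ + τ • s) = 0 ∧ τ + σ τ = -C r₀ r₀ := by
    obtain ⟨τ, hτ⟩ := Herm.exists_trace hC.toIsInvol (a := -C r₀ r₀) (by rw [map_neg, Herm.fix_self hC])
    refine ⟨τ, ?_, hτ⟩
    have hrs : C r₀ s = 1 := by rw [← hC.symm, hsr, map_one]
    simp only [map_add, map_smulₛₗ, LinearMap.add_apply, LinearMap.smul_apply, smul_eq_mul, RingHom.id_apply, hs,
      hsr, hrs, mul_zero, mul_one]
    linear_combination hτ
  obtain ⟨z, hsz, hrz', -, -, hzz⟩ := exists_perp_pair_value hC hW hs hr₁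
    (by rw [map_add, map_smul, hsr, hs, smul_zero, add_zero]) (c := (1 : F)) (map_one σ)
  have hrz : C r₀ z = 0 := by
    rw [map_add, LinearMap.add_apply, map_smulₛₗ, LinearMap.smul_apply, hsz, smul_zero, add_zero] at hrz'
    exact hrz'
  have hmem : ∀ t : F, hF.rad u (E (t • z) + (t * σ t) • P) ∈ X := fun t => by
    have := hE (t • z) (by rw [map_smul, hsz, smul_zero]) (by rw [map_smul, hrz, smul_zero])
    rwa [Herm.smul_self hC, hzz, mul_one] at this
  have hn : ω * σ ω = 1 := by rw [hσω]; linear_combination (ω - 1) * hωq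
  have h3 := hO.rad_mem_sub hF hu (hO.rad_mem_add hF hu (hmem 1) (hmem ω)) (hmem (ω * ω))
  refine hO.centre_of_rad hF hu0 hu hd (c₀ := 1) one_ne_zero (by rw [map_one]; linear_combination two) ?_
  suffices (1 : F) • P = E ((1 : F) • z) + ((1 : F) * σ 1) • P + (E (ω • z) + (ω * σ ω) • P) -
      (E ((ω * ω) • z) + (ω * ω * σ (ω * ω)) • P) from this ▸ h3
  refine LinearMap.ext fun y => ?_
  have hw2 : ω * ω = 1 + ω := by linear_combination hωq - (1 + ω) * two
  simp only [E, LinearMap.add_apply, LinearMap.sub_apply, LinearMap.smul_apply, LinearMap.smulRight_apply,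
    hPx, map_smulₛₗ, RingHom.id_apply, map_one, map_mul, smul_eq_mul]
  rw [show ω * ω * (σ ω * σ ω) = (ω * σ ω) * (ω * σ ω) by ring, hn, show σ ω * σ ω = 1 + σ ω by
    rw [← map_mul, hw2, map_add, map_one], hw2]
  module

/-- one pure centre gives all with isotropic factors -/
theorem Over.iso_pure {u : U} (hu0 : u ≠ 0) (hu : A u u = 0) {s : W} (hs0 : s ≠ 0) (hs : C s s = 0)
    (h : pt u s ∈ Unitary.centres B X) {x : U} (hx : A x x = 0) {y : W} (hy : C y y = 0) :
    pt x y ∈ Unitary.centres B X := by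
  rcases eq_or_ne x 0 with rfl | hx0
  · rw [map_zero pt, LinearMap.zero_apply]; exact zero_mem_centres
  rcases eq_or_ne y 0 with rfl | hy0
  · rw [map_zero]; exact zero_mem_centres
  obtain ⟨a, ha, l, hl, hau⟩ := exists_TU_line hF.hA hu0 hu hx0 hx
  obtain ⟨b, hb, m, hm, hbs⟩ := exists_TU_line hF.hC hs0 hs hy0 hy
  obtain ⟨k, hk, e⟩ := hO.lift_TU hF ha
  obtain ⟨k', hk', e'⟩ := hO.swap.lift_TU hF.swap hb
  have h1 := Unitary.map_mem_centres hF.hB (Unitary.map_mem_centres hF.hB h hk (hO.iso k hk)) hk' (hO.iso k' hk')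
  rw [e, show k' (pt (a u) s) = pt (a u) (b s) from e' s (a u), hau, hbs, map_smul pt, LinearMap.smul_apply,
    map_smul, smul_smul] at h1
  have := Unitary.smul_mem_centres hF.hB h1 (l * m)⁻¹
  rwa [inv_smul_smul₀ (mul_ne_zero hl hm)] at this

/-- three moves between two orthogonal centres and a third -/
theorem Over.osum {v w t : V} (hv : v ∈ Unitary.centres B X) (hw : w ∈ Unitary.centres B X)
    (ht : t ∈ Unitary.centres B X) (hvw : B v w = 0) {c d : F} (hc : c + σ c = 0) (hd : d + σ d = 0)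
    (hne : 1 + d * c * (B t w * σ (B t w)) ≠ 0) :
    v + (d * c * B t v * σ (B t w)) • w ∈ Unitary.centres B X := by
  have hB := hF.hB
  have hwv : B w v = 0 := (Herm.eq_zero_comm hB).1 hvw
  set β := B t v
  set γ := B t w with hγ
  have hwt : B w t = σ γ := by rw [hγ, hB.symm]
  have h1 := Unitary.move_mem_centres hB hv ht hc
  have h2 := Unitary.move_mem_centres hB h1 hw hd
  have e1 : B w (v + (c * β) • t) = c * β * σ γ := by simp [hwv, hwt]
  rw [e1] at h2
  set N := 1 + d * c * (γ * σ γ) with hN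
  have hNfix : σ N = N := by
    rw [hN, map_add, map_one, map_mul, map_mul, map_mul, hB.invol, show σ c = -c by linear_combination hc,
      show σ d = -d by linear_combination hd]
    ring
  have he : -c / N + σ (-c / N) = 0 := by
    rw [map_div₀, map_neg, hNfix, ← add_div, show -c + -σ c = 0 by linear_combination -hc, zero_div]
  have h3 := Unitary.move_mem_centres hB h2 ht he
  have e2 : B t (v + (c * β) • t + (d * (c * β * σ γ)) • w) = β * N := by
    simp [ht.1, hN, ← hγ, β]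
    ring
  rw [e2] at h3
  suffices v + (c * β) • t + (d * (c * β * σ γ)) • w + (-c / N * (β * N)) • t = v + (d * c * β * σ γ) • w from
    this ▸ h3
  rw [show -c / N * (β * N) = -(c * β) by field_simp]
  module

section Pure

variable (hI : ∀ x y, A x x = 0 → C y y = 0 → pt x y ∈ Unitary.centres B X)
include hI

/-- an isotropic first factor, over a larger field -/
theorem Over.pure_left_big (hU : 4 ≤ finrank F U) (hW : 2 ≤ finrank F W) {k₁ : F} (hk₁ : σ k₁ = k₁) (hk0 : k₁ ≠ 0)
    (hk1 : k₁ ≠ 1) {x : U} (hx : A x x = 0) (y : W) : pt x y ∈ Unitary.centres B X := by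
  have hA := hF.hA
  have hC := hF.hC
  by_cases hy : C y y = 0
  · exact hI x y hx hy
  rcases eq_or_ne x 0 with rfl | hx0
  · rw [map_zero pt, LinearMap.zero_apply]; exact zero_mem_centres
  obtain ⟨y₁, y₂, β, hy₁, hy₂, h12, hβ, rfl⟩ := exists_split hC hW hy
  have h21 : C y₂ y₁ = 1 := by rw [← hC.symm, h12, map_one]
  obtain ⟨c₀, hc0, hc⟩ := Herm.exists_skew hA.toIsInvol
  have hc' : c₀ + σ c₀ = 0 := by rw [hc, add_neg_cancel]
  obtain ⟨x₀, hx₀, hxx₀, hx₀x⟩ := exists_iso_partner hA hx0 hx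
  obtain ⟨p, p', hp, hp', hp'p, hxp, hx₀p, hxp', hx₀p'⟩ := exists_perp_pair hA hU hx hx₀ hxx₀
  set d := k₁ / (c₀ * c₀ * c₀) with hd
  have hd' : d + σ d = 0 := by
    rw [hd, map_div₀, hk₁, map_mul, map_mul, hc]
    field_simp
    ring
  have hd0 : d ≠ 0 := div_ne_zero hk0 (mul_ne_zero (mul_ne_zero hc0 hc0) hc0)
  set l := σ (β⁻¹ / (d * (c₀ * c₀))) with hl
  set x' := l • x₀ + p with hx'
  set x'' := x₀ + p' with hx''
  have hpx : A p x = 0 := (Herm.eq_zero_comm hA).1 hxp
  have hp'x : A p' x = 0 := (Herm.eq_zero_comm hA).1 hxp'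
  have hpx₀ : A p x₀ = 0 := (Herm.eq_zero_comm hA).1 hx₀p
  have hp'x₀ : A p' x₀ = 0 := (Herm.eq_zero_comm hA).1 hx₀p'
  have h' : A x' x' = 0 := by simp [hx', hx₀, hp, hx₀p, hpx₀]
  have h'' : A x'' x'' = 0 := by simp [hx'', hx₀, hp', hx₀p', hp'x₀]
  have ht : pt x' y₂ + c₀ • pt x'' y₁ ∈ Unitary.centres B X := by
    have := Unitary.move_mem_centres hF.hB (hI x' y₂ h' hy₂) (hI x'' y₁ h'' hy₁) hc'
    rwa [hF.prod, h12, show A x'' x' = 1 by simp [hx', hx'', hx₀, hx₀p, hp'x₀, hp'p], mul_one, mul_one] at this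
  have e1 : B (pt x' y₂ + c₀ • pt x'' y₁) (pt x y₁) = σ l := by
    simp [hF.prod, hx', hy₁, h21, hx₀x, hpx]
  have e2 : B (pt x' y₂ + c₀ • pt x'' y₁) (pt x y₂) = σ c₀ := by
    simp [hF.prod, hx'', hy₂, h12, hx₀x, hp'x]
  have := hO.osum hF (hI x y₁ hx hy₁) (hI x y₂ hx hy₂) ht (by rw [hF.prod, hx, zero_mul]) hc' hd' (by
    rw [e2, hA.invol, hd, hc, show k₁ / (c₀ * c₀ * c₀) * c₀ * (-c₀ * c₀) = -k₁ by field_simp, ← sub_eq_add_neg]
    exact sub_ne_zero.2 (Ne.symm hk1))
  rw [e1, e2, hl, hA.invol, hA.invol] at this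
  have h3 := Unitary.smul_mem_centres hF.hB this β
  rwa [show β • (pt x y₁ + (d * c₀ * (β⁻¹ / (d * (c₀ * c₀))) * c₀) • pt x y₂) = pt x (y₂ + β • y₁) by
    rw [show d * c₀ * (β⁻¹ / (d * (c₀ * c₀))) * c₀ = β⁻¹ by field_simp, smul_add, smul_smul, mul_inv_cancel₀ hβ,
      one_smul, map_add, map_smul, add_comm]] at h3

/-- an isotropic second factor, over a larger field -/
theorem Over.pure_right_big (hU : 3 ≤ finrank F U) {k₁ : F} (hk₁ : σ k₁ = k₁) (hk0 : k₁ ≠ 0) (hk1 : k₁ ≠ 1)
    (x : U) {y : W} (hy : C y y = 0) : pt x y ∈ Unitary.centres B X := by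
  have hA := hF.hA
  have hC := hF.hC
  by_cases hx : A x x = 0
  · exact hI x y hx hy
  rcases eq_or_ne y 0 with rfl | hy0
  · rw [map_zero]; exact zero_mem_centres
  obtain ⟨x₁, x₂, β, hx₁, hx₂, h12, hβ, rfl⟩ := exists_split hA (by omega) hx
  have h21 : A x₂ x₁ = 1 := by rw [← hA.symm, h12, map_one]
  obtain ⟨y', hy', hyy', hy'y⟩ := exists_iso_partner hC hy0 hy
  obtain ⟨c₀, hc0, hc⟩ := Herm.exists_skew hA.toIsInvol
  set d := -k₁ / c₀ with hd
  have hd0 : d ≠ 0 := div_ne_zero (neg_ne_zero.2 hk0) hc0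
  set θ := σ (β⁻¹ / (d * c₀)) with hθ
  obtain ⟨p, h1p, h2p, hp1, hp2, hpp⟩ := exists_perp_pair_value hA hU hx₁ hx₂ h12 (c := -(θ + σ θ))
    (by rw [map_neg, map_add, hA.invol, add_comm])
  set x' := x₁ + θ • x₂ + p with hx'
  have h' : A x' x' = 0 := by
    simp [hx', hx₁, hx₂, h12, h21, h1p, h2p, hp1, hp2, hpp]
  have e1 : B (pt x' y') (pt x₁ y) = σ θ := by simp [hF.prod, hx', hx₁, h21, hp1, hy'y]
  have e2 : B (pt x' y') (pt x₂ y) = 1 := by simp [hF.prod, hx', hx₂, h12, hp2, hy'y]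
  have := hO.osum hF (hI x₁ y hx₁ hy) (hI x₂ y hx₂ hy) (hI x' y' h' hy') (by rw [hF.prod, hy, mul_zero])
    (c := c₀) (d := d) (by rw [hc, add_neg_cancel]) (by rw [hd, map_div₀, map_neg, hk₁, hc]; ring) (by
    rw [e2, map_one, mul_one, mul_one, hd, div_mul_cancel₀ _ hc0, ← sub_eq_add_neg]
    exact sub_ne_zero.2 (Ne.symm hk1))
  rw [e1, e2, map_one, mul_one, hθ, hA.invol] at this
  have h3 := Unitary.smul_mem_centres hF.hB this β
  rwa [show β • (pt x₁ y + (d * c₀ * (β⁻¹ / (d * c₀))) • pt x₂ y) = pt (x₂ + β • x₁) y by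
    rw [show d * c₀ * (β⁻¹ / (d * c₀)) = β⁻¹ by field_simp, smul_add, smul_smul, mul_inv_cancel₀ hβ, one_smul,
      map_add pt, map_smul pt, LinearMap.add_apply, LinearMap.smul_apply, add_comm]] at h3

/-- the diagonal of two orthonormal pairs, over the field with four elements -/
theorem Over.pure_diag (hfix : ∀ k : F, σ k = k → k = 0 ∨ k = 1) {e₁ e₂ : U} (h11 : A e₁ e₁ = 1) (h22 : A e₂ e₂ = 1)
    (h12 : A e₁ e₂ = 0) {f₁ f₂ : W} (g11 : C f₁ f₁ = 1) (g22 : C f₂ f₂ = 1) (g12 : C f₁ f₂ = 0) :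
    pt e₁ f₁ + pt e₂ f₂ ∈ Unitary.centres B X := by
  obtain ⟨two, ω, hσω, hωq⟩ := exists_cube_root hF.hA hfix
  have h21 : A e₂ e₁ = 0 := (Herm.eq_zero_comm hF.hA).1 h12
  have g21 : C f₂ f₁ = 0 := (Herm.eq_zero_comm hF.hC).1 g12
  have hn : ω * σ ω = 1 := by rw [hσω]; linear_combination (ω - 1) * hωq
  have hv := hI (e₁ + σ ω • e₂) (f₂ + f₁) (by simp [h11, h22, h12, h21, hF.hA.invol]; linear_combination hn + two)
    (by simp [g11, g22, g12, g21]; linear_combination two)
  have hw := hI (e₁ + e₂) (f₂ + σ ω • f₁) (by simp [h11, h22, h12, h21]; linear_combination two)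
    (by simp [g11, g22, g12, g21, hF.hC.invol]; linear_combination hn + two)
  have := Unitary.move_mem_centres hF.hB hv hw (c := (1 : F)) (by rw [map_one]; linear_combination two)
  have e : B (pt (e₁ + e₂) (f₂ + σ ω • f₁)) (pt (e₁ + σ ω • e₂) (f₂ + f₁)) = 1 := by
    rw [hF.prod]
    simp [h11, h22, h12, h21, g11, g22, g12, g21, hF.hA.invol, hF.hC.invol]
    rw [hσω]
    linear_combination ω * hωq
  rw [one_mul, e, one_smul] at this
  have hω0 : ω ≠ 0 := fun h0 => by simp [h0] at hωq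
  have h3 := Unitary.smul_mem_centres hF.hB this ω⁻¹
  suffices pt (e₁ + σ ω • e₂) (f₂ + f₁) + pt (e₁ + e₂) (f₂ + σ ω • f₁) = ω • (pt e₁ f₁ + pt e₂ f₂) by
    rwa [this, inv_smul_smul₀ hω0] at h3
  simp only [map_add, map_smul, LinearMap.add_apply, LinearMap.smul_apply]
  match_scalars <;> first | ring1 | linear_combination two | linear_combination hσω + hωq - ω * two | linear_combination σ ω * two

/-- an isotropic first factor, over the field with four elements -/
theorem Over.pure_left_two (hfix : ∀ k : F, σ k = k → k = 0 ∨ k = 1) (hU : 3 ≤ finrank F U)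
    (hW : 2 ≤ finrank F W) {x : U} (hx : A x x = 0) (y : W) : pt x y ∈ Unitary.centres B X := by
  have hA := hF.hA
  by_cases hy : C y y = 0
  · exact hI x y hx hy
  rcases eq_or_ne x 0 with rfl | hx0
  · rw [map_zero pt, LinearMap.zero_apply]; exact zero_mem_centres
  have g11 : C y y = 1 := (hfix _ (Herm.fix_self hF.hC y)).resolve_left hy
  obtain ⟨f₂, hf, g22⟩ := exists_perp_value hF.hC (a := ![y]) (fun i j => by
    fin_cases i; fin_cases j; simpa using g11) (by omega) (c := (1 : F)) (map_one σ)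
  have g12 : C y f₂ = 0 := hf 0
  obtain ⟨two, ω, hσω, hωq⟩ := exists_cube_root hA hfix
  obtain ⟨x₀, hx₀, hxx₀, hx₀x⟩ := exists_iso_partner hA hx0 hx
  obtain ⟨e₂, he1, he2, he1', he2', h22⟩ := exists_perp_pair_value hA hU hx hx₀ hxx₀ (c := (1 : F)) (map_one σ)
  set e₁ := ω • x + x₀ with he₁
  set e₃ := x + e₁ with he₃
  have h11 : A e₁ e₁ = 1 := by
    simp [he₁, hx, hx₀, hxx₀, hx₀x, hσω]; linear_combination hωq - two
  have h13 : A e₃ e₁ = 0 := by
    simp [he₃, h11]; simp [he₁, hx, hxx₀]; linear_combination two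
  have h33 : A e₃ e₃ = 1 := by
    have h1x : A e₁ x = 1 := by simp [he₁, hx, hx₀x]
    have hx1 : A x e₁ = 1 := by rw [← hA.symm, h1x, map_one]
    simp [he₃, h11, h1x, hx1, hx]; linear_combination two
  have he₂ : A e₁ e₂ = 0 ∧ A e₃ e₂ = 0 := by simp [he₁, he₃, he1, he2]
  have h23 : A e₂ e₁ = 0 := (Herm.eq_zero_comm hA).1 he₂.1
  have h32 : A e₂ e₂ = 1 := h22
  have ha := hO.pure_diag hF hI hfix h11 h32 he₂.1 g11 g22 g12
  have hb := hO.pure_diag hF hI hfix h33 h32 he₂.2 g11 g22 g12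
  have := Unitary.move_mem_centres hF.hB ha hb (c := (1 : F)) (by rw [map_one]; linear_combination two)
  have e : B (pt e₃ y + pt e₂ f₂) (pt e₁ y + pt e₂ f₂) = 1 := by
    simp [hF.prod, h13, g12, (Herm.eq_zero_comm hF.hC).1 g12, h22, g22]
  rw [one_mul, e, one_smul] at this
  clear_value e₃ e₁
  rw [show pt e₁ y + pt e₂ f₂ + (pt e₃ y + pt e₂ f₂) = pt x y by
    have h2v : ∀ v : V, v + v = 0 := fun v => by rw [← two_smul F v, two, zero_smul]
    rw [he₃, map_add pt, LinearMap.add_apply, show pt e₁ y + pt e₂ f₂ + (pt x y + pt e₁ y + pt e₂ f₂) =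
      pt x y + ((pt e₁ y + pt e₁ y) + (pt e₂ f₂ + pt e₂ f₂)) by abel, h2v, h2v, add_zero, add_zero]] at this
  exact this

end Pure

end Cfsg.Agent.ClassicalMax.UnTensor
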