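import Cfsg.Agent.Classical.HermForm

/-!
A linear family of Hermitian matrices with more parameters than rows has a non-zero member with an eigenvector for a
fixed eigenvalue and prescribed zeros on the diagonal: polynomial equations of small total degree over the fixed field.
-/

set_option autoImplicit false
set_option linter.unusedSectionVars false

namespace Cfsg.Agent.ClassicalMax.UnTensor

open Cfsg.Agent.Classical MvPolynomial

variable {F : Type*} [Field F] [Finite F] {σ : F →+* F}

/-- a polynomial of small degree sums to zero over a subfield -/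
theorem sum_eval_subfield (K : Subfield F) [Fintype K] {ι : Type} [Fintype ι] [DecidableEq ι] (P : MvPolynomial ι F)
    (hP : P.totalDegree < (Fintype.card K - 1) * Fintype.card ι) :
    ∑ x : ι → K, eval (fun i => (x i : F)) P = 0 := by
  classical
  simp only [eval_eq']
  rw [Finset.sum_comm]
  refine Finset.sum_eq_zero fun d hd => ?_
  rw [← Finset.mul_sum]
  obtain ⟨i, hi⟩ : ∃ i, d i < Fintype.card K - 1 := by
    by_contra! h
    have h1 : d.sum (fun _ e => e) ≤ P.totalDegree := le_totalDegree hd
    rw [Finsupp.sum_fintype _ _ (fun _ => rfl)] at h1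
    have h2 : ∑ _i : ι, (Fintype.card K - 1) ≤ ∑ i, d i := Finset.sum_le_sum fun i _ => h i
    rw [Finset.sum_const, Finset.card_univ, smul_eq_mul, mul_comm] at h2
    omega
  have h0 : ∑ a : K, (a : F) ^ d i = 0 := by
    have := congrArg (Subtype.val : K → F) (FiniteField.sum_pow_lt_card_sub_one (K := K) _ hi)
    push_cast at this
    exact this
  rw [← Fintype.prod_sum (fun (i : ι) (a : K) => (a : F) ^ d i), Finset.prod_eq_zero (Finset.mem_univ i) h0,
    mul_zero]

/-- equations of small total degree with values in a subfield and a zero at the origin have another zero -/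
theorem exists_ne_zero_solution (K : Subfield F) {ι : Type} [Fintype ι] [DecidableEq ι] {κ : Type} [Fintype κ]
    (f : κ → MvPolynomial ι F) (hfix : ∀ k (x : ι → K), eval (fun i => (x i : F)) (f k) ∈ K)
    (hdeg : ∑ k, (f k).totalDegree < Fintype.card ι) (h0 : ∀ k, eval (fun _ => 0) (f k) = 0) :
    ∃ x : ι → K, x ≠ 0 ∧ ∀ k, eval (fun i => (x i : F)) (f k) = 0 := by
  classical
  letI := Fintype.ofFinite F
  by_contra! hall
  set e := Fintype.card K - 1 with he
  have hpos : 0 < e := by
    have : 1 < Fintype.card K := Fintype.one_lt_card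
    omega
  set P : MvPolynomial ι F := ∏ k, (1 - f k ^ e) with hPdef
  have hone : ∀ x : ι → K, eval (fun i => (x i : F)) P = if x = 0 then 1 else 0 := fun x => by
    rw [hPdef, map_prod]
    split_ifs with hx
    · subst hx
      refine Finset.prod_eq_one fun k _ => ?_
      rw [map_sub, map_one, map_pow, show (fun i => (((0 : ι → K) i : K) : F)) = fun _ => 0 from rfl, h0 k,
        zero_pow hpos.ne', sub_zero]
    · obtain ⟨k, hk⟩ := hall x hx
      refine Finset.prod_eq_zero (Finset.mem_univ k) ?_
      have := congrArg (Subtype.val : K → F) (FiniteField.pow_card_sub_one_eq_one (⟨_, hfix k x⟩ : K)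
        fun h => hk (congrArg Subtype.val h))
      push_cast at this
      rw [map_sub, map_one, map_pow, this, sub_self]
  have hdeg' : P.totalDegree < e * Fintype.card ι := by
    refine lt_of_le_of_lt ?_ (Nat.mul_lt_mul_of_pos_left hdeg hpos)
    refine (totalDegree_finsetProd _ _).trans ?_
    rw [Finset.mul_sum]
    refine Finset.sum_le_sum fun k _ => ?_
    refine (totalDegree_sub _ _).trans (max_le ?_ (totalDegree_pow _ _))
    rw [totalDegree_one]; exact Nat.zero_le _
  have := sum_eval_subfield K P hdeg'
  rw [Finset.sum_congr rfl fun x _ => hone x, Finset.sum_ite_eq', if_pos (Finset.mem_univ _)] at this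
  exact one_ne_zero this

variable (hσ : Herm.IsInvol σ)
include hσ

omit [Finite F] in
/-- a basis of the skew-Hermitian matrices over the fixed field -/
theorem exists_skew_family (t : ℕ) : ∃ H : Fin t × Fin t → Matrix (Fin t) (Fin t) F,
    (∀ a i j, σ (H a i j) + H a j i = 0) ∧
      ∀ x : Fin t × Fin t → F, (∀ a, σ (x a) = x a) → ∑ a, x a • H a = 0 → x = 0 := by
  obtain ⟨c, hc0, hc⟩ := Herm.exists_skew hσ
  obtain ⟨ω, hω⟩ := Herm.exists_moved hσ
  let α : Fin t × Fin t → F := fun a => if a.1 < a.2 then 1 else ω
  let H : Fin t × Fin t → Matrix (Fin t) (Fin t) F := fun a =>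
    Matrix.of fun i j => if a.1 = a.2 then (if (i, j) = a then c else 0)
      else if (i, j) = a then α a else if (j, i) = a then -σ (α a) else 0
  refine ⟨H, fun a i j => ?_, fun x hx h => ?_⟩
  · simp only [H, Matrix.of_apply]
    obtain ⟨a, b⟩ := a
    by_cases hab : a = b
    · subst hab
      simp only [if_true, Prod.mk.injEq]
      by_cases h1 : i = a <;> by_cases h2 : j = a <;> simp [h1, h2, hc]
    · simp only [if_neg hab, Prod.mk.injEq]
      by_cases h1 : i = a ∧ j = b
      · obtain ⟨rfl, rfl⟩ := h1
        simp [hab, Ne.symm hab]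
      · by_cases h2 : j = a ∧ i = b
        · obtain ⟨rfl, rfl⟩ := h2
          simp [hab, Ne.symm hab, hσ.invol]
        · simp [h1, h2]
  · have hent : ∀ i j, ∑ a, x a * H a i j = 0 := fun i j => by
      have := congrFun (congrFun h i) j
      simpa [Matrix.sum_apply] using this
    funext a
    obtain ⟨i, j⟩ := a
    rcases eq_or_ne i j with rfl | hij
    · have := hent i i
      rw [Finset.sum_eq_single (i, i)] at this
      · simp [H, hc0] at this
        simpa using this
      · intro b _ hb
        simp only [H, Matrix.of_apply, if_neg (Ne.symm hb), ite_self, mul_zero]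
      · simp
    have key : x (i, j) * α (i, j) - x (j, i) * σ (α (j, i)) = 0 := by
      have := hent i j
      rw [Finset.sum_eq_add (i, j) (j, i) (by simp [hij])] at this
      · simpa [H, hij, Ne.symm hij, sub_eq_add_neg] using this
      · rintro ⟨b₁, b₂⟩ _ ⟨h1, h2⟩
        simp only [H, Matrix.of_apply, if_neg (Ne.symm h1), if_neg (Ne.symm h2), ite_self, mul_zero]
      · simp
      · simp
    rcases lt_or_gt_of_ne hij with hlt | hgt
    · simp only [α, hlt, if_true, not_lt.2 hlt.le, if_false, mul_one] at key
      have h2 := congrArg σ key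
      rw [map_sub, map_mul, hσ.invol, hx, hx, map_zero] at h2
      have : x (j, i) = 0 := (mul_eq_zero.1 (show x (j, i) * (σ ω - ω) = 0 by linear_combination h2 - key)).resolve_right
        (sub_ne_zero.2 hω)
      simpa [this] using key
    · simp only [α, hgt, if_true, not_lt.2 hgt.le, if_false, map_one, mul_one] at key
      have h2 := congrArg σ key
      rw [map_sub, map_mul, hx, hx, map_zero] at h2
      exact (mul_eq_zero.1 (show x (i, j) * (σ ω - ω) = 0 by linear_combination h2 - key)).resolve_right
        (sub_ne_zero.2 hω)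

/-- a non-zero member of the family with an eigenvector for a fixed eigenvalue and zeros on the diagonal -/
theorem exists_eigen {ι : Type} [Fintype ι] [DecidableEq ι] {m : ℕ} [NeZero m]
    (M : ι → Matrix (Fin m) (Fin m) F) (hM : ∀ a k l, σ (M a k l) = M a l k) (s : Finset (Fin m))
    (hcard : m + s.card ≤ Fintype.card ι) :
    ∃ x : ι → F, (∀ a, σ (x a) = x a) ∧ x ≠ 0 ∧ (∀ k ∈ s, (∑ a, x a • M a) k k = 0) ∧
      ∃ μ : F, σ μ = μ ∧ ∃ v : Fin m → F, v ≠ 0 ∧ (∑ a, x a • M a).mulVec v = μ • v := by
  classical
  letI := Fintype.ofFinite F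
  set N : Matrix (Fin m) (Fin m) (MvPolynomial (Option ι) F) := Matrix.of fun k l =>
    ∑ a, C (M a k l) * X (some a) - if k = l then X none else 0 with hN
  have hdegN : ∀ k l, (N k l).totalDegree ≤ 1 := fun k l => by
    refine (totalDegree_sub _ _).trans (max_le ?_ ?_)
    · refine totalDegree_finsetSum_le fun a _ => (totalDegree_mul _ _).trans ?_
      rw [totalDegree_C, totalDegree_X]
    · split_ifs <;> simp [totalDegree_X]
  have heval : ∀ (z : Option ι → F), eval z N.det =
      ((∑ a, z (some a) • M a) - z none • (1 : Matrix (Fin m) (Fin m) F)).det := fun z => by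
    rw [RingHom.map_det]
    congr 1
    refine Matrix.ext fun k l => ?_
    rw [RingHom.mapMatrix_apply, Matrix.map_apply, hN, Matrix.of_apply, map_sub, map_sum]
    simp [Matrix.sum_apply, Matrix.one_apply, apply_ite (eval z), mul_comm]
  let f : Option s → MvPolynomial (Option ι) F := fun k =>
    k.elim N.det fun k => ∑ a, C (M a k.1 k.1) * X (some a)
  have hdet : ∀ z : Option ι → F, (∀ a, σ (z a) = z a) → σ (eval z N.det) = eval z N.det := fun z hz => by
    rw [heval, RingHom.map_det]
    refine Eq.trans ?_ (Matrix.det_transpose _)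
    congr 1
    refine Matrix.ext fun k l => ?_
    simp [Matrix.sum_apply, Matrix.one_apply, apply_ite σ, hz, hM, eq_comm]
  have hdegdet : N.det.totalDegree ≤ m := by
    rw [Matrix.det_apply]
    refine totalDegree_finsetSum_le fun p _ => ?_
    refine (totalDegree_smul_le _ _).trans ((totalDegree_finsetProd _ _).trans ?_)
    calc ∑ k, (N (p k) k).totalDegree ≤ ∑ _k : Fin m, 1 := Finset.sum_le_sum fun k _ => hdegN _ _
      _ = m := by simp
  obtain ⟨z, hz0, hz⟩ := exists_ne_zero_solution (Herm.fixField σ) f (fun k z => by
    rw [Herm.mem_fixField]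
    rcases k with _ | k
    · exact hdet _ fun a => (z a).2
    · simp only [f, Option.elim, map_sum, map_mul, eval_C, eval_X, hM]
      exact Finset.sum_congr rfl fun a _ => by rw [show σ ((z (some a) : F)) = z (some a) from (z (some a)).2]) (by
    rw [Fintype.sum_option, Fintype.card_option]
    have h1 : ∑ k : s, (f (some k)).totalDegree ≤ ∑ _k : s, 1 := Finset.sum_le_sum fun k _ => by
      refine totalDegree_finsetSum_le fun a _ => (totalDegree_mul _ _).trans ?_
      rw [totalDegree_C, totalDegree_X]
    have h2 : (f none).totalDegree ≤ m := hdegdet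
    simp only [Finset.sum_const, Finset.card_univ, Fintype.card_coe, smul_eq_mul, mul_one] at h1
    omega) (fun k => by
    rcases k with _ | k
    · show eval _ N.det = 0
      rw [heval]
      simp [Matrix.det_zero]
    · simp [f])
  have hdet0 : ((∑ a, (z (some a) : F) • M a) - (z none : F) • (1 : Matrix (Fin m) (Fin m) F)).det = 0 := by
    rw [← heval (fun i => (z i : F))]; exact hz none
  refine ⟨fun a => z (some a), fun a => (z (some a)).2, fun h0 => hz0 (funext fun a => ?_), fun k hk => ?_,
    z none, (z none).2, ?_⟩
  · have hsum : ∑ a, (z (some a) : F) • M a = 0 := Finset.sum_eq_zero fun a _ => by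
      rw [show (z (some a) : F) = 0 from congrFun h0 a, zero_smul]
    rw [hsum, zero_sub, Matrix.det_neg, Matrix.det_smul, Matrix.det_one, mul_one, Fintype.card_fin] at hdet0
    rcases a with _ | a
    · exact Subtype.ext ((pow_eq_zero_iff (NeZero.ne m)).1 ((mul_eq_zero.1 hdet0).resolve_left
        (pow_ne_zero _ (neg_ne_zero.2 one_ne_zero))))
    · exact Subtype.ext (congrFun h0 a)
  · have := hz (some ⟨k, hk⟩)
    simpa [f, Matrix.sum_apply, mul_comm] using this
  · obtain ⟨v, hv, e⟩ := Matrix.exists_mulVec_eq_zero_iff.2 hdet0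
    refine ⟨v, hv, ?_⟩
    rwa [Matrix.sub_mulVec, Matrix.smul_mulVec, Matrix.one_mulVec, sub_eq_zero] at e

end Cfsg.Agent.ClassicalMax.UnTensor
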