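import Cfsg.Agent.ClassicalMax.UnTensor.Space

/-!
A Hermitian space that is the tensor product of two Hermitian spaces `U` and `W`: contraction with a vector of one
factor, the maps supported on `u ⊗ W` for an isotropic `u`, and the maps preserving the decomposition.
-/

set_option autoImplicit false
set_option linter.unusedSectionVars false
set_option linter.style.haveILetI false

namespace Cfsg.Agent.ClassicalMax.UnTensor

open Module Cfsg.Agent.Classical

variable {F U W V : Type*} [Field F] [AddCommGroup U] [Module F U] [AddCommGroup W] [Module F W] [AddCommGroup V]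
  [Module F V] {σ : F →+* F} {B : V →ₛₗ[σ] V →ₗ[F] F} {A : U →ₛₗ[σ] U →ₗ[F] F} {C : W →ₛₗ[σ] W →ₗ[F] F}
  {pt : U →ₗ[F] W →ₗ[F] V}

/-- a tensor decomposition of a Hermitian space -/
structure Frame (B : V →ₛₗ[σ] V →ₗ[F] F) (A : U →ₛₗ[σ] U →ₗ[F] F) (C : W →ₛₗ[σ] W →ₗ[F] F)
    (pt : U →ₗ[F] W →ₗ[F] V) : Prop where
  hB : Herm.IsHerm B
  hA : Herm.IsHerm A
  hC : Herm.IsHerm C
  prod : ∀ u y u' y', B (pt u y) (pt u' y') = A u u' * C y y'
  span : ∀ z, (∀ u y, B (pt u y) z = 0) → z = 0
  lift : ∀ (a : U ≃ₗ[F] U) (b : W ≃ₗ[F] W), ∃ g : V ≃ₗ[F] V, ∀ x y, g (pt x y) = pt (a x) (b y)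

/-- the bounds on the dimensions -/
structure Dims (σ : F →+* F) (U W : Type*) [AddCommGroup U] [Module F U] [AddCommGroup W] [Module F W] : Prop where
  two : 2 ≤ finrank F W
  lt : finrank F W < finrank F U
  five : 3 ≤ finrank F U
  hex : finrank F W = 2 → ∃ k : F, σ k = k ∧ k ≠ 0 ∧ k ≠ 1

/-- the map preserves the decomposition -/
def InN (pt : U →ₗ[F] W →ₗ[F] V) (g : V ≃ₗ[F] V) : Prop :=
  ∃ (a : U →ₗ[F] U) (b : W →ₗ[F] W), ∀ x y, g (pt x y) = pt (a x) (b y)

theorem InN.mul {g h : V ≃ₗ[F] V} (hg : InN pt g) (hh : InN pt h) : InN pt (g * h) := by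
  obtain ⟨a, b, e⟩ := hg
  obtain ⟨a', b', e'⟩ := hh
  exact ⟨a ∘ₗ a', b ∘ₗ b', fun x y => by rw [LinearEquiv.mul_apply, e', e]; rfl⟩

theorem InN.flip {g : V ≃ₗ[F] V} (hg : InN pt g) : InN pt.flip g := by
  obtain ⟨a, b, e⟩ := hg
  exact ⟨b, a, fun y x => e x y⟩

theorem InN.of_flip {g : V ≃ₗ[F] V} (hg : InN pt.flip g) : InN pt g := by
  obtain ⟨a, b, e⟩ := hg
  exact ⟨b, a, fun x y => e y x⟩

theorem apply_inv (g : V ≃ₗ[F] V) (z : V) : g (g⁻¹ z) = z := by
  rw [← LinearEquiv.mul_apply, mul_inv_cancel]; rfl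

theorem inv_apply (g : V ≃ₗ[F] V) (z : V) : g⁻¹ (g z) = z := by
  rw [← LinearEquiv.mul_apply, inv_mul_cancel]; rfl

theorem iso_inv {g : V ≃ₗ[F] V} (hg : ∀ x y, B (g x) (g y) = B x y) (x y : V) : B (g⁻¹ x) (g⁻¹ y) = B x y := by
  rw [← hg, apply_inv, apply_inv]

/-- unipotent maps have determinant one -/
theorem det_one_of_cube [Finite F] [FiniteDimensional F V] (g : V ≃ₗ[F] V)
    (h : ∀ z, g (g (g z) - g z) - (g (g z) - g z) - (g (g z - z) - (g z - z)) = 0) :
    LinearMap.det g.toLinearMap = 1 := by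
  have := Herm.det_eq_one_of_cube g (LinearMap.ext fun z => by
    rw [pow_succ', pow_two, Module.End.mul_apply, Module.End.mul_apply, LinearMap.zero_apply, ← h z]
    simp only [LinearMap.sub_apply, Module.End.one_apply, LinearEquiv.coe_coe, map_sub])
  rw [← LinearEquiv.coe_det, this, Units.val_one]

namespace Frame

variable (hF : Frame B A C pt)
include hF

/-- the factors exchanged -/
theorem swap : Frame B C A pt.flip where
  hB := hF.hB
  hA := hF.hC
  hC := hF.hA
  prod y u y' u' := (hF.prod u y u' y').trans (mul_comm _ _)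
  span z hz := hF.span z fun u y => hz y u
  lift b a := by
    obtain ⟨g, hg⟩ := hF.lift a b
    exact ⟨g, fun y x => hg x y⟩

theorem span_top [Finite F] [FiniteDimensional F V] :
    Submodule.span F (Set.range fun p : U × W => pt p.1 p.2) = ⊤ := by
  by_contra h
  obtain ⟨φ, hφ, hle⟩ := Submodule.exists_le_ker_of_lt_top _ (lt_top_iff_ne_top.2 h)
  obtain ⟨z, hz⟩ := Herm.exists_repr hF.hB φ
  refine hφ (LinearMap.ext fun x => ?_)
  rw [← hz, hF.span z fun u y => by
    rw [← hF.hB.symm, hz, show φ (pt u y) = 0 from hle (Submodule.subset_span ⟨(u, y), rfl⟩), map_zero]]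
  simp

theorem ext_pure [Finite F] [FiniteDimensional F V] {M : Type*} [AddCommGroup M] [Module F M] {τ : F →+* F}
    {f g : V →ₛₗ[τ] M} (h : ∀ x y, f (pt x y) = g (pt x y)) : f = g :=
  LinearMap.ext_on hF.span_top (by rintro _ ⟨p, rfl⟩; exact h p.1 p.2)

theorem ext_equiv [Finite F] [FiniteDimensional F V] {f g : V ≃ₗ[F] V}
    (h : ∀ x y, f (pt x y) = g (pt x y)) : f = g :=
  LinearEquiv.toLinearMap_injective (hF.ext_pure h)

theorem iso_of_pure [Finite F] [FiniteDimensional F V] {g : V ≃ₗ[F] V}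
    (h : ∀ x y x' y', B (g (pt x y)) (g (pt x' y')) = B (pt x y) (pt x' y')) : ∀ z z', B (g z) (g z') = B z z' := by
  have : (B.compl₂ g.toLinearMap).comp g.toLinearMap = B :=
    hF.ext_pure fun x y => hF.ext_pure fun x' y' => h x y x' y'
  exact fun z z' => LinearMap.congr_fun (LinearMap.congr_fun this z) z'

end Frame

variable [Finite F] [FiniteDimensional F W]

/-- an orthonormal basis of the second factor -/
noncomputable def Frame.onb (hF : Frame B A C pt) : Basis (Fin (finrank F W)) F W :=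
  (Herm.exists_orthonormal hF.hC).choose

theorem Frame.onb_spec (hF : Frame B A C pt) : Herm.IsON C hF.onb := (Herm.exists_orthonormal hF.hC).choose_spec

/-- contraction with a vector of the first factor -/
noncomputable def Frame.ev (hF : Frame B A C pt) : U →ₛₗ[σ] V →ₗ[F] W :=
  LinearMap.mk₂'ₛₗ σ (RingHom.id F) (fun v z => ∑ i, B (pt v (hF.onb i)) z • hF.onb i)
    (fun v v' z => by simp [add_smul, Finset.sum_add_distrib])
    (fun c v z => by simp [Finset.smul_sum, smul_smul])
    (fun v z z' => by simp [add_smul, Finset.sum_add_distrib])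
    (fun c v z => by simp [Finset.smul_sum, smul_smul])

/-- the adjoint for the form of the second factor -/
noncomputable def Frame.adj (hF : Frame B A C pt) (T : W →ₗ[F] W) : W →ₗ[F] W :=
  ∑ i, ((C (T (hF.onb i))).smulRight (hF.onb i))

namespace Frame

variable (hF : Frame B A C pt)

theorem C_ev (v : U) (z : V) (y : W) : C y (hF.ev v z) = B (pt v y) z := by
  have : C.flip (hF.ev v z) = (B.flip z).comp (pt v) := hF.onb.ext fun j => by
    show C (hF.onb j) (hF.ev v z) = B (pt v (hF.onb j)) z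
    rw [Frame.ev, LinearMap.mk₂'ₛₗ_apply, map_sum, Finset.sum_eq_single j]
    · rw [map_smul, hF.onb_spec, if_pos rfl, smul_eq_mul, mul_one]
    · intro i _ hi
      rw [map_smul, hF.onb_spec, if_neg (Ne.symm hi), smul_zero]
    · simp
  exact LinearMap.congr_fun this y

theorem C_adj (T : W →ₗ[F] W) (y w : W) : C y (hF.adj T w) = C (T y) w := by
  have : C.flip (hF.adj T w) = (C.flip w).comp T := hF.onb.ext fun j => by
    show C (hF.onb j) (hF.adj T w) = C (T (hF.onb j)) w
    rw [Frame.adj, LinearMap.sum_apply, map_sum, Finset.sum_eq_single j]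
    · rw [LinearMap.smulRight_apply, map_smul, hF.onb_spec, if_pos rfl, smul_eq_mul, mul_one]
    · intro i _ hi
      rw [LinearMap.smulRight_apply, map_smul, hF.onb_spec, if_neg (Ne.symm hi), smul_zero]
    · simp
  exact LinearMap.congr_fun this y

include hF

theorem eq_of_C {w w' : W} (h : ∀ y, C y w = C y w') : w = w' :=
  sub_eq_zero.1 (hF.hC.nondeg _ fun y => (Herm.eq_zero_comm hF.hC).2 (by rw [map_sub, h, sub_self]))

theorem B_pt (v : U) (z : V) (y : W) : B z (pt v y) = C (hF.ev v z) y := by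
  rw [← hF.hB.symm, ← hF.C_ev, hF.hC.symm]

theorem ev_pt (v u : U) (y : W) : hF.ev v (pt u y) = A v u • y :=
  hF.eq_of_C fun y' => by rw [hF.C_ev, hF.prod, map_smul, smul_eq_mul]

theorem eq_zero_of_ev {z : V} (h : ∀ v, hF.ev v z = 0) : z = 0 :=
  hF.span z fun u y => by rw [← hF.C_ev, h, map_zero]

theorem eq_of_ev {z z' : V} (h : ∀ v, hF.ev v z = hF.ev v z') : z = z' :=
  sub_eq_zero.1 (hF.eq_zero_of_ev fun v => by rw [map_sub, h, sub_self])

variable [FiniteDimensional F U]

theorem pt_injective {u : U} (hu : u ≠ 0) : Function.Injective (pt u) := fun y y' h => by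
  obtain ⟨u', hu', -⟩ := exists_pairing_one hF.hA hu
  have := congrArg (hF.ev u') h
  rwa [hF.ev_pt, hF.ev_pt, hu', one_smul, one_smul] at this

theorem finrank_R {u : U} (hu : u ≠ 0) : finrank F (LinearMap.range (pt u)) = finrank F W :=
  LinearMap.finrank_range_of_inj (hF.pt_injective hu)

omit [FiniteDimensional F U] in
theorem ev_mem_R {u v : U} (huv : A v u = 0) {z : V} (hz : z ∈ LinearMap.range (pt u)) : hF.ev v z = 0 := by
  obtain ⟨y, rfl⟩ := hz
  rw [hF.ev_pt, huv, zero_smul]

omit [FiniteDimensional F U] in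
theorem eq_pt {u u' : U} (h : A u' u = 1) {z : V} (hz : ∀ v, A v u = 0 → hF.ev v z = 0) :
    z = pt u (hF.ev u' z) := by
  refine hF.eq_of_ev fun v => ?_
  have h0 := hz (v - A u v • u') (by
    rw [map_sub, map_smulₛₗ, LinearMap.sub_apply, LinearMap.smul_apply, smul_eq_mul, hF.hA.symm, h, mul_one, sub_self])
  rw [map_sub, map_smulₛₗ, LinearMap.sub_apply, LinearMap.smul_apply, sub_eq_zero, hF.hA.symm] at h0
  rw [hF.ev_pt, h0]

theorem mem_R {u : U} (hu : u ≠ 0) {z : V} (h : ∀ v, A v u = 0 → hF.ev v z = 0) :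
    z ∈ LinearMap.range (pt u) := by
  obtain ⟨u', hu', -⟩ := exists_pairing_one hF.hA hu
  exact ⟨_, (hF.eq_pt hu' h).symm⟩

theorem ev_surjective {u : U} (hu : u ≠ 0) (y : W) : ∃ z, hF.ev u z = y := by
  obtain ⟨u', -, hu'⟩ := exists_pairing_one hF.hA hu
  exact ⟨pt u' y, by rw [hF.ev_pt, hu', one_smul]⟩

variable [FiniteDimensional F V]

/-- similitudes of inverse multipliers give an isometry -/
theorem exists_lift {a : U ≃ₗ[F] U} {b : W ≃ₗ[F] W} {μ ν : F} (ha : ∀ x y, A (a x) (a y) = μ * A x y)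
    (hb : ∀ x y, C (b x) (b y) = ν * C x y) (hμν : μ * ν = 1) :
    ∃ g : V ≃ₗ[F] V, (∀ z z', B (g z) (g z') = B z z') ∧ InN pt g ∧ (∀ x y, g (pt x y) = pt (a x) (b y)) ∧
      ∀ u z, hF.ev (a u) (g z) = μ • b (hF.ev u z) := by
  obtain ⟨g, hg⟩ := hF.lift a b
  have hiso : ∀ z z', B (g z) (g z') = B z z' := hF.iso_of_pure fun x y x' y' => by
    rw [hg, hg, hF.prod, hF.prod, ha, hb]
    linear_combination (A x x' * C y y') * hμν
  refine ⟨g, hiso, ⟨a, b, hg⟩, hg, fun u z => hF.eq_of_C fun y => ?_⟩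
  obtain ⟨y, rfl⟩ := b.surjective y
  rw [hF.C_ev, map_smul, smul_eq_mul, hb, hF.C_ev, ← hg, hiso]
  linear_combination (-(B (pt u y) z)) * hμν

theorem inN_inv [Nontrivial U] [Nontrivial W] {g : V ≃ₗ[F] V} (hg : InN pt g) : InN pt g⁻¹ := by
  obtain ⟨a, b, e⟩ := hg
  have ha : Function.Injective a := (injective_iff_map_eq_zero a).2 fun x hx => by
    by_contra hx0
    obtain ⟨y, hy⟩ := exists_ne (0 : W)
    refine hy (hF.pt_injective hx0 (g.injective ?_))
    rw [e, hx, map_zero pt, LinearMap.zero_apply, map_zero (pt x), map_zero g]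
  have hb : Function.Injective b := (injective_iff_map_eq_zero b).2 fun y hy => by
    obtain ⟨x, hx⟩ := exists_ne (0 : U)
    refine hF.pt_injective hx (g.injective ?_)
    rw [e, hy, map_zero (pt (a x)), map_zero (pt x), map_zero g]
  refine ⟨(LinearEquiv.ofInjectiveEndo a ha).symm.toLinearMap, (LinearEquiv.ofInjectiveEndo b hb).symm.toLinearMap,
    fun x y => g.injective ?_⟩
  rw [apply_inv, e]
  exact (congrArg₂ (fun p q => pt p q) ((LinearEquiv.ofInjectiveEndo a ha).apply_symm_apply x)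
    ((LinearEquiv.ofInjectiveEndo b hb).apply_symm_apply y)).symm

/-- a preserving map moving a subspace of dimension at most that of `W`, smaller than that of `U`, moves one
`w ⊗ W` -/
theorem range_inN (hlt : finrank F W < finrank F U) {h : V ≃ₗ[F] V} (hh : InN pt h) (h1 : h ≠ 1) {R : Submodule F V}
    (hR : ∀ z, h z - z ∈ R) (hdim : finrank F R ≤ finrank F W) : ∃ w, w ≠ 0 ∧ LinearMap.range (pt w) = R := by
  obtain ⟨a, b, e⟩ := hh
  have hb : ∀ y, b y ∈ F ∙ y := fun y => by
    by_contra hy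
    let T : U →ₗ[F] R := (pt.flip (b y) ∘ₗ a - pt.flip y).codRestrict R fun x => by
      show pt (a x) (b y) - pt x y ∈ R
      rw [← e]; exact hR _
    have hT : Function.Injective T := (injective_iff_map_eq_zero T).2 fun x hx => by
      by_contra hx0
      have hy0 : y ≠ 0 := fun h0 => hy (by rw [h0, map_zero]; exact Submodule.zero_mem _)
      obtain ⟨v, hv, -⟩ := exists_pairing_one hF.hA hx0
      have hz : pt (a x) (b y) - pt x y = 0 := congrArg Subtype.val hx
      have := congrArg (hF.ev v) hz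
      rw [map_sub, hF.ev_pt, hF.ev_pt, hv, one_smul, map_zero, sub_eq_zero] at this
      by_cases h0 : A v (a x) = 0
      · rw [h0, zero_smul] at this
        exact hy0 this.symm
      · exact hy (Submodule.mem_span_singleton.2 ⟨(A v (a x))⁻¹, by
          conv_lhs => arg 2; rw [← this]
          rw [inv_smul_smul₀ h0]⟩)
    have := LinearMap.finrank_le_finrank_of_injective hT
    omega
  obtain ⟨β, hβ⟩ : ∃ β : F, ∀ y, b y = β • y := by
    rcases subsingleton_or_nontrivial W with hW | hW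
    · exact ⟨0, fun y => Subsingleton.elim _ _⟩
    obtain ⟨y₀, hy₀⟩ := exists_ne (0 : W)
    obtain ⟨l, hl⟩ := Submodule.mem_span_singleton.1 (hb y₀)
    refine ⟨l, fun y => ?_⟩
    obtain ⟨m, hm⟩ := Submodule.mem_span_singleton.1 (hb y)
    by_cases hdep : y ∈ F ∙ y₀
    · obtain ⟨s, rfl⟩ := Submodule.mem_span_singleton.1 hdep
      rw [map_smul, ← hl, smul_comm]
    obtain ⟨n, hn⟩ := Submodule.mem_span_singleton.1 (hb (y + y₀))
    rw [map_add, ← hl, ← hm] at hn
    have := LinearIndependent.pair_iff.1 ((LinearIndependent.pair_iff' hy₀).2 fun c hc =>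
      hdep (Submodule.mem_span_singleton.2 ⟨c, hc⟩)) (n - l) (n - m) (by
        rw [sub_smul, sub_smul, sub_add_sub_comm, ← smul_add, add_comm y₀ y, hn, add_comm (l • y₀), sub_self])
    rw [← hm, show m = l by linear_combination this.1 - this.2]
  have e' : ∀ x y, h (pt x y) = pt (β • a x) y := fun x y => by
    rw [e, hβ, map_smul, map_smul pt, LinearMap.smul_apply]
  obtain ⟨x, hx⟩ : ∃ x, β • a x ≠ x := by
    by_contra! hall
    exact h1 (hF.ext_equiv fun x y => by rw [e', hall]; rfl)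
  refine ⟨β • a x - x, sub_ne_zero.2 hx, Submodule.eq_of_le_of_finrank_le ?_ (by
    rw [hF.finrank_R (sub_ne_zero.2 hx)]; exact hdim)⟩
  rintro _ ⟨y, rfl⟩
  rw [map_sub, LinearMap.sub_apply, ← e']
  exact hR _

end Frame

/-- `z ↦ z + u ⊗ S(ev u z)` for an isotropic `u` -/
noncomputable def Frame.rad (hF : Frame B A C pt) (u : U) (S : W →ₗ[F] W) : V ≃ₗ[F] V :=
  haveI := Classical.propDecidable (A u u = 0)
  if h : A u u = 0 then
    { toFun := fun z => z + pt u (S (hF.ev u z))
      map_add' := fun z z' => by simp only [map_add]; abel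
      map_smul' := fun c z => by simp only [map_smul, smul_add, RingHom.id_apply]
      invFun := fun z => z - pt u (S (hF.ev u z))
      left_inv := fun z => by simp only [map_add, hF.ev_pt, h, zero_smul, add_zero, add_sub_cancel_right]
      right_inv := fun z => by simp only [map_sub, hF.ev_pt, h, zero_smul, sub_zero, sub_add_cancel] }
  else 1

/-- the transvection of the first factor -/
noncomputable def Frame.lt (hF : Frame B A C pt) (u : U) (c : F) : V ≃ₗ[F] V := hF.rad u (c • LinearMap.id)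

namespace Frame

variable (hF : Frame B A C pt) {u : U} (hu : A u u = 0)
include hu

theorem rad_apply (S : W →ₗ[F] W) (z : V) : hF.rad u S z = z + pt u (S (hF.ev u z)) := by
  rw [Frame.rad, dif_pos hu]
  rfl

theorem rad_add (S S' : W →ₗ[F] W) : hF.rad u S * hF.rad u S' = hF.rad u (S + S') :=
  LinearEquiv.ext fun z => by
    simp only [LinearEquiv.mul_apply, hF.rad_apply hu, map_add, hF.ev_pt, hu, zero_smul, add_zero,
      LinearMap.add_apply]
    abel

theorem rad_zero : hF.rad u 0 = 1 := LinearEquiv.ext fun z => by simp [hF.rad_apply hu]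

theorem rad_inv (S : W →ₗ[F] W) : (hF.rad u S)⁻¹ = hF.rad u (-S) :=
  inv_eq_of_mul_eq_one_right (by rw [hF.rad_add hu, add_neg_cancel, hF.rad_zero hu])

theorem rad_iso {S : W →ₗ[F] W} (hS : ∀ a b, C (S a) b + C a (S b) = 0) (z z' : V) :
    B (hF.rad u S z) (hF.rad u S z') = B z z' := by
  simp only [hF.rad_apply hu, map_add, LinearMap.add_apply, hF.B_pt u z, hF.prod, hu, zero_mul, add_zero,
    ← hF.C_ev u z']
  linear_combination hS (hF.ev u z) (hF.ev u z')

theorem rad_det [FiniteDimensional F V] (S : W →ₗ[F] W) : LinearMap.det (hF.rad u S).toLinearMap = 1 :=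
  det_one_of_cube _ fun z => by
    simp only [hF.rad_apply hu, map_add, map_sub, hF.ev_pt, hu, zero_smul, add_zero]
    abel

theorem lt_apply (c : F) (z : V) : hF.lt u c z = z + c • pt u (hF.ev u z) := by
  rw [Frame.lt, hF.rad_apply hu, LinearMap.smul_apply, LinearMap.id_apply, map_smul]

theorem lt_pt (c : F) (x : U) (y : W) : hF.lt u c (pt x y) = pt (Herm.tvU hu c x) y := by
  rw [hF.lt_apply hu, hF.ev_pt, Herm.tvU_apply, map_smul, smul_smul, map_add pt, LinearMap.add_apply, map_smul pt,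
    LinearMap.smul_apply]

theorem lt_inN (c : F) : InN pt (hF.lt u c) :=
  ⟨(Herm.tvU hu c).toLinearMap, LinearMap.id, fun x y => hF.lt_pt hu c x y⟩

theorem lt_iso {c : F} (hc : c + σ c = 0) (z z' : V) : B (hF.lt u c z) (hF.lt u c z') = B z z' :=
  hF.rad_iso hu (fun a b => by
    simp only [LinearMap.smul_apply, LinearMap.id_apply, map_smulₛₗ, smul_eq_mul, RingHom.id_apply]
    linear_combination C a b * hc) z z'

/-- a transvection of the space with pure centre -/
theorem tvU_pt {s : W} (h : B (pt u s) (pt u s) = 0) (c : F) :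
    Herm.tvU h c = hF.rad u (c • (C s).smulRight s) := LinearEquiv.ext fun z => by
  rw [Herm.tvU_apply, hF.rad_apply hu, LinearMap.smul_apply, LinearMap.smulRight_apply, hF.C_ev, smul_smul, map_smul]

end Frame

end Cfsg.Agent.ClassicalMax.UnTensor
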