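import Cfsg.Agent.ClassicalMax.UnTensor.Step

/-!
An overgroup of the stabiliser of a unitary tensor decomposition either preserves the decomposition or contains
every isotropic centre.
-/

set_option autoImplicit false
set_option linter.unusedSectionVars false
set_option linter.style.haveILetI false

namespace Cfsg.Agent.ClassicalMax.UnTensor

open Module Cfsg.Agent.Classical Cfsg.Agent.ClassicalMax

variable {F U W V : Type*} [Field F] [Finite F] [AddCommGroup U] [Module F U] [AddCommGroup W] [Module F W]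
  [AddCommGroup V] [Module F V] [FiniteDimensional F U] [FiniteDimensional F W] [FiniteDimensional F V]
  {σ : F →+* F} {B : V →ₛₗ[σ] V →ₗ[F] F} {A : U →ₛₗ[σ] U →ₗ[F] F} {C : W →ₛₗ[σ] W →ₗ[F] F}
  {pt : U →ₗ[F] W →ₗ[F] V} {X : Subgroup (V ≃ₗ[F] V)}

/-- the part of `u ⊗ W` mapped into `v ⊗ W` -/
def L2 (pt : U →ₗ[F] W →ₗ[F] V) (g : V ≃ₗ[F] V) (u v : U) : Submodule F W :=
  (LinearMap.range (pt v)).comap (g.toLinearMap ∘ₗ pt u)

theorem mem_L2 {g : V ≃ₗ[F] V} {u v : U} {y : W} : y ∈ L2 pt g u v ↔ ∃ p, pt v p = g (pt u y) := Iff.rfl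

/-- the common bound -/
def Bound (B : V →ₛₗ[σ] V →ₗ[F] F) (A : U →ₛₗ[σ] U →ₗ[F] F) (pt : U →ₗ[F] W →ₗ[F] V)
    (X : Subgroup (V ≃ₗ[F] V)) (D : ℕ) : Prop :=
  ∀ g ∈ X, ¬ InN pt g → ∀ u v : U, u ≠ 0 → A u u = 0 → v ≠ 0 → A v v = 0 → finrank F (L2 pt g u v) ≤ D

variable (hO : Over B pt X) (hF : Frame B A C pt)
include hF

theorem finrank_L2 {g : V ≃ₗ[F] V} {u v : U} (hu : u ≠ 0) :
    finrank F (L2 pt g u v) =
      finrank F ↥((LinearMap.range (pt u)).map g.toLinearMap ⊓ LinearMap.range (pt v)) := by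
  have hinj : Function.Injective (g.toLinearMap ∘ₗ pt u) := g.injective.comp (hF.pt_injective hu)
  refine (Submodule.equivMapOfInjective _ hinj _).finrank_eq.trans ?_
  rw [L2, Submodule.map_comap_eq, LinearMap.range_comp]

theorem finrank_L2_inv (g : V ≃ₗ[F] V) {u v : U} (hu : u ≠ 0) (hv : v ≠ 0) :
    finrank F (L2 pt g⁻¹ v u) = finrank F (L2 pt g u v) := by
  rw [finrank_L2 hF hv, finrank_L2 hF hu,
    ← LinearEquiv.finrank_map_eq g ((LinearMap.range (pt v)).map (g⁻¹).toLinearMap ⊓ LinearMap.range (pt u)),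
    Submodule.map_inf _ g.injective, ← Submodule.map_comp,
    show g.toLinearMap ∘ₗ (g⁻¹).toLinearMap = LinearMap.id from LinearMap.ext (apply_inv g),
    Submodule.map_id, inf_comm]

include hO

variable (hd : Dims σ U W) (hD : ¬ Done B X) {D : ℕ} (hmax : Bound B A pt X D)
include hd hD hmax

/-- what a transvection of the first factor cannot move lies in the intersection -/
theorem Over.mem_of_fix {g : V ≃ₗ[F] V} (hg : g ∈ X) (hgN : ¬ InN pt g) {u v : U} (hu0 : u ≠ 0) (hu : A u u = 0)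
    (hdim : finrank F (L2 pt g u v) = D) {x : U} (hx0 : x ≠ 0) (hx : A x x = 0)
    (hL : ∀ l ∈ L2 pt g u v, hF.ev x (g (pt u l)) = 0) {y : W}
    (hy : g⁻¹ (pt x (hF.ev x (g (pt u y)))) ∈ LinearMap.range (pt u)) : y ∈ L2 pt g u v := by
  obtain ⟨c, hc0, hc⟩ := Herm.exists_skew hF.hA.toIsInvol
  have hhX : g⁻¹ * hF.lt x c * g ∈ X :=
    mul_mem (mul_mem (inv_mem hg) (hO.lt_mem hF hx (by rw [hc, add_neg_cancel]))) hg
  have hz : ∀ z, (g⁻¹ * hF.lt x c * g) z = z + c • g⁻¹ (pt x (hF.ev x (g z))) := fun z => by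
    rw [LinearEquiv.mul_apply, LinearEquiv.mul_apply, hF.lt_apply hx, map_add, inv_apply, map_smul]
  have hle : L2 pt g u v ⊔ F ∙ y ≤ L2 pt (g⁻¹ * hF.lt x c * g) u u := by
    refine sup_le (fun l hl => mem_L2.2 ⟨l, ?_⟩) ((Submodule.span_singleton_le_iff_mem _ _).2 ?_)
    · rw [hz, hL l hl, map_zero, map_zero, smul_zero, add_zero]
    · show (g⁻¹ * hF.lt x c * g) (pt u y) ∈ LinearMap.range (pt u)
      rw [hz]
      exact Submodule.add_mem _ ⟨y, rfl⟩ (Submodule.smul_mem _ _ hy)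
  have h1 := (Submodule.finrank_mono hle).trans
    (hmax _ hhX (hO.conj_not_inN hF hd hD hg hgN hx0 hx hc0) u u hu0 hu hu0 hu)
  rw [Submodule.eq_of_le_of_finrank_le (le_sup_left : L2 pt g u v ≤ L2 pt g u v ⊔ F ∙ y) (by omega)]
  exact Submodule.mem_sup_right (Submodule.mem_span_singleton_self y)

/-- when no intersection is possible no isotropic contraction kills an image -/
theorem Over.kill_false (hD0 : D = 0) {g : V ≃ₗ[F] V} (hg : g ∈ X) (hgN : ¬ InN pt g) {u : U} (hu0 : u ≠ 0)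
    (hu : A u u = 0) {y : W} (hy : y ≠ 0) {x : U} (hx0 : x ≠ 0) (hx : A x x = 0)
    (h : hF.ev x (g (pt u y)) = 0) : False := by
  have hbot : L2 pt g u u = ⊥ := Submodule.finrank_eq_zero.1 (by
    have := hmax g hg hgN u u hu0 hu hu0 hu
    omega)
  have := hO.mem_of_fix hF hd hD hmax hg hgN hu0 hu (v := u) (by rw [hbot, finrank_bot, hD0]) hx0 hx
    (fun l hl => by rw [hbot, Submodule.mem_bot] at hl; rw [hl, map_zero, map_zero, map_zero])
    (y := y) (by rw [h, map_zero, map_zero]; exact zero_mem _)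
  rw [hbot, Submodule.mem_bot] at this
  exact hy this

/-- a maximal intersection is the kernel of the contraction, and its counterpart is non-degenerate -/
theorem Over.top_struct {g : V ≃ₗ[F] V} (hg : g ∈ X) (hgN : ¬ InN pt g) {u v : U} (hu0 : u ≠ 0) (hu : A u u = 0)
    (hv0 : v ≠ 0) (hv : A v v = 0) (hdim : finrank F (L2 pt g u v) = D) :
    (∀ y, hF.ev v (g (pt u y)) = 0 → y ∈ L2 pt g u v) ∧
      ∀ p ∈ L2 pt g⁻¹ v u, p ∈ orth C (L2 pt g⁻¹ v u) → p = 0 := by
  have hLv : ∀ l ∈ L2 pt g u v, hF.ev v (g (pt u l)) = 0 := fun l hl => by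
    obtain ⟨p, hp⟩ := mem_L2.1 hl
    rw [← hp, hF.ev_pt, hv, zero_smul]
  have hker : ∀ y, hF.ev v (g (pt u y)) = 0 → y ∈ L2 pt g u v := fun y hy =>
    hO.mem_of_fix hF hd hD hmax hg hgN hu0 hu hdim hv0 hv hLv (by rw [hy, map_zero, map_zero]; exact zero_mem _)
  refine ⟨hker, fun p hp hperp => ?_⟩
  set L := L2 pt g⁻¹ v u with hLdef
  set M : W →ₗ[F] W := hF.ev v ∘ₗ g.toLinearMap ∘ₗ pt u with hM
  have hMle : LinearMap.range M ≤ orth C L := by
    rintro _ ⟨y, rfl⟩ l hl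
    obtain ⟨l', hl'⟩ := mem_L2.1 hl
    rw [hM, LinearMap.comp_apply, LinearMap.comp_apply, LinearEquiv.coe_coe, hF.C_ev,
      show pt v l = g (pt u l') by rw [hl', apply_inv], hO.iso g hg, hF.prod, hu, zero_mul]
  have hk : LinearMap.ker M = L2 pt g u v := le_antisymm (fun y hy => hker y hy) fun l hl => hLv l hl
  have h1 := M.finrank_range_add_finrank_ker
  have h2 := finrank_orth_add hF.hC L
  rw [hk, hdim] at h1
  rw [hLdef, finrank_L2_inv hF g hu0 hv0, hdim, ← hLdef] at h2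
  rw [← Submodule.eq_of_le_of_finrank_le hMle (by omega)] at hperp
  obtain ⟨y, rfl⟩ := hperp
  obtain ⟨l', hl'⟩ := mem_L2.1 hp
  have hy := hO.mem_of_fix hF hd hD hmax hg hgN hu0 hu hdim hv0 hv hLv (y := y) ⟨l', hl'⟩
  rw [← hk] at hy
  exact hy

omit hD hmax in
/-- members of the stabiliser conjugated by the element -/
theorem Over.step_mem {Q : V ≃ₗ[F] V} (hQ : ∀ x y, B (Q x) (Q y) = B x y) (hQN : InN pt Q)
    (hQd : LinearMap.det Q.toLinearMap = 1) {g : V ≃ₗ[F] V} (hg : g ∈ X) : g⁻¹ * Q * g ∈ X :=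
  mul_mem (mul_mem (inv_mem hg) (hO.mem Q hQ hQN hQd)) hg

/-- the conjugated member preserves the decomposition when it kills a vector outside the intersection -/
theorem Over.zero_case {g' : V ≃ₗ[F] V} (hg' : g' ∈ X) {u : U} (hu0 : u ≠ 0) (hu : A u u = 0)
    {L : Submodule F W} (hL : finrank F L = D) (hfix : ∀ l ∈ L, g' (pt u l) = pt u l) {y : W} (hyL : y ∉ L)
    (hy : hF.ev u (g' (pt u y)) = 0) : InN pt g' := by
  by_contra hN
  have hle : L ≤ L2 pt g' u u := fun l hl => mem_L2.2 ⟨l, (hfix l hl).symm⟩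
  have heq : L = L2 pt g' u u :=
    Submodule.eq_of_le_of_finrank_le hle (hL.symm ▸ hmax g' hg' hN u u hu0 hu hu0 hu)
  refine hyL (heq ▸ hO.mem_of_fix hF hd hD hmax hg' hN hu0 hu (heq ▸ hL) hu0 hu (fun l hl => ?_) ?_)
  · rw [hfix l (heq ▸ hl), hF.ev_pt, hu, zero_smul]
  · rw [hy, map_zero, map_zero]; exact zero_mem _

omit hD hmax in
/-- a preserving element fixing a non-degenerate part of `u ⊗ W` and unipotent there fixes a vector of its
orthogonal -/
theorem Over.fix_in_orth {g' : V ≃ₗ[F] V} (hg' : g' ∈ X) (hN : InN pt g') {u : U} (hu0 : u ≠ 0)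
    (hsq : ∀ z, g' (g' z - z) = g' z - z) {L : Submodule F W} (hnd : ∀ l ∈ L, l ∈ orth C L → l = 0) (hL0 : L ≠ ⊥)
    (hLtop : L ≠ ⊤) (hfix : ∀ l ∈ L, g' (pt u l) = pt u l) :
    ∃ y ∈ orth C L, y ≠ 0 ∧ g' (pt u y) = pt u y := by
  have hC := hF.hC
  obtain ⟨a, b, e⟩ := hN
  obtain ⟨u'', hu'', huu''⟩ := exists_pairing_one hF.hA hu0
  obtain ⟨l, hl, hll⟩ : ∃ l ∈ L, C l l ≠ 0 := by
    obtain ⟨l, hl, hl0⟩ := Submodule.exists_mem_ne_zero_of_ne_bot hL0
    obtain ⟨l', hl', hne⟩ : ∃ l' ∈ L, C l' l ≠ 0 := by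
      by_contra! h
      exact hl0 (hnd l hl h)
    exact Herm.exists_anisotropic hC L ⟨l', hl', l, hl, hne⟩
  have hbl : A u'' (a u) • b l = l := by
    have := congrArg (hF.ev u'') (hfix l hl)
    rwa [e, hF.ev_pt, hF.ev_pt, hu'', one_smul] at this
  set κ := A u'' (a u) with hκ
  have hl0 : l ≠ 0 := fun h => hll (by rw [h, map_zero])
  have hbl0 : b l ≠ 0 := fun h => hl0 (by rw [← hbl, h, smul_zero])
  have hR : ∀ y, g' (pt u y) = pt u (κ • b y) := fun y => by
    have := hF.eq_pt hu'' (z := g' (pt u y)) fun v hv => by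
      have h1 := congrArg (hF.ev v) (hfix l hl)
      rw [e, hF.ev_pt, hF.ev_pt, hv, zero_smul, smul_eq_zero] at h1
      rw [e, hF.ev_pt, h1.resolve_right hbl0, zero_smul]
    rwa [e, hF.ev_pt, ← e] at this
  set ν := A (a u) (a u'') with hν
  have hCb : ∀ y y', ν * C (b y) (b y') = C y y' := fun y y' => by
    have := hO.iso g' hg' (pt u y) (pt u'' y')
    rwa [e, e, hF.prod, hF.prod, huu'', one_mul] at this
  have hiso : ∀ y y', C (κ • b y) (κ • b y') = C y y' := fun y y' => by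
    have hν0 : ν ≠ 0 := fun h0 => hll (by rw [← hCb, h0, zero_mul])
    have h1 : (κ * σ κ) * C (b l) (b l) = C l l := by
      rw [← Herm.smul_self hC, hbl]
    have h2 := hCb l l
    have h3 : κ * σ κ = ν := mul_right_cancel₀ (fun h0 => hll (by rw [← h2, h0, mul_zero]))
      (h1.trans h2.symm)
    rw [← hCb y y', ← h3]
    simp only [map_smulₛₗ, LinearMap.smul_apply, smul_eq_mul, RingHom.id_apply]
    ring
  have hpres : ∀ y ∈ orth C L, κ • b y ∈ orth C L := fun y hy l' hl' => by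
    have e1 : κ • b l' = l' := by
      have := congrArg (hF.ev u'') (hfix l' hl')
      rwa [e, hF.ev_pt, hF.ev_pt, hu'', one_smul] at this
    rw [← e1, hiso]
    exact hy l' hl'
  obtain ⟨y, hy, hy0⟩ : ∃ y ∈ orth C L, y ≠ 0 := Submodule.exists_mem_ne_zero_of_ne_bot fun h0 => hLtop (by
    have := sup_orth hC hnd
    rwa [h0, sup_bot_eq] at this)
  by_cases h : κ • b y = y
  · exact ⟨y, hy, hy0, by rw [hR, h]⟩
  refine ⟨κ • b y - y, Submodule.sub_mem _ (hpres y hy) hy, sub_ne_zero.2 h, ?_⟩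
  have := hsq (pt u y)
  rwa [hR, ← map_sub (pt u)] at this

/-- the generic configuration is impossible -/
theorem Over.no_top (hU4 : 4 ≤ finrank F U) {g : V ≃ₗ[F] V} (hg : g ∈ X) (hgN : ¬ InN pt g) {u v : U} (hu0 : u ≠ 0) (hu : A u u = 0)
    (hv0 : v ≠ 0) (hv : A v v = 0) (hdim : finrank F (L2 pt g u v) = D) : False := by
  classical
  have hA := hF.hA
  have hC := hF.hC
  have hgi := hO.iso g hg
  obtain ⟨hker, -⟩ := hO.top_struct hF hd hD hmax hg hgN hu0 hu hv0 hv hdim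
  obtain ⟨-, hnd⟩ := hO.top_struct hF hd hD hmax (inv_mem hg)
    (fun h => hgN (by
      haveI : Nontrivial W := Module.nontrivial_of_finrank_pos (R := F) (by have := hd.two; omega)
      haveI : Nontrivial U := Module.nontrivial_of_finrank_pos (R := F) (by have := hd.five; omega)
      simpa using hF.inN_inv h)) hv0 hv hu0 hu (by rw [finrank_L2_inv hF g hu0 hv0, hdim])
  rw [inv_inv] at hnd
  set L := L2 pt g u v with hLdef
  have hLtop : L ≠ ⊤ := fun h => hgN (hO.maps_inN hF hd hD hu0 hu hv0 hv hg fun y =>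
    mem_L2.1 (show y ∈ L2 pt g u v by rw [← hLdef, h]; trivial))
  have horth := finrank_orth_add hC L
  have := hd.two
  have := hd.lt
  have := hd.five
  set t := finrank F U / 2 with ht
  haveI : NeZero t := ⟨by omega⟩
  -- facts about a conjugated member
  have hconj : ∀ (Dx : V →ₗ[F] V) (Q : V ≃ₗ[F] V), (∀ z, Q z = z + Dx z) → (∀ z, Dx (Dx z) = 0) →
      (∀ z, (g⁻¹ * Q * g) z = z + g⁻¹ (Dx (g z))) ∧
        ∀ z, (g⁻¹ * Q * g) ((g⁻¹ * Q * g) z - z) = (g⁻¹ * Q * g) z - z := by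
    intro Dx Q hQ hsq
    have h1 : ∀ z, (g⁻¹ * Q * g) z = z + g⁻¹ (Dx (g z)) := fun z => by
      rw [LinearEquiv.mul_apply, LinearEquiv.mul_apply, hQ, map_add, inv_apply]
    refine ⟨h1, fun z => ?_⟩
    rw [h1 z, add_sub_cancel_left, h1, apply_inv, hsq, map_zero, add_zero]
  have hscale : ∀ lam : F, lam ≠ 0 → lam + σ lam = 0 → -lam⁻¹ + σ (-lam⁻¹) = 0 := fun lam h0 h => by
    rw [map_neg, map_inv₀, show σ lam = -lam by linear_combination h, inv_neg, neg_neg, neg_add_cancel]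
  have hg1 : ∀ (Dx : V →ₗ[F] V) (g' : V ≃ₗ[F] V), (∀ z, g' z = z + g⁻¹ (Dx (g z))) → ∀ (α : F) (y : W),
      (g * hF.lt u α * g') (pt u y) = g (pt u (y + α • hF.ev u (g⁻¹ (Dx (g (pt u y)))))) + Dx (g (pt u y)) := by
    intro Dx g' h α y
    rw [LinearEquiv.mul_apply, LinearEquiv.mul_apply, h, hF.lt_apply hu, map_add (hF.ev u), hF.ev_pt, hu, zero_smul,
      zero_add, map_add g, map_add g, map_smul g, apply_inv, map_add (pt u), map_smul (pt u), map_add g, map_smul g]
    abel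
  by_cases hbig : finrank F (orth C L) < t * t
  · obtain ⟨z, w, hz0, hzz, hwz⟩ := exists_frame hA (t := t) (by omega) hv0 hv
    have hzv : ∀ i, A v (z i) = 0 := fun i => hz0 ▸ hzz 0 i
    obtain ⟨H, hH, hHinj⟩ := exists_skew_family hA.toIsInvol t
    have hDl : ∀ K : Matrix (Fin t) (Fin t) F, ∀ l ∈ L, hF.dop z K (g (pt u l)) = 0 := fun K l hl => by
      obtain ⟨p, hp⟩ := mem_L2.1 hl
      exact hF.dop_eq_zero fun j => by
        rw [← hp, hF.ev_pt, (Herm.eq_zero_comm hA).1 (hzv j), zero_smul]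
    obtain ⟨x, hx, hx0, hGmem, lam, hlam, ⟨y, hy, hy0, hGy⟩, hextra⟩ :=
      hF.exists_member hgi (u := u) (fun a => hF.dop z (H a)) (fun a => hF.dop_skew (hH a)) (L := L) hnd hLtop
        (fun a l hl => by rw [hDl _ l hl, map_zero, map_zero])
        (by rw [Fintype.card_prod, Fintype.card_fin]; exact hbig.le)
    obtain ⟨e, he, hee, hGe⟩ := hextra (by rw [Fintype.card_prod, Fintype.card_fin]; exact hbig)
    set K := ∑ a, x a • H a with hK
    have hsum : ∀ c, ∑ a, x a • hF.dop z (H a) c = hF.dop z K c := fun c => (hF.dop_sum x H c).symm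
    simp only [hsum] at hGmem hGy hGe
    have hKsk : ∀ i j, σ (K i j) + K j i = 0 := fun i j => by
      simp only [hK, Matrix.sum_apply, Matrix.smul_apply, smul_eq_mul, map_sum, map_mul, hx, ← Finset.sum_add_distrib,
        ← mul_add, hH, mul_zero, Finset.sum_const_zero]
    have hK0 : K ≠ 0 := fun h => hx0 (hHinj x hx h)
    obtain ⟨Q, hQ, hQN, hQd, hQz, hQsq⟩ := hF.exists_step hzz hKsk
    obtain ⟨hg'z, hg'sq⟩ := hconj _ Q hQz hQsq
    have hg'X : g⁻¹ * Q * g ∈ X := hO.step_mem hF hd hQ hQN hQd hg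
    set g' := g⁻¹ * Q * g with hg'def
    have hg'l : ∀ l ∈ L, g' (pt u l) = pt u l := fun l hl => by
      rw [hg'z, hDl _ l hl, map_zero, add_zero]
    have hevg' : ∀ y, hF.ev u (g' (pt u y)) = hF.ev u (g⁻¹ (hF.dop z K (g (pt u y)))) := fun y => by
      rw [hg'z, map_add, hF.ev_pt, hu, zero_smul, zero_add]
    have hyL : y ∉ L := fun h => hy0 (hnd y h hy)
    rcases eq_or_ne lam 0 with rfl | hlam0
    · -- no eigenvalue
      have hN : InN pt g' := hO.zero_case hF hd hD hmax hg'X hu0 hu hdim hg'l hyL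
        (by rw [hevg', hGy, zero_smul])
      have hkill : ∀ c : V, g' c = c → hF.dop z K (g c) = 0 := fun c hc => by
        rw [hg'z, add_eq_left] at hc
        exact g⁻¹.injective (hc.trans (map_zero _).symm)
      rcases Nat.eq_zero_or_pos D with hD0 | hDpos
      · obtain ⟨u', y', hu'0, hu', hy', hfix⟩ := hF.exists_fixed (by omega) (by omega) hN hg'sq
        obtain ⟨x', hx'0, hx', -, hev⟩ := hF.exists_kill hwz hzz hK0 (hkill _ hfix)
        exact hO.kill_false hF hd hD hmax hD0 hg hgN hu'0 hu' hy' hx'0 hx' hev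
      · have hL0 : L ≠ ⊥ := fun h => by rw [h, finrank_bot] at hdim; omega
        obtain ⟨y', hy', hy'0, hfix⟩ := hO.fix_in_orth hF hd hg'X hN hu0 hg'sq hnd hL0 hLtop hg'l
        obtain ⟨x', hx'0, hx', hx'z, hev⟩ := hF.exists_kill hwz hzz hK0 (hkill _ hfix)
        refine hy'0 (hnd y' (hO.mem_of_fix hF hd hD hmax hg hgN hu0 hu hdim hx'0 hx' (fun l hl => ?_)
          (by rw [hev, map_zero, map_zero]; exact zero_mem _)) hy')
        obtain ⟨p, hp⟩ := mem_L2.1 hl
        rw [← hp, hF.ev_pt, ← hz0, hx'z, zero_smul]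
    · -- a non-zero eigenvalue
      set α := -lam⁻¹ with hα
      have hα' : α + σ α = 0 := hscale lam hlam0 hlam
      have hg₁X : g * hF.lt u α * g' ∈ X := mul_mem (mul_mem hg (hO.lt_mem hF hu hα')) hg'X
      set g₁ := g * hF.lt u α * g' with hg₁def
      have hg₁ := hg1 _ g' hg'z α
      have hg₁l : ∀ l ∈ L, g₁ (pt u l) = g (pt u l) := fun l hl => by
        rw [hg₁, hDl _ l hl, map_zero, map_zero, smul_zero, add_zero, add_zero]
      have hev₁ : hF.ev v (g₁ (pt u y)) = 0 := by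
        rw [hg₁, hGy, smul_smul, hα, neg_mul, inv_mul_cancel₀ hlam0, neg_one_smul, add_neg_cancel, map_zero,
          map_zero, zero_add, hF.ev_dop hzv]
      by_cases hN : InN pt g₁
      swap
      · have hle : L ≤ L2 pt g₁ u v := fun l hl => by
          obtain ⟨p, hp⟩ := mem_L2.1 hl
          exact mem_L2.2 ⟨p, by rw [hg₁l l hl, hp]⟩
        have heq : L = L2 pt g₁ u v :=
          Submodule.eq_of_le_of_finrank_le hle (hdim.symm ▸ hmax g₁ hg₁X hN u v hu0 hu hv0 hv)
        exact hyL (heq ▸ (hO.top_struct hF hd hD hmax hg₁X hN hu0 hu hv0 hv (heq ▸ hdim)).1 y hev₁)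
      obtain ⟨a, b, eab⟩ := hN
      have hAva : A v (a u) = 0 := by
        have h1 := hev₁
        rw [eab, hF.ev_pt, smul_eq_zero] at h1
        refine h1.resolve_right fun hb => hy0 (hF.pt_injective hu0 (g₁.injective ?_))
        rw [eab, hb, map_zero, map_zero, map_zero]
      have hmem : ∀ p, p + α • hF.ev u (g⁻¹ (hF.dop z K (g (pt u p)))) ∈ L := fun p => hker _ (by
        have h1 := congrArg (hF.ev v) (hg₁ p)
        rw [eab, hF.ev_pt, hAva, zero_smul, map_add, hF.ev_dop hzv, add_zero] at h1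
        exact h1.symm)
      have hall : ∀ p ∈ orth C L, hF.ev u (g⁻¹ (hF.dop z K (g (pt u p)))) = lam • p := fun p hp => by
        have h0 := hnd _ (hmem p) (Submodule.add_mem _ hp (Submodule.smul_mem _ _ (hGmem p hp)))
        rw [hα, neg_smul, ← sub_eq_add_neg, sub_eq_zero] at h0
        conv_rhs => rw [h0]
        rw [smul_inv_smul₀ hlam0]
      rw [hall e he, map_smul, hee, smul_eq_mul, mul_one] at hGe
      exact hlam0 hGe
  -- the remaining shape: a five dimensional first factor, a four dimensional second one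
  obtain ⟨hM, hr, hD0⟩ : finrank F U = 5 ∧ finrank F W = 4 ∧ D = 0 := by
    push Not at hbig
    have h2 : t = 2 := by
      by_contra hne
      have : 3 * t ≤ t * t := Nat.mul_le_mul_right t (by omega)
      omega
    rw [h2] at hbig
    omega
  have hLbot : L = ⊥ := Submodule.finrank_eq_zero.1 (by rw [hdim, hD0])
  obtain ⟨s₀, -, hs₀, hs₀s₀⟩ := exists_iso_mem hC (S := (⊤ : Submodule F W)) (by rw [finrank_top]; omega)
  obtain ⟨s, w, -, hss, hws⟩ := exists_frame hC (t := 2) (by omega) hs₀ hs₀s₀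
  obtain ⟨H, hH, hHinj⟩ := exists_skew_family hA.toIsInvol 2
  obtain ⟨x, hx, hx0, hGmem, lam, hlam, ⟨y, hy, hy0, hGy⟩, -⟩ :=
    hF.exists_member hgi (u := u) (fun a => hF.swap.dop s (H a)) (fun a => hF.swap.dop_skew (hH a)) (L := L) hnd
      hLtop (fun a l hl => by
        rw [hLbot, Submodule.mem_bot] at hl
        rw [hl, map_zero, map_zero, map_zero, map_zero, map_zero])
      (by rw [Fintype.card_prod, Fintype.card_fin]; omega)
  set K := ∑ a, x a • H a with hK
  have hsum : ∀ c, ∑ a, x a • hF.swap.dop s (H a) c = hF.swap.dop s K c := fun c => (hF.swap.dop_sum x H c).symm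
  simp only [hsum] at hGmem hGy
  have hKsk : ∀ i j, σ (K i j) + K j i = 0 := fun i j => by
    simp only [hK, Matrix.sum_apply, Matrix.smul_apply, smul_eq_mul, map_sum, map_mul, hx, ← Finset.sum_add_distrib,
      ← mul_add, hH, mul_zero, Finset.sum_const_zero]
  have hK0 : K ≠ 0 := fun h => hx0 (hHinj x hx h)
  obtain ⟨Q, hQ, hQN, hQd, hQz, hQsq⟩ := hF.swap.exists_step hss hKsk
  obtain ⟨hg'z, hg'sq⟩ := hconj _ Q hQz hQsq
  have hg'X : g⁻¹ * Q * g ∈ X := hO.step_mem hF hd hQ hQN.of_flip hQd hg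
  set g' := g⁻¹ * Q * g with hg'def
  set S := Submodule.span F (Set.range s) with hS
  have hSdim : finrank F S ≤ 2 := (finrank_range_le_card s).trans_eq (Fintype.card_fin 2)
  have hevS : ∀ x c, hF.ev x (hF.swap.dop s K c) ∈ S := fun x c => by
    rw [hF.swap.dop_apply, map_sum]
    refine Submodule.sum_mem _ fun i _ => ?_
    rw [map_sum]
    refine Submodule.sum_mem _ fun j _ => ?_
    rw [map_smul, LinearMap.flip_apply, hF.ev_pt]
    exact Submodule.smul_mem _ _ (Submodule.smul_mem _ _ (Submodule.subset_span ⟨i, rfl⟩))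
  have hyL : y ∉ L := fun h => hy0 (hnd y h hy)
  rcases eq_or_ne lam 0 with rfl | hlam0
  · have hN : InN pt g' := hO.zero_case hF hd hD hmax hg'X hu0 hu hdim (fun l hl => by
      rw [hLbot, Submodule.mem_bot] at hl
      rw [hl, map_zero, map_zero]) hyL (by rw [hg'z, map_add, hF.ev_pt, hu, zero_smul, zero_add, hGy, zero_smul])
    obtain ⟨u', y', hu'0, hu', hy', hfix⟩ := hF.exists_fixed (by omega) (by omega) hN hg'sq
    rw [hg'z, add_eq_left] at hfix
    obtain ⟨s', hs'0, -, -, hs'c⟩ :=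
      hF.swap.exists_kill hws hss hK0 (g⁻¹.injective (hfix.trans (map_zero _).symm))
    have hdims : finrank F (orth C (F ∙ s')) + 2 ≤ finrank F (⊤ : Submodule F U) := by
      have h1 := finrank_orth_add hC (F ∙ s')
      rw [finrank_span_singleton hs'0] at h1
      rw [finrank_top]
      omega
    obtain ⟨x', -, hx'0, hx', hev⟩ := hF.exists_iso_kill hdims (c := g (pt u' y')) fun p _ l hl => by
      obtain ⟨k, rfl⟩ := Submodule.mem_span_singleton.1 hl
      rw [map_smulₛₗ, LinearMap.smul_apply, hF.C_ev, show B (pt p s') (g (pt u' y')) =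
        A p (hF.swap.ev s' (g (pt u' y'))) from (hF.swap.C_ev s' _ p).symm, hs'c, map_zero, smul_zero]
    exact hO.kill_false hF hd hD hmax hD0 hg hgN hu'0 hu' hy' hx'0 hx' hev
  set α := -lam⁻¹ with hα
  have hα' : α + σ α = 0 := hscale lam hlam0 hlam
  have hg₁X : g * hF.lt u α * g' ∈ X := mul_mem (mul_mem hg (hO.lt_mem hF hu hα')) hg'X
  set g₁ := g * hF.lt u α * g' with hg₁def
  have hg₁ := hg1 _ g' hg'z α
  have htop : finrank F S + 2 ≤ finrank F (⊤ : Submodule F U) := by rw [finrank_top]; omega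
  by_cases hN : InN pt g₁
  swap
  · obtain ⟨x', -, hx'0, hx', hev⟩ := hF.exists_iso_kill htop (c := g₁ (pt u y)) fun p _ => by
      rw [hg₁, hGy, smul_smul, hα, neg_mul, inv_mul_cancel₀ hlam0, neg_one_smul, add_neg_cancel, map_zero,
        map_zero, zero_add]
      exact hevS p _
    exact hO.kill_false hF hd hD hmax hD0 hg₁X hN hu0 hu hy0 hx'0 hx' hev
  obtain ⟨a, b, eab⟩ := hN
  by_cases hex : ∃ p, p + α • hF.ev u (g⁻¹ (hF.swap.dop s K (g (pt u p)))) ≠ 0
  · obtain ⟨p, hp⟩ := hex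
    have hdimP : finrank F S + 2 ≤ finrank F (LinearMap.ker (A (a u))) := by
      have h1 := (A (a u)).finrank_range_add_finrank_ker
      have h2 : finrank F (LinearMap.range (A (a u))) ≤ 1 :=
        (Submodule.finrank_le _).trans (le_of_eq (Module.finrank_self F))
      omega
    obtain ⟨x', -, hx'0, hx', hev⟩ := hF.exists_iso_kill hdimP
      (c := g (pt u (p + α • hF.ev u (g⁻¹ (hF.swap.dop s K (g (pt u p))))))) fun q hq => by
      rw [show g (pt u (p + α • hF.ev u (g⁻¹ (hF.swap.dop s K (g (pt u p)))))) =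
        g₁ (pt u p) - hF.swap.dop s K (g (pt u p)) by rw [hg₁, add_sub_cancel_right], map_sub, eab, hF.ev_pt,
        show A q (a u) = 0 from (Herm.eq_zero_comm hA).1 hq, zero_smul, zero_sub]
      exact Submodule.neg_mem _ (hevS q _)
    exact hO.kill_false hF hd hD hmax hD0 hg hgN hu0 hu hp hx'0 hx' hev
  push Not at hex
  have hau : a u ≠ 0 := fun h0 => hy0 (hF.pt_injective hu0 (g₁.injective (by
    rw [eab, h0, map_zero pt, LinearMap.zero_apply, map_zero (pt u), map_zero g₁])))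
  obtain ⟨x₁, hx₁, -⟩ := exists_pairing_one hA hau
  have hbS : LinearMap.range b ≤ S := by
    rintro _ ⟨p, rfl⟩
    have h1 := congrArg (hF.ev x₁) (hg₁ p)
    rw [eab, hF.ev_pt, hx₁, one_smul, hex p, map_zero, map_zero, zero_add] at h1
    rw [h1]
    exact hevS _ _
  have hbinj : Function.Injective b := (injective_iff_map_eq_zero b).2 fun p hp =>
    hF.pt_injective hu0 (g₁.injective (by rw [eab, hp, map_zero, map_zero, map_zero g₁]))
  have := Submodule.finrank_mono hbS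
  rw [LinearMap.finrank_range_of_inj hbinj] at this
  omega

omit hmax in
/-- every element preserves the decomposition -/
theorem Over.inN_big (hU4 : 4 ≤ finrank F U) {g : V ≃ₗ[F] V} (hg : g ∈ X) : InN pt g := by
  classical
  by_contra hgN
  obtain ⟨u, -, hu0, hu⟩ := exists_iso_mem hF.hA (S := (⊤ : Submodule F U))
    (by rw [finrank_top]; have := hd.five; omega)
  let P : ℕ → Prop := fun n => ∃ g' ∈ X, ¬ InN pt g' ∧ ∃ u' v' : U, u' ≠ 0 ∧ A u' u' = 0 ∧ v' ≠ 0 ∧ A v' v' = 0 ∧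
    finrank F (L2 pt g' u' v') = n
  have hbound : ∀ (g' : V ≃ₗ[F] V) (u' v' : U), finrank F (L2 pt g' u' v') ≤ finrank F W :=
    fun g' u' v' => Submodule.finrank_le _
  have hP : P (finrank F (L2 pt g u u)) := ⟨g, hg, hgN, u, u, hu0, hu, hu0, hu, rfl⟩
  obtain ⟨g₁, hg₁, hgN₁, u₁, v₁, hu₁, hu₁', hv₁, hv₁', he⟩ := Nat.findGreatest_spec (hbound g u u) hP
  have hle : Bound B A pt X (finrank F (L2 pt g₁ u₁ v₁)) := fun g' hg' hN u' v' hu' hu'' hv' hv'' =>
    he ▸ Nat.le_findGreatest (P := P) (hbound g' u' v') ⟨g', hg', hN, u', v', hu', hu'', hv', hv'', rfl⟩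
  exact hO.no_top hF hd hD hle hU4 hg₁ hgN₁ hu₁ hu₁' hv₁ hv₁' rfl

end Cfsg.Agent.ClassicalMax.UnTensor
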