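import Cfsg.Agent.ClassicalMax.UnTensor.SmallOne

/-!
Unitary tensor decompositions into factors of dimensions three and two: an overgroup of the stabiliser preserves
the decomposition or has every isotropic centre.
-/

set_option autoImplicit false
set_option linter.unusedSectionVars false
set_option linter.style.haveILetI false

namespace Cfsg.Agent.ClassicalMax.UnTensor

open Module Cfsg.Agent.Classical Cfsg.Agent.ClassicalMax

variable {F U W V : Type*} [Field F] [Finite F] [AddCommGroup U] [Module F U] [AddCommGroup W] [Module F W]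
  [AddCommGroup V] [Module F V] [FiniteDimensional F U] [FiniteDimensional F W] [FiniteDimensional F V]
  {σ : F →+* F} {B : V →ₛₗ[σ] V →ₗ[F] F} {A : U →ₛₗ[σ] U →ₗ[F] F} {C : W →ₛₗ[σ] W →ₗ[F] F}
  {pt : U →ₗ[F] W →ₗ[F] V} {X : Subgroup (V ≃ₗ[F] V)}

/-- an orthonormal pair -/
theorem two_onb (hC : Herm.IsHerm C) (hW : finrank F W = 2) :
    ∃ f₀ f₁, C f₀ f₀ = 1 ∧ C f₁ f₁ = 1 ∧ C f₀ f₁ = 0 ∧ C f₁ f₀ = 0 ∧ ∀ y, y = C f₀ y • f₀ + C f₁ y • f₁ := by
  obtain ⟨b, hb⟩ := Herm.exists_orthonormal hC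
  let i : Fin (finrank F W) := ⟨0, by omega⟩
  let j : Fin (finrank F W) := ⟨1, by omega⟩
  have hij : i ≠ j := by simp [i, j, Fin.ext_iff]
  have h0 : C (b i) (b i) = 1 := by rw [hb, if_pos rfl]
  have h1 : C (b j) (b j) = 1 := by rw [hb, if_pos rfl]
  have h01 : C (b i) (b j) = 0 := by rw [hb, if_neg hij]
  refine ⟨b i, b j, h0, h1, h01, (Herm.eq_zero_comm hC).1 h01, fun y => ?_⟩
  have := (two_orth hC hW (f := b i) (m := b j) (by rw [h0]; exact one_ne_zero) h01 (b.ne_zero j)).2 y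
  simpa [h0, h1] using this

variable (hO : Over B pt X) (hF : Frame B A C pt)
include hO hF

variable (hd : Dims σ U W) (hD : ¬ Done B X)
include hd hD

/-- with no intersection at all a preserving element fixing an image gives a preserving conjugate -/
theorem Over.fix_conj (hmax : Bound B A pt X 0) {g : V ≃ₗ[F] V} (hg : g ∈ X) {u : U} (hu0 : u ≠ 0) (hu : A u u = 0)
    {y : W} (hy : y ≠ 0) {Q : V ≃ₗ[F] V} (hQ : ∀ x x', B (Q x) (Q x') = B x x') (hQN : InN pt Q)
    (hQd : LinearMap.det Q.toLinearMap = 1) (hQz : Q (g (pt u y)) = g (pt u y)) :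
    InN pt (g⁻¹ * Q * g) ∧ (g⁻¹ * Q * g) (pt u y) = pt u y := by
  have hfix : (g⁻¹ * Q * g) (pt u y) = pt u y := by
    rw [LinearEquiv.mul_apply, LinearEquiv.mul_apply, hQz, inv_apply]
  refine ⟨?_, hfix⟩
  by_contra hN
  have h0 := hmax _ (mul_mem (mul_mem (inv_mem hg) (hO.mem Q hQ hQN hQd)) hg) hN u u hu0 hu hu0 hu
  have hbot : L2 pt (g⁻¹ * Q * g) u u = ⊥ := Submodule.finrank_eq_zero.1 (Nat.le_zero.1 h0)
  exact hy ((Submodule.mem_bot F).1 (hbot ▸ mem_L2.2 ⟨y, hfix.symm⟩))

/-- in characteristic two an image has no vector with anisotropic second factor -/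
theorem Over.zero_even (hU : finrank F U = 3) (hmax : Bound B A pt X 0) (h2 : (2 : F) = 0) {g : V ≃ₗ[F] V}
    (hg : g ∈ X) (hgN : ¬ InN pt g) {u : U} (hu0 : u ≠ 0) (hu : A u u = 0) : False := by
  classical
  have hB := hF.hB
  have hA := hF.hA
  have hC := hF.hC
  have hσ := hC.toIsInvol
  have hW : finrank F W = 2 := by have := hd.two; have := hd.lt; omega
  have hneg : ∀ x : F, -x = x := fun x => by linear_combination (-x) * h2
  haveI : Fintype F := Fintype.ofFinite F
  obtain ⟨f₀, f₁, h00, h11, h01, h10, hdec⟩ := two_onb hC hW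
  have hf₀ : f₀ ≠ 0 := fun h => by rw [h, map_zero] at h00; exact zero_ne_one h00
  set z := g (pt u f₀) with hz
  have hzz : B z z = 0 := by rw [hz, hO.iso g hg, hF.prod, hu, zero_mul]
  have hkill : ∀ x : U, x ≠ 0 → A x x = 0 → hF.ev x z ≠ 0 := fun x hx0 hx h =>
    hO.kill_false hF hd hD hmax rfl hg hgN hu0 hu hf₀ hx0 hx h
  -- the contractions of the image
  set c₀ := hF.swap.ev f₀ z with hc₀
  set c₁ := hF.swap.ev f₁ z with hc₁
  have hzc : z = pt c₀ f₀ + pt c₁ f₁ := hF.swap.eq_of_ev fun y => by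
    conv_lhs => rw [hdec y]
    simp only [map_add, map_smulₛₗ, LinearMap.add_apply, LinearMap.smul_apply, ← hc₀, ← hc₁,
      show pt c₀ f₀ = pt.flip f₀ c₀ from rfl, show pt c₁ f₁ = pt.flip f₁ c₁ from rfl, hF.swap.ev_pt, hC.symm]
  -- an isotropic second factor whose contraction is isotropic
  have hsum : A c₀ c₀ + A c₁ c₁ = 0 := by
    rw [hzc] at hzz
    simpa [hF.prod, h00, h11, h01, h10] using hzz
  set e := A c₀ c₁ with he
  obtain ⟨ζ, hζ, hζe⟩ : ∃ ζ : F, ζ * σ ζ = 1 ∧ σ ζ * e = ζ * σ e := by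
    by_cases h0 : e = 0
    · exact ⟨1, by simp, by simp [h0]⟩
    haveI : CharP F 2 := CharTwo.of_one_ne_zero_of_two_eq_zero one_ne_zero h2
    obtain ⟨ζ, hζ⟩ := (Finite.injective_iff_surjective.1 (frobenius_inj F 2)) (e / σ e)
    rw [frobenius_def] at hζ
    have hn : ζ * σ ζ = 1 := by
      have h1 : (ζ * σ ζ) ^ 2 = 1 ^ 2 := by
        rw [mul_pow, ← map_pow, hζ, map_div₀, hσ.invol, one_pow]
        field_simp
        exact div_self ((map_ne_zero σ).2 h0)
      exact frobenius_inj F 2 h1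
    refine ⟨ζ, hn, ?_⟩
    rw [eq_div_iff ((map_ne_zero σ).2 h0)] at hζ
    linear_combination -(σ ζ) * hζ + ζ * σ e * hn
  set s := f₀ + ζ • f₁ with hsdef
  have hss : C s s = 0 := by
    simp [hsdef, h00, h11, h01, h10]
    linear_combination hζ + h2
  have hs0 : s ≠ 0 := fun h => by
    have := congrArg (C f₀) h
    simp [hsdef, h00, h01] at this
  set a := hF.swap.ev s z with ha
  have hac : a = c₀ + σ ζ • c₁ := by
    rw [ha, hsdef, map_add, map_smulₛₗ, LinearMap.add_apply, LinearMap.smul_apply, ← hc₀, ← hc₁]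
  have haa : A a a = 0 := by
    rw [hac]
    simp only [map_add, map_smulₛₗ, LinearMap.add_apply, LinearMap.smul_apply, smul_eq_mul, RingHom.id_apply, hA.invol,
      ← he, show A c₁ c₀ = σ e from (hA.symm c₀ c₁).symm]
    linear_combination hsum + (A c₁ c₁) * hζ + hζe + ζ * σ e * h2
  clear_value s
  obtain ⟨t, ht, hst, hts⟩ := exists_iso_partner hC hs0 hss
  have hdst : ∀ y, y = C t y • s + C s y • t := by
    intro y
    have hli : LinearIndependent F ![s, t] := LinearIndependent.pair_iff.2 fun p q e => by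
      have e1 := congrArg (C t) e
      have e2 := congrArg (C s) e
      simp [hst, hts, hss, ht] at e1 e2
      exact ⟨e1, e2⟩
    obtain ⟨p, q, e⟩ := Submodule.mem_span_pair.1 (show y ∈ Submodule.span F ({s, t} : Set W) by
      have := hli.span_eq_top_of_card_eq_finrank (by simp [hW])
      rw [Matrix.range_cons, Matrix.range_cons, Matrix.range_empty, Set.union_empty, Set.singleton_union] at this
      rw [this]; trivial)
    rw [← e]
    simp [hst, hts, hss, ht]
  have ha0 : a ≠ 0 := by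
    intro h0
    set b := hF.swap.ev t z
    obtain ⟨x, hx, hx0, hxx⟩ : ∃ x ∈ LinearMap.ker (A b), x ≠ 0 ∧ A x x = 0 := exists_iso_mem hA (by
      have := Unitary.finrank_ker_inf (⊤ : Submodule F U) (A b)
      rw [finrank_top, top_inf_eq] at this
      omega)
    refine hkill x hx0 hxx ?_
    refine hF.eq_of_C fun y => ?_
    rw [map_zero, hF.C_ev, show B (pt x y) z = A x (hF.swap.ev y z) from (hF.swap.C_ev y z x).symm]
    conv_lhs => rw [hdst y]
    rw [map_add, map_smulₛₗ, map_smulₛₗ, LinearMap.add_apply, LinearMap.smul_apply, LinearMap.smul_apply, ← ha, h0,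
      smul_zero, zero_add, map_smul, (Herm.eq_zero_comm hA).1 (show A b x = 0 from hx), smul_zero]
  set τ := A a (hF.swap.ev t z) with hτ
  have hevaz : hF.ev a z = τ • s := hF.eq_of_C fun y => by
    rw [hF.C_ev, show B (pt a y) z = A a (hF.swap.ev y z) from (hF.swap.C_ev y z a).symm, map_smul, smul_eq_mul]
    conv_lhs => rw [hdst y]
    rw [map_add, map_smulₛₗ, map_smulₛₗ, LinearMap.add_apply, LinearMap.smul_apply, LinearMap.smul_apply, ← ha, map_add,
      map_smul, map_smul, haa, smul_zero, zero_add, ← hτ, hC.symm, smul_eq_mul, mul_comm]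
  have hτ0 : τ ≠ 0 := fun h => hkill a ha0 haa (by rw [hevaz, h, zero_smul])
  have hτσ : σ τ = τ := by
    have hzd : z = pt (hF.swap.ev t z) s + pt a t := hF.swap.eq_of_ev fun y => by
      conv_lhs => rw [hdst y]
      simp only [map_add, map_smulₛₗ, LinearMap.add_apply, LinearMap.smul_apply, ← ha,
        show pt (hF.swap.ev t z) s = pt.flip s (hF.swap.ev t z) from rfl, show pt a t = pt.flip t a from rfl,
        hF.swap.ev_pt, hC.symm]
      abel
    have h := hzz
    rw [hzd] at h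
    simp only [map_add, LinearMap.add_apply, hF.prod, hss, ht, hst, hts, mul_zero, mul_one, zero_add, add_zero,
      ← hτ, show A (hF.swap.ev t z) a = σ τ from (hA.symm a _).symm] at h
    linear_combination h - τ * h2
  obtain ⟨c, hc0, hc⟩ := Herm.exists_skew hσ
  have hc' : c + σ c = 0 := by rw [hc, add_neg_cancel]
  set d := c * τ with hd'
  have hd0 : d ≠ 0 := mul_ne_zero hc0 hτ0
  have hdσ : d + σ d = 0 := by rw [hd', map_mul, hτσ, hc]; ring
  set Q := hF.lt a c * hF.swap.lt s d with hQ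
  have hQX : ∀ z', Q z' = z' + d • pt (hF.swap.ev s z') s + c • pt a (hF.ev a z') +
      (c * d * A a (hF.swap.ev s z')) • pt a s := fun z' => by
    rw [hQ, LinearEquiv.mul_apply, hF.swap.lt_apply hss, LinearMap.flip_apply, hF.lt_apply haa, map_add, map_smul,
      hF.ev_pt, map_add, map_smul, map_smul, smul_add, smul_smul, smul_smul]
    module
  have hQiso : ∀ x x', B (Q x) (Q x') = B x x' := fun x x' => by
    rw [hQ, LinearEquiv.mul_apply, LinearEquiv.mul_apply, hF.lt_iso haa hc', hF.swap.lt_iso hss hdσ]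
  have hQN : InN pt Q := (hF.lt_inN haa c).mul (hF.swap.lt_inN hss d).of_flip
  have hQd : LinearMap.det Q.toLinearMap = 1 := by
    rw [hQ, show (hF.lt a c * hF.swap.lt s d).toLinearMap = (hF.lt a c).toLinearMap ∘ₗ (hF.swap.lt s d).toLinearMap
      from rfl, LinearMap.det_comp, show LinearMap.det (hF.lt a c).toLinearMap = 1 from hF.rad_det haa _,
      show LinearMap.det (hF.swap.lt s d).toLinearMap = 1 from hF.swap.rad_det hss _, one_mul]
  have hQz : Q z = z := by
    rw [hQX, ← ha, haa, mul_zero, zero_smul, add_zero, hevaz, map_smul, smul_smul, ← hd', add_assoc, ← two_smul F,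
      h2, zero_smul, add_zero]
  obtain ⟨hN, hfix⟩ := hO.fix_conj hF hd hD hmax hg hu0 hu hf₀ hQiso hQN hQd hQz
  clear_value Q
  -- an involution
  have hQQ : ∀ z', Q (Q z') = z' := fun z' => by
    have e1 : ∀ x y, hF.swap.ev s (pt x y) = C s y • x := fun x y => hF.swap.ev_pt s y x
    set κ := A a (hF.swap.ev s z') with hκ
    have hκ' : C s (hF.ev a z') = κ := (hF.C_ev a z' s).trans (hF.swap.C_ev s z' a).symm
    have hS : hF.swap.ev s (Q z') = hF.swap.ev s z' + (c * κ) • a := by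
      rw [hQX]
      simp only [map_add, map_smul, e1, hss, hκ', zero_smul, smul_zero, add_zero, smul_smul]
    have hE : hF.ev a (Q z') = hF.ev a z' + (d * κ) • s := by
      rw [hQX]
      simp only [map_add, map_smul, hF.ev_pt, haa, ← hκ, zero_smul, smul_zero, add_zero, smul_smul]
    have h22 : ∀ v : V, v + v = 0 := fun v => by rw [← two_smul F v, h2, zero_smul]
    rw [hQX (Q z'), hS, hE, hQX z']
    simp only [map_add, map_smul, LinearMap.add_apply, LinearMap.smul_apply, haa, smul_zero, add_zero, ← hκ]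
    match_scalars <;> ring_nf <;> simp [h2, show (4 : F) = 0 from by linear_combination 2 * h2,
      show (3 : F) = 1 from by linear_combination h2]
  set g' := g⁻¹ * Q * g with hg'
  obtain ⟨K, L, eKL⟩ := hN
  have hg'iso : ∀ x x', B (g' x) (g' x') = B x x' := fun x x' => by
    rw [hg', LinearEquiv.mul_apply, LinearEquiv.mul_apply, LinearEquiv.mul_apply, LinearEquiv.mul_apply,
      iso_inv (hO.iso g hg), hQiso, hO.iso g hg]
  have hg'2 : ∀ x, g' (g' x) = x := fun x => by
    simp only [hg', LinearEquiv.mul_apply, apply_inv, hQQ, inv_apply]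
  obtain ⟨x₁, hx₁, -⟩ := exists_pairing_one hA hu0
  set lam := A x₁ (K u) with hlam
  have hL0 : lam • L f₀ = f₀ := by
    have := congrArg (hF.ev x₁) hfix
    rwa [eKL, hF.ev_pt, hF.ev_pt, hx₁, one_smul] at this
  have hlam0 : lam ≠ 0 := fun h => hf₀ (by rw [← hL0, h, zero_smul])
  obtain ⟨u'', -, huu''⟩ := exists_pairing_one hA hu0
  set ν := A (K u) (K u'')
  have hν : ∀ y y', ν * C (L y) (L y') = C y y' := fun y y' => by
    have := hg'iso (pt u y) (pt u'' y')
    rwa [eKL, eKL, hF.prod, hF.prod, huu'', one_mul] at this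
  have hL1 : ∃ μ : F, L f₁ = μ • f₁ := by
    refine ⟨C f₁ (L f₁), ?_⟩
    have h0 : C f₀ (L f₁) = 0 := by
      have h1 := hν f₀ f₁
      rw [h01] at h1
      have hν0 : ν ≠ 0 := fun h => by
        have := hν f₀ f₀
        rw [h, zero_mul, h00] at this
        exact zero_ne_one this
      have h2' := (mul_eq_zero.1 h1).resolve_left hν0
      conv_lhs => rw [← hL0]
      rw [map_smulₛₗ, LinearMap.smul_apply, h2', smul_zero]
    conv_lhs => rw [hdec (L f₁)]
    rw [h0, zero_smul, zero_add]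
  obtain ⟨μ, hμ⟩ := hL1
  have hL0' : L f₀ = lam⁻¹ • f₀ := by
    conv_rhs => rw [← hL0]
    rw [inv_smul_smul₀ hlam0]
  have e0 : pt (K (K u)) ((lam⁻¹ * lam⁻¹) • f₀) = pt u f₀ := by
    have := hg'2 (pt u f₀)
    rwa [eKL, eKL, hL0', map_smul L, hL0', smul_smul] at this
  have e1 : pt (K (K u)) ((μ * μ) • f₁) = pt u f₁ := by
    have := hg'2 (pt u f₁)
    rwa [eKL, eKL, hμ, map_smul L, hμ, smul_smul] at this
  have hμl : μ = lam⁻¹ := by
    have a0 := congrArg (fun w => C f₀ (hF.ev x₁ w)) e0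
    have a1 := congrArg (fun w => C f₁ (hF.ev x₁ w)) e1
    simp only [hF.ev_pt, hx₁, one_smul, map_smul, h00, h11, smul_eq_mul, mul_one] at a0 a1
    have hne : A x₁ (K (K u)) ≠ 0 := fun h => by rw [h] at a0; simp at a0
    have hsq : (μ - lam⁻¹) * (μ - lam⁻¹) = 0 := by
      refine mul_left_cancel₀ hne ?_
      rw [mul_zero]
      linear_combination a1 - a0 + A x₁ (K (K u)) * (lam⁻¹ * lam⁻¹ - μ * lam⁻¹) * h2
    exact sub_eq_zero.1 (mul_self_eq_zero.1 hsq)
  have hLs : ∀ y, L y = lam⁻¹ • y := fun y => by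
    conv_lhs => rw [hdec y]
    rw [map_add, map_smul, map_smul, hL0', hμ, hμl, smul_comm, smul_comm (C f₁ y), ← smul_add, ← hdec]
  set N₀ : U →ₗ[F] U := lam⁻¹ • K - LinearMap.id with hN₀
  have hN₀e : ∀ x y, g' (pt x y) - pt x y = pt (N₀ x) y := fun x y => by
    rw [eKL, hLs, map_smul, hN₀]
    simp [map_sub, map_smul]
  have hN₀sq : ∀ x, N₀ (N₀ x) = 0 := fun x => by
    refine (hF.swap.pt_injective hf₀) ?_
    show pt (N₀ (N₀ x)) f₀ = pt (0 : U) f₀
    have h22 : ∀ v : V, v + v = 0 := fun v => by rw [← two_smul F v, h2, zero_smul]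
    rw [map_zero pt, LinearMap.zero_apply, ← hN₀e, ← hN₀e, map_sub, hg'2]
    rw [show pt x f₀ - g' (pt x f₀) - (g' (pt x f₀) - pt x f₀) =
      (pt x f₀ + pt x f₀) - (g' (pt x f₀) + g' (pt x f₀)) by abel, h22, h22, sub_zero]
  have hrk : finrank F (LinearMap.range N₀) ≤ 1 := by
    have hle : LinearMap.range N₀ ≤ LinearMap.ker N₀ := by
      rintro _ ⟨x, rfl⟩; exact hN₀sq x
    have h1 := N₀.finrank_range_add_finrank_ker
    have h3 := Submodule.finrank_mono hle
    omega
  obtain ⟨w, hw⟩ : ∃ w, ∀ x, N₀ x ∈ F ∙ w := by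
    rcases Nat.eq_zero_or_pos (finrank F (LinearMap.range N₀)) with h | h
    · refine ⟨0, fun x => ?_⟩
      have : N₀ x ∈ LinearMap.range N₀ := ⟨x, rfl⟩
      rw [Submodule.finrank_eq_zero.1 h, Submodule.mem_bot] at this
      rw [this]; exact Submodule.zero_mem _
    · obtain ⟨w, hw, hw0⟩ := Submodule.exists_mem_ne_zero_of_ne_bot (p := LinearMap.range N₀)
        fun hb => by rw [hb, finrank_bot] at h; omega
      refine ⟨w, fun x => ?_⟩
      rw [Submodule.eq_of_le_of_finrank_le ((Submodule.span_singleton_le_iff_mem _ _).2 hw)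
        (by rw [finrank_span_singleton hw0]; exact hrk)]
      exact ⟨x, rfl⟩
  let R := (LinearMap.range (pt w)).map g.toLinearMap
  have hR : finrank F R ≤ 2 := by
    rw [LinearEquiv.finrank_map_eq, ← hW]; exact LinearMap.finrank_range_le _
  have hmem : ∀ z', Q z' - z' ∈ R := fun z' => by
    obtain ⟨z', rfl⟩ := g.surjective z'
    refine ⟨g' z' - z', ?_, ?_⟩
    · refine (show Submodule.span F (Set.range fun p : U × W => pt p.1 p.2) ≤
        Submodule.comap (g'.toLinearMap - LinearMap.id) (LinearMap.range (pt w)) from Submodule.span_le.2 ?_)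
        (hF.span_top ▸ Submodule.mem_top)
      rintro _ ⟨⟨x, y⟩, rfl⟩
      show g' (pt x y) - pt x y ∈ LinearMap.range (pt w)
      obtain ⟨k, hk⟩ := Submodule.mem_span_singleton.1 (hw x)
      exact ⟨k • y, by rw [hN₀e, ← hk, map_smul, map_smul pt, LinearMap.smul_apply]⟩
    · show g (g' z' - z') = _
      rw [map_sub, hg', LinearEquiv.mul_apply, LinearEquiv.mul_apply, apply_inv]
  -- three independent images
  obtain ⟨a', ha', haa', ha'a⟩ := exists_iso_partner hA ha0 haa
  obtain ⟨f, haf, ha'f, hfa, hfa', hff⟩ := exists_perp_pair_value hA (by omega) haa ha' haa' (c := (1 : F)) (map_one σ)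
  have hval : ∀ x y, Q (pt x y) - pt x y = (c * A a x) • pt a y + (d * C s y) • pt x s + (c * d * A a x * C s y) • pt a s :=
    fun x y => by
      rw [hQX, hF.ev_pt, show hF.swap.ev s (pt x y) = C s y • x from hF.swap.ev_pt s y x, map_smul, map_smul,
        LinearMap.smul_apply, map_smul, smul_eq_mul, smul_smul, smul_smul]
      module
  let vec : Fin 3 → V := ![Q (pt f t) - pt f t, Q (pt a t) - pt a t, Q (pt a' t) - pt a' t]
  have hli : LinearIndependent F vec := by
    rw [Fintype.linearIndependent_iff]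
    intro k hk
    have e1 := congrArg (B (pt f t)) hk
    have e2 := congrArg (B (pt a' t)) hk
    have e3 := congrArg (B (pt a' s)) hk
    simp only [vec, Fin.sum_univ_three, Matrix.cons_val_zero, Matrix.cons_val_one, Matrix.cons_val, hval, map_add,
      map_smul, map_zero, hF.prod, smul_eq_mul, haa, ha', haa', ha'a, haf, ha'f, hfa, hfa', hff, hss, ht, hst, hts,
      mul_zero, zero_mul, mul_one, add_zero, zero_add] at e1 e2 e3
    have hk0 : k 0 = 0 := (mul_eq_zero.1 e1).resolve_right hd0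
    have hk2 : k 2 = 0 := (mul_eq_zero.1 e3).resolve_right hc0
    rw [hk2, zero_mul, add_zero] at e2
    have hk1 : k 1 = 0 := (mul_eq_zero.1 e2).resolve_right hd0
    intro i; fin_cases i <;> assumption
  have hsub : Submodule.span F (Set.range vec) ≤ R := by
    rw [Submodule.span_le]
    rintro _ ⟨i, rfl⟩
    fin_cases i <;> exact hmem _
  have h3 := Submodule.finrank_mono hsub
  rw [finrank_span_eq_card hli, Fintype.card_fin] at h3
  omega

/-- in odd characteristic some subspace with anisotropic first factor is mapped to another -/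
theorem Over.line_of_odd (hU : finrank F U = 3) (hmax : Bound B A pt X 0) (h2 : (2 : F) ≠ 0) {g : V ≃ₗ[F] V}
    (hg : g ∈ X) (hgN : ¬ InN pt g) {u : U} (hu0 : u ≠ 0) (hu : A u u = 0) :
    ∃ w p, A w w ≠ 0 ∧ A w u = 0 ∧ A p p ≠ 0 ∧ ∀ y, g (pt w y) ∈ LinearMap.range (pt p) := by
  classical
  have hB := hF.hB
  have hA := hF.hA
  have hC := hF.hC
  have hW : finrank F W = 2 := by have := hd.two; have := hd.lt; omega
  obtain ⟨f₀, f₁, h00, h11, h01, h10, hdec⟩ := two_onb hC hW
  have hf₀ : f₀ ≠ 0 := fun h => by rw [h, map_zero] at h00; exact zero_ne_one h00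
  set z := g (pt u f₀) with hz
  obtain ⟨p, hp, hp0⟩ : ∃ p, hF.ev p z = 0 ∧ p ≠ 0 := by
    obtain ⟨p, hp, hp0⟩ := Submodule.exists_mem_ne_zero_of_ne_bot
      (p := LinearMap.ker (A (hF.swap.ev f₀ z)) ⊓ LinearMap.ker (A (hF.swap.ev f₁ z))) fun h => by
        have e1 := Unitary.finrank_ker_inf (⊤ : Submodule F U) (A (hF.swap.ev f₀ z))
        have e2 := Unitary.finrank_ker_inf (LinearMap.ker (A (hF.swap.ev f₀ z))) (A (hF.swap.ev f₁ z))
        rw [finrank_top, top_inf_eq] at e1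
        rw [h, finrank_bot] at e2
        omega
    refine ⟨p, hF.eq_of_C fun y => ?_, hp0⟩
    rw [map_zero, hF.C_ev, show B (pt p y) z = A p (hF.swap.ev y z) from (hF.swap.C_ev y z p).symm]
    conv_lhs => rw [hdec y]
    simp only [map_add, map_smulₛₗ, LinearMap.add_apply, LinearMap.smul_apply, map_smul, smul_eq_mul,
      (Herm.eq_zero_comm hA).1 (show A (hF.swap.ev f₀ z) p = 0 from hp.1),
      (Herm.eq_zero_comm hA).1 (show A (hF.swap.ev f₁ z) p = 0 from hp.2), mul_zero, add_zero]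
  have hpp : A p p ≠ 0 := fun h => hO.kill_false hF hd hD hmax rfl hg hgN hu0 hu hf₀ hp0 h hp
  set e₀ := pt p f₀ with he₀
  set e₁ := pt p f₁ with he₁
  have n0 : B e₀ e₀ = A p p := by rw [he₀, hF.prod, h00, mul_one]
  have n1 : B e₁ e₁ = A p p := by rw [he₁, hF.prod, h11, mul_one]
  have n01 : B e₀ e₁ = 0 := by rw [he₀, he₁, hF.prod, h01, mul_zero]
  obtain ⟨r₀, hr₀i, hr₀d, hr₀⟩ := Unitary.exists_preflection hB (a := e₀) (n0 ▸ hpp) (δ := -1)
    (by rw [map_neg, map_one]; ring)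
  obtain ⟨r₁, hr₁i, hr₁d, hr₁⟩ := Unitary.exists_preflection hB (a := e₁) (n1 ▸ hpp) (δ := -1)
    (by rw [map_neg, map_one]; ring)
  set Q := r₀ * r₁ with hQ
  have hQe : ∀ z', Q z' = z' + (-2 / A p p) • pt p (hF.ev p z') := fun z' => by
    rw [hQ, LinearEquiv.mul_apply, hr₁, hr₀, n0, n1]
    conv_rhs => rw [hdec (hF.ev p z')]
    simp only [hF.C_ev, ← he₀, ← he₁, map_add, map_smul, n01, smul_eq_mul, mul_zero, add_zero]
    match_scalars <;> ring
  have hQi : ∀ x x', B (Q x) (Q x') = B x x' := fun x x' => by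
    rw [hQ, LinearEquiv.mul_apply, LinearEquiv.mul_apply, hr₀i, hr₁i]
  have hQd : LinearMap.det Q.toLinearMap = 1 := by
    rw [hQ, show (r₀ * r₁).toLinearMap = r₀.toLinearMap ∘ₗ r₁.toLinearMap from rfl, LinearMap.det_comp, hr₀d, hr₁d]
    ring
  have hQN : InN pt Q := ⟨LinearMap.id + (-2 / A p p) • (A p).smulRight p, LinearMap.id, fun x y => by
    rw [hQe, hF.ev_pt, map_smul, LinearMap.id_apply, LinearMap.add_apply, LinearMap.smul_apply,
      LinearMap.smulRight_apply, LinearMap.id_apply, map_add pt, LinearMap.add_apply, map_smul pt, map_smul pt,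
      LinearMap.smul_apply, LinearMap.smul_apply]⟩
  have hQz : Q z = z := by rw [hQe, hp, map_zero, smul_zero, add_zero]
  obtain ⟨hN, -⟩ := hO.fix_conj hF hd hD hmax hg hu0 hu hf₀ hQi hQN hQd hQz
  have hQe₀ : Q e₀ = -e₀ := by
    rw [hQe, he₀, hF.ev_pt, map_smul, smul_smul, div_mul_cancel₀ _ hpp]
    module
  obtain ⟨w, hw0, hw⟩ := hF.range_inN hd.lt hN (fun h1 => by
    have h3 := LinearEquiv.congr_fun h1 (g⁻¹ e₀)
    rw [LinearEquiv.mul_apply, LinearEquiv.mul_apply, apply_inv, hQe₀, map_neg] at h3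
    change -(g⁻¹ e₀) = g⁻¹ e₀ at h3
    have h4 : (2 : F) • g⁻¹ e₀ = 0 := by
      rw [two_smul]; exact neg_eq_iff_add_eq_zero.1 h3
    have h5 := (smul_eq_zero.1 h4).resolve_left h2
    rw [LinearEquiv.map_eq_zero_iff] at h5
    exact hpp (by rw [← n0, h5, map_zero]))
    (R := (LinearMap.range (pt p)).map g⁻¹.toLinearMap) (fun z' => by
      refine ⟨Q (g z') - g z', ⟨(-2 / A p p) • hF.ev p (g z'), ?_⟩, ?_⟩
      · rw [map_smul, hQe, add_sub_cancel_left]
      · show g⁻¹ (Q (g z') - g z') = (g⁻¹ * Q * g) z' - z'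
        rw [map_sub, inv_apply]
        rfl)
    (by rw [LinearEquiv.finrank_map_eq, hF.finrank_R hp0])
  have hmap : ∀ y, g (pt w y) ∈ LinearMap.range (pt p) := fun y => by
    obtain ⟨q, hq, e⟩ : pt w y ∈ (LinearMap.range (pt p)).map g⁻¹.toLinearMap := hw ▸ ⟨y, rfl⟩
    rw [← e, LinearEquiv.coe_coe, apply_inv]; exact hq
  refine ⟨w, p, fun hww => ?_, ?_, hpp, hmap⟩
  · obtain ⟨y, hy⟩ : g⁻¹ e₀ ∈ LinearMap.range (pt w) := hw.symm ▸ ⟨e₀, ⟨f₀, rfl⟩, rfl⟩
    have h1 : B (g⁻¹ e₀) (g⁻¹ e₀) = A p p := by rw [iso_inv (hO.iso g hg), n0]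
    rw [← hy, hF.prod, hww, zero_mul] at h1
    exact hpp h1.symm
  · obtain ⟨y, hy, -⟩ := exists_pairing_one hC hf₀
    obtain ⟨q, hq⟩ := hmap y
    have h1 : B (g (pt w y)) z = 0 := by rw [← hq, ← hF.C_ev, hp, map_zero]
    rw [hz, hO.iso g hg, hF.prod, hy, mul_one] at h1
    exact h1

/-- no element outside when no intersection exists -/
theorem Over.zero_false (hU : finrank F U = 3) (hmax : Bound B A pt X 0) {g : V ≃ₗ[F] V} (hg : g ∈ X)
    (hgN : ¬ InN pt g) : False := by
  classical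
  have hA := hF.hA
  have hC := hF.hC
  have hW : finrank F W = 2 := by have := hd.two; have := hd.lt; omega
  obtain ⟨u₀, -, hu₀0, hu₀⟩ := exists_iso_mem hA (S := (⊤ : Submodule F U)) (by rw [finrank_top]; omega)
  by_cases h2 : (2 : F) = 0
  · exact hO.zero_even hF hd hD hU hmax h2 hg hgN hu₀0 hu₀
  obtain ⟨w, p, hww, hwu, hpp, hwm⟩ := hO.line_of_odd hF hd hD hU hmax h2 hg hgN hu₀0 hu₀
  -- two subspaces that are not orthogonal
  obtain ⟨w₁, p₁, w₂, p₂, hN₁, hp₁, hm₁, hp₂, hm₂, h12, hind⟩ : ∃ w₁ p₁ w₂ p₂, A w₁ w₁ ≠ 0 ∧ A p₁ p₁ ≠ 0 ∧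
      (∀ y, g (pt w₁ y) ∈ LinearMap.range (pt p₁)) ∧ A p₂ p₂ ≠ 0 ∧ (∀ y, g (pt w₂ y) ∈ LinearMap.range (pt p₂)) ∧
      A w₁ w₂ ≠ 0 ∧ LinearIndependent F ![w₁, w₂] := by
    have indep : ∀ {a b u : U}, A a u ≠ 0 → A b u = 0 → b ≠ 0 → LinearIndependent F ![a, b] :=
      fun {a b u} hau hbu hb => LinearIndependent.pair_iff.2 fun x y e => by
        have e1 := congrArg (fun v => A v u) e
        simp [hbu] at e1
        have hx := e1.resolve_right hau
        rw [hx, zero_smul, zero_add, smul_eq_zero] at e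
        exact ⟨hx, e.resolve_right hb⟩
    have ne0 : ∀ {a : U}, A a a ≠ 0 → a ≠ 0 := fun h e => h (by rw [e, map_zero])
    obtain ⟨u₁, hu₁0, hu₁, hwu₁⟩ : ∃ u₁, u₁ ≠ 0 ∧ A u₁ u₁ = 0 ∧ A w u₁ ≠ 0 := by
      obtain ⟨u', hu', huu', hu'u⟩ := exists_iso_partner hA hu₀0 hu₀
      by_cases h : A w u' = 0
      swap
      · exact ⟨u', (pair_ne hA huu').2, hu', h⟩
      obtain ⟨τ, hτ⟩ := Herm.exists_trace hA.toIsInvol (a := -A w w) (by rw [map_neg, Herm.fix_self hA])
      have huw : A u₀ w = 0 := (Herm.eq_zero_comm hA).1 hwu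
      have hu'w : A u' w = 0 := (Herm.eq_zero_comm hA).1 h
      refine ⟨u₀ + τ • u' + w, fun h0 => ?_, ?_, ?_⟩
      · have := congrArg (A w) h0
        simp [hwu, h] at this
        exact hww this
      · simp [hu₀, hu', huu', hu'u, hwu, huw, h, hu'w]
        linear_combination hτ
      · simp [hwu, h, hww]
    obtain ⟨w', p', hw'w', hw'u₁, hp', hw'm⟩ := hO.line_of_odd hF hd hD hU hmax h2 hg hgN hu₁0 hu₁
    by_cases hperp : A w w' = 0
    swap
    · exact ⟨w, p, w', p', hww, hpp, hwm, hp', hw'm, hperp, indep hwu₁ hw'u₁ (ne0 hw'w')⟩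
    have hperp' : A w' w = 0 := (Herm.eq_zero_comm hA).1 hperp
    obtain ⟨o, hwo, hw'o, hoo⟩ : ∃ o, A w o = 0 ∧ A w' o = 0 ∧ A o o ≠ 0 := by
      obtain ⟨o, ho, ho0⟩ := Submodule.exists_mem_ne_zero_of_ne_bot (p := LinearMap.ker (A w) ⊓ LinearMap.ker (A w'))
        fun h => by
          have e1 := Unitary.finrank_ker_inf (⊤ : Submodule F U) (A w)
          have e2 := Unitary.finrank_ker_inf (LinearMap.ker (A w)) (A w')
          rw [finrank_top, top_inf_eq] at e1
          rw [h, finrank_bot] at e2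
          omega
      refine ⟨o, ho.1, ho.2, fun hoo => ho0 ?_⟩
      have hli : LinearIndependent F ![w, w', o] := by
        rw [Fintype.linearIndependent_iff]
        intro k hk
        have e1 := congrArg (A w) hk
        have e2 := congrArg (A w') hk
        simp [Fin.sum_univ_three, hperp, hperp', show A w o = 0 from ho.1, show A w' o = 0 from ho.2, hww, hw'w'] at e1 e2
        have k0 : k 0 = 0 := e1
        have k1 : k 1 = 0 := e2
        simp [Fin.sum_univ_three, k0, k1, ho0] at hk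
        intro i; fin_cases i <;> assumption
      refine hA.nondeg o fun x => ?_
      obtain ⟨k, rfl⟩ := (Submodule.mem_span_range_iff_exists_fun F).1
        (show x ∈ Submodule.span F (Set.range ![w, w', o]) by
          rw [hli.span_eq_top_of_card_eq_finrank (by simp [hU])]; trivial)
      simp [Fin.sum_univ_three, (Herm.eq_zero_comm hA).1 (show A w o = 0 from ho.1),
        (Herm.eq_zero_comm hA).1 (show A w' o = 0 from ho.2), hoo]
    have how : A o w = 0 := (Herm.eq_zero_comm hA).1 hwo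
    have how' : A o w' = 0 := (Herm.eq_zero_comm hA).1 hw'o
    have h20 : ((-2 : F)) ≠ 0 := neg_ne_zero.2 h2
    have hσ := hA.toIsInvol
    obtain ⟨x, hx⟩ := Herm.exists_norm hσ (a := 1 / A w w) (by rw [map_div₀, map_one, Herm.fix_self hA])
    obtain ⟨y, hy⟩ := Herm.exists_norm hσ (a := 1 / A w' w') (by rw [map_div₀, map_one, Herm.fix_self hA])
    obtain ⟨c, hc⟩ := Herm.exists_norm hσ (a := -2 / A o o) (by rw [map_div₀, map_neg, map_ofNat, Herm.fix_self hA])
    rw [eq_div_iff hww] at hx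
    rw [eq_div_iff hw'w'] at hy
    rw [eq_div_iff hoo] at hc
    set u₂ := x • w + y • w' + c • o with hu₂def
    have hu₂ : A u₂ u₂ = 0 := by
      simp [hu₂def, hperp, hperp', hwo, hw'o, how, how']
      linear_combination hx + hy + hc
    have hA1 : A w u₂ ≠ 0 := by
      simp [hu₂def, hperp, hwo, hww]
      rintro rfl
      simp at hx
    have hA2 : A w' u₂ ≠ 0 := by
      simp [hu₂def, hperp', hw'o, hw'w']
      rintro rfl
      simp at hy
    have hA3 : A o u₂ ≠ 0 := by
      simp [hu₂def, how, how', hoo]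
      rintro rfl
      simp at hc
      exact h20 (by linear_combination -hc)
    obtain ⟨w'', p'', hw''w'', hw''u₂, hp'', hw''m⟩ := hO.line_of_odd hF hd hD hU hmax h2 hg hgN
      (fun h => hA1 (by rw [h, map_zero])) hu₂
    by_cases q1 : A w w'' = 0
    swap
    · exact ⟨w, p, w'', p'', hww, hpp, hwm, hp'', hw''m, q1, indep hA1 hw''u₂ (ne0 hw''w'')⟩
    by_cases q2 : A w' w'' = 0
    swap
    · exact ⟨w', p', w'', p'', hw'w', hp', hw'm, hp'', hw''m, q2, indep hA2 hw''u₂ (ne0 hw''w'')⟩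
    exfalso
    have hli : LinearIndependent F ![w, w', o] := by
      rw [Fintype.linearIndependent_iff]
      intro k hk
      have e1 := congrArg (A w) hk
      have e2 := congrArg (A w') hk
      have e3 := congrArg (A o) hk
      simp [Fin.sum_univ_three, hperp, hperp', hwo, hw'o, how, how', hww, hw'w', hoo] at e1 e2 e3
      intro i; fin_cases i <;> assumption
    obtain ⟨k, hk⟩ := (Submodule.mem_span_range_iff_exists_fun F).1
      (show w'' ∈ Submodule.span F (Set.range ![w, w', o]) by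
        rw [hli.span_eq_top_of_card_eq_finrank (by simp [hU])]; trivial)
    rw [← hk] at q1 q2 hw''u₂ hw''w''
    simp [Fin.sum_univ_three, hperp, hperp', hwo, hw'o, how, how', hww, hw'w'] at q1 q2
    simp [Fin.sum_univ_three, q1, q2, hA3] at hw''u₂
    simp [Fin.sum_univ_three, q1, q2, hw''u₂] at hw''w''
  obtain ⟨f₀, f₁, h00, -, -, -, -⟩ := two_onb hC hW
  have hgi := hO.iso g hg
  have hpure : ∀ {w p : U}, A p p ≠ 0 → (∀ y, g (pt w y) ∈ LinearMap.range (pt p)) →
      ∀ y, g (pt w y) = pt p ((A p p)⁻¹ • hF.ev p (g (pt w y))) := fun {w p} hp hm y => by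
    obtain ⟨q, hq⟩ := hm y
    rw [← hq, hF.ev_pt, smul_smul, inv_mul_cancel₀ hp, one_smul]
  let b₁ : W →ₗ[F] W := (A p₁ p₁)⁻¹ • (hF.ev p₁ ∘ₗ g.toLinearMap ∘ₗ pt w₁)
  let b₂ : W →ₗ[F] W := (A p₂ p₂)⁻¹ • (hF.ev p₂ ∘ₗ g.toLinearMap ∘ₗ pt w₂)
  have hb₁ : ∀ y, g (pt w₁ y) = pt p₁ (b₁ y) := hpure hp₁ hm₁
  have hb₂ : ∀ y, g (pt w₂ y) = pt p₂ (b₂ y) := hpure hp₂ hm₂
  have r11 : ∀ y y', A p₁ p₁ * C (b₁ y) (b₁ y') = A w₁ w₁ * C y y' := fun y y' => by
    rw [← hF.prod, ← hb₁, ← hb₁, hgi, hF.prod]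
  have r12 : ∀ y y', A p₁ p₂ * C (b₁ y) (b₂ y') = A w₁ w₂ * C y y' := fun y y' => by
    rw [← hF.prod, ← hb₁, ← hb₂, hgi, hF.prod]
  have hbinj : Function.Injective b₁ := (injective_iff_map_eq_zero b₁).2 fun y hy => by
    refine hC.nondeg y fun y' => ?_
    have := r11 y y'
    rw [hy, map_zero, LinearMap.zero_apply, mul_zero] at this
    exact (mul_eq_zero.1 this.symm).resolve_left hN₁
  have hbs := LinearMap.injective_iff_surjective.1 hbinj
  have hp12 : A p₁ p₂ ≠ 0 := fun h => h12 (by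
    have := r12 f₀ f₀
    rw [h, zero_mul, h00, mul_one] at this
    exact this.symm)
  set ρ := A p₁ p₁ * A w₁ w₂ / (A w₁ w₁ * A p₁ p₂) with hρ
  have hb : ∀ y', b₂ y' = ρ • b₁ y' := fun y' => hF.eq_of_C fun e => by
    obtain ⟨y, rfl⟩ := hbs e
    rw [map_smul, smul_eq_mul, hρ, div_mul_eq_mul_div, eq_div_iff (mul_ne_zero hN₁ hp12)]
    linear_combination A w₁ w₁ * r12 y y' - A w₁ w₂ * r11 y y'
  obtain ⟨i, hi, hi0, hii⟩ := exists_iso_mem hA (S := Submodule.span F (Set.range ![w₁, w₂]))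
    (by rw [finrank_span_eq_card hind]; simp)
  obtain ⟨k, hk⟩ := (Submodule.mem_span_range_iff_exists_fun F).1 hi
  simp only [Fin.sum_univ_two, Matrix.cons_val_zero, Matrix.cons_val_one, Matrix.cons_val_fin_one] at hk
  set P := k 0 • p₁ + (k 1 * ρ) • p₂ with hP
  have hgi' : ∀ y, g (pt i y) = pt P (b₁ y) := fun y => by
    rw [← hk, map_add pt, map_smul pt, map_smul pt, LinearMap.add_apply, LinearMap.smul_apply, LinearMap.smul_apply,
      map_add g, map_smul g, map_smul g, hb₁, hb₂, hb, map_smul, hP, map_add pt, map_smul pt, map_smul pt,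
      LinearMap.add_apply, LinearMap.smul_apply, LinearMap.smul_apply, smul_smul]
    rfl
  have hP0 : P ≠ 0 := fun h => by
    have := hgi' f₀
    rw [h, map_zero pt, LinearMap.zero_apply, g.map_eq_zero_iff] at this
    have hh := congrArg (fun v => v) this
    exact (fun e : f₀ = 0 => by rw [e, map_zero] at h00; exact zero_ne_one h00)
      (hF.pt_injective hi0 (hh.trans (map_zero (pt i)).symm))
  have hPP : A P P = 0 := by
    obtain ⟨y, hy⟩ := hbs f₀
    have := hgi (pt i y) (pt i y)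
    rw [hgi', hy, hF.prod, hF.prod, h00, hii, zero_mul, mul_one] at this
    exact this
  exact hgN (hO.maps_inN hF hd hD hi0 hii hP0 hPP hg fun y => ⟨_, (hgi' y).symm⟩)

/-- every element preserves the decomposition -/
theorem Over.inN {g : V ≃ₗ[F] V} (hg : g ∈ X) : InN pt g := by
  classical
  by_cases hU4 : 4 ≤ finrank F U
  · exact hO.inN_big hF hd hD hU4 hg
  have hU : finrank F U = 3 := by have := hd.five; omega
  have hW : finrank F W = 2 := by have := hd.two; have := hd.lt; omega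
  haveI : Nontrivial W := Module.nontrivial_of_finrank_pos (R := F) (by omega)
  by_contra hgN
  by_cases h1 : ∃ g' ∈ X, ¬ InN pt g' ∧ ∃ u' v' : U, u' ≠ 0 ∧ A u' u' = 0 ∧ v' ≠ 0 ∧ A v' v' = 0 ∧
      finrank F (L2 pt g' u' v') ≠ 0
  · obtain ⟨g', hg', hN', u', v', hu', huu, hv', hvv, hne⟩ := h1
    have hb : Bound B A pt X 1 := fun h hh hhN a b ha haa hb hbb => by
      have hle : finrank F (L2 pt h a b) ≤ 2 := hW ▸ Submodule.finrank_le _
      rcases hle.lt_or_eq with h2 | h2
      · omega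
      exfalso
      refine hhN (hO.maps_inN hF hd hD ha haa hb hbb hh fun y => mem_L2.1 ?_)
      rw [Submodule.eq_top_of_finrank_eq (h2.trans hW.symm)]; trivial
    exact hO.one_false hF hd hD hU hb hg' hN' hu' huu hv' hvv
      (le_antisymm (hb g' hg' hN' u' v' hu' huu hv' hvv) (by omega))
  · push Not at h1
    exact hO.zero_false hF hd hD hU (fun h hh hhN a b ha haa hb hbb => (h1 h hh hhN a b ha haa hb hbb).le) hg hgN

end Cfsg.Agent.ClassicalMax.UnTensor
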