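import Cfsg.Agent.ClassicalMax.UnTensor.Main

/-!
Unitary tensor decompositions into factors of dimensions three and two: no element maps a line of an isotropic
`u ⊗ W` into another one.
-/

set_option autoImplicit false
set_option linter.unusedSectionVars false
set_option linter.style.haveILetI false

namespace Cfsg.Agent.ClassicalMax.UnTensor

open Module Cfsg.Agent.Classical Cfsg.Agent.ClassicalMax

variable {F U W V : Type*} [Field F] [Finite F] [AddCommGroup U] [Module F U] [AddCommGroup W] [Module F W]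
  [AddCommGroup V] [Module F V] [FiniteDimensional F U] [FiniteDimensional F W] [FiniteDimensional F V]
  {σ : F →+* F} {B : V →ₛₗ[σ] V →ₗ[F] F} {A : U →ₛₗ[σ] U →ₗ[F] F} {C : W →ₛₗ[σ] W →ₗ[F] F}
  {pt : U →ₗ[F] W →ₗ[F] V} {X : Subgroup (V ≃ₗ[F] V)}

/-- an orthogonal frame of a plane -/
theorem two_orth (hC : Herm.IsHerm C) (hW : finrank F W = 2) {f m : W} (hf : C f f ≠ 0) (hfm : C f m = 0)
    (hm : m ≠ 0) : C m m ≠ 0 ∧ ∀ y, y = (C f y / C f f) • f + (C m y / C m m) • m := by
  have hmf : C m f = 0 := (Herm.eq_zero_comm hC).1 hfm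
  have hspan : ∀ y, ∃ a b : F, a • f + b • m = y := fun y => by
    have hli : LinearIndependent F ![f, m] := LinearIndependent.pair_iff.2 fun a b e => by
      have e1 := congrArg (C f) e
      simp [hfm] at e1
      have ha := e1.resolve_right hf
      rw [ha, zero_smul, zero_add, smul_eq_zero] at e
      exact ⟨ha, e.resolve_right hm⟩
    have := hli.span_eq_top_of_card_eq_finrank (by simp [hW])
    rw [Matrix.range_cons, Matrix.range_cons, Matrix.range_empty, Set.union_empty, Set.singleton_union] at this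
    exact Submodule.mem_span_pair.1 (show y ∈ Submodule.span F ({f, m} : Set W) by rw [this]; trivial)
  have hmm : C m m ≠ 0 := fun h => hm (hC.nondeg m fun y => by
    obtain ⟨a, b, rfl⟩ := hspan y
    simp [hmf, h])
  refine ⟨hmm, fun y => ?_⟩
  obtain ⟨a, b, rfl⟩ := hspan y
  simp [hfm, hmf, hf, hmm]

variable (hO : Over B pt X) (hF : Frame B A C pt)
include hO hF

variable (hd : Dims σ U W) (hD : ¬ Done B X)
include hd hD

/-- no intersection of dimension one -/
theorem Over.one_false (hU : finrank F U = 3) (hmax : Bound B A pt X 1) {g : V ≃ₗ[F] V} (hg : g ∈ X)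
    (hgN : ¬ InN pt g) {u v : U} (hu0 : u ≠ 0) (hu : A u u = 0) (hv0 : v ≠ 0) (hv : A v v = 0)
    (hdim : finrank F (L2 pt g u v) = 1) : False := by
  classical
  have hB := hF.hB
  have hA := hF.hA
  have hC := hF.hC
  have hgi := hO.iso g hg
  have hσ := hC.toIsInvol
  have hW : finrank F W = 2 := by have := hd.two; have := hd.lt; omega
  haveI : Nontrivial W := Module.nontrivial_of_finrank_pos (R := F) (by omega)
  haveI : Nontrivial U := Module.nontrivial_of_finrank_pos (R := F) (by omega)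
  have hdim' : finrank F (L2 pt g⁻¹ v u) = 1 := by rw [finrank_L2_inv hF g hu0 hv0, hdim]
  obtain ⟨hker, hnd'⟩ := hO.top_struct hF hd hD hmax hg hgN hu0 hu hv0 hv hdim
  obtain ⟨-, hnd⟩ := hO.top_struct hF hd hD hmax (inv_mem hg) (fun h => hgN (by simpa using hF.inN_inv h))
    hv0 hv hu0 hu hdim'
  rw [inv_inv] at hnd
  have line : ∀ L : Submodule F W, finrank F L = 1 → (∀ l ∈ L, l ∈ orth C L → l = 0) → ∀ l ∈ L, l ≠ 0 →
      C l l ≠ 0 ∧ L = F ∙ l := fun L hL hnd l hl hl0 => by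
    have hLl : F ∙ l = L := Submodule.eq_of_le_of_finrank_le ((Submodule.span_singleton_le_iff_mem _ _).2 hl)
      (by rw [hL, finrank_span_singleton hl0])
    refine ⟨fun h => hl0 (hnd l hl fun l' hl' => ?_), hLl.symm⟩
    rw [← hLl] at hl'
    obtain ⟨c, rfl⟩ := Submodule.mem_span_singleton.1 hl'
    simp [h]
  obtain ⟨l, hl, hl0⟩ := Submodule.exists_mem_ne_zero_of_ne_bot
    (p := L2 pt g u v) (fun h => by rw [h, finrank_bot] at hdim; omega)
  obtain ⟨hNl, hLl⟩ := line _ hdim hnd l hl hl0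
  obtain ⟨l', hl'⟩ := mem_L2.1 hl
  have hl'0 : l' ≠ 0 := fun h => hl0 (hF.pt_injective hu0 (g.injective (by rw [← hl', h, map_zero, map_zero, map_zero])))
  obtain ⟨hNl', -⟩ := line _ hdim' hnd' l' (mem_L2.2 ⟨l, by rw [hl', inv_apply]⟩) hl'0
  obtain ⟨m, hlm, hm0⟩ : ∃ m, C l m = 0 ∧ m ≠ 0 := by
    obtain ⟨m, hm, hm0⟩ := Submodule.exists_mem_ne_zero_of_ne_bot (p := ⊤ ⊓ LinearMap.ker (C l)) fun h => by
      have e := Unitary.finrank_ker_inf (⊤ : Submodule F W) (C l)
      rw [h, finrank_bot, finrank_top] at e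
      omega
    exact ⟨m, hm.2, hm0⟩
  set p := pt v l' with hp
  set w := g (pt u m) with hw
  set m' := hF.ev v w with hm'
  have hlm' : C l' m' = 0 := by
    rw [hm', hF.C_ev, ← hp, hl', hw, hgi, hF.prod, hu, zero_mul]
  have hm'0 : m' ≠ 0 := fun h => by
    have hmem := hker m h
    rw [hLl] at hmem
    obtain ⟨c, rfl⟩ := Submodule.mem_span_singleton.1 hmem
    rw [map_smul, smul_eq_mul] at hlm
    exact hm0 (by rw [(mul_eq_zero.1 hlm).resolve_right hNl, zero_smul])
  obtain ⟨hNm, hdecm⟩ := two_orth hC hW hNl hlm hm0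
  obtain ⟨hN', hdec'⟩ := two_orth hC hW hNl' hlm' hm'0
  set Nl := C l l with hNldef
  set Nm := C m m with hNmdef
  set Nl' := C l' l' with hNl'def
  set N' := C m' m' with hN'def
  have fNl : σ Nl = Nl := Herm.fix_self hC l
  have fNm : σ Nm = Nm := Herm.fix_self hC m
  have fNl' : σ Nl' = Nl' := Herm.fix_self hC l'
  have fN' : σ N' = N' := Herm.fix_self hC m'
  set q := pt v m' with hq
  have hBqw : B q w = N' := by rw [hq, ← hF.C_ev]
  have hBpw : B p w = 0 := by rw [hp, ← hF.C_ev]; exact hlm'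
  have hBpp : B p p = 0 := by rw [hp, hF.prod, hv, zero_mul]
  have hBww : B w w = 0 := by rw [hw, hgi, hF.prod, hu, zero_mul]
  have hBwp : B w p = 0 := (Herm.eq_zero_comm hB).1 hBpw
  -- the two root elements
  have hX : ∀ a z, (g * hF.lt u a * g⁻¹) z = z + a • ((B p z / Nl) • p + (B w z / Nm) • w) := fun a z => by
    rw [LinearEquiv.mul_apply, LinearEquiv.mul_apply, hF.lt_apply hu, map_add, apply_inv, map_smul]
    congr 2
    conv_lhs => rw [hdecm (hF.ev u (g⁻¹ z))]
    rw [hF.C_ev, hF.C_ev, map_add, map_smul, map_smul, map_add, map_smul, map_smul, ← hl', hp, hw]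
    rw [← hgi (pt u l), apply_inv, ← hl', ← hgi (pt u m), apply_inv]
  have he : ∀ a z, hF.lt v a z = z + a • ((B p z / Nl') • p + (B q z / N') • q) := fun a z => by
    rw [hF.lt_apply hv]
    congr 2
    conv_lhs => rw [hdec' (hF.ev v z)]
    rw [hF.C_ev, hF.C_ev, map_add, map_smul, map_smul]
  have hXmem : ∀ a, a + σ a = 0 → g * hF.lt u a * g⁻¹ ∈ X := fun a ha =>
    mul_mem (mul_mem hg (hO.lt_mem hF hu ha)) (inv_mem hg)
  -- similitude
  have sim : ∀ k : F, k ≠ 0 → k + σ k = 0 → k * σ k * N' * Nl = Nl' * Nm := by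
    intro k hk0 hk
    set α := -Nm / (k * N') with hα
    have hα' : α + σ α = 0 := by
      rw [hα, map_div₀, map_neg, map_mul, fNm, fN', show σ k = -k by linear_combination hk, neg_mul, neg_div_neg_eq]
      field_simp
      ring
    set g₁ := g * hF.lt u α * g⁻¹ * hF.lt v k * g with hg₁
    have hg₁X : g₁ ∈ X := mul_mem (mul_mem (hXmem α hα') (hO.lt_mem hF hv hk)) hg
    have h1 : g₁ (pt u l) = pt v l' := by
      rw [hg₁, LinearEquiv.mul_apply, LinearEquiv.mul_apply, ← hl', hF.lt_apply hv, hp, hF.ev_pt, hv, zero_smul,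
        map_zero, smul_zero, add_zero, ← hp, hX, hBpp, hBwp]
      simp
    have h2 : g₁ (pt u m) = pt v (k • m') := by
      have hBpq : B p q = 0 := by rw [hp, hq, hF.prod, hv, zero_mul]
      have hBwq : B w q = N' := by rw [← hB.symm, hBqw, fN']
      rw [hg₁, LinearEquiv.mul_apply, LinearEquiv.mul_apply, ← hw, he, hBpw, hBqw, hX, zero_div, zero_smul, zero_add,
        div_self hN', one_smul, map_add, map_add, map_smul, map_smul, hBpw, hBpq, hBww, hBwq, smul_zero, add_zero,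
        zero_add, zero_div, zero_smul, zero_add, smul_eq_mul, smul_smul,
        show α * (k * N' / Nm) = -1 by rw [hα]; field_simp, neg_one_smul, map_smul, ← hq]
      abel
    have hN₁ := hO.maps_inN hF hd hD hu0 hu hv0 hv hg₁X fun y => by
      rw [hdecm y, map_add, map_add, map_smul, map_smul, map_smul, map_smul, h1, h2]
      exact Submodule.add_mem _ (Submodule.smul_mem _ _ ⟨_, rfl⟩) (Submodule.smul_mem _ _ ⟨_, rfl⟩)
    obtain ⟨a, b, eab⟩ := hN₁
    obtain ⟨x, hx, -⟩ := exists_pairing_one hA hv0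
    set κ := A x (a u)
    have e1 : κ • b l = l' := by
      have := congrArg (hF.ev x) h1
      rwa [eab, hF.ev_pt, hF.ev_pt, hx, one_smul] at this
    have e2 : κ • b m = k • m' := by
      have := congrArg (hF.ev x) h2
      rwa [eab, hF.ev_pt, hF.ev_pt, hx, one_smul] at this
    obtain ⟨u'', -, huu''⟩ := exists_pairing_one hA hu0
    set ν := A (a u) (a u'')
    have hCb : ∀ y y', ν * C (b y) (b y') = C y y' := fun y y' => by
      have := hO.iso g₁ hg₁X (pt u y) (pt u'' y')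
      rwa [eab, eab, hF.prod, hF.prod, huu'', one_mul] at this
    have f1 : κ * σ κ * C (b l) (b l) = Nl' := by rw [← Herm.smul_self hC, e1]
    have f2 : κ * σ κ * C (b m) (b m) = k * σ k * N' := by rw [← Herm.smul_self hC, e2, Herm.smul_self hC]
    have hν : ν ≠ 0 := fun h => hNl (by rw [hNldef, ← hCb, h, zero_mul])
    refine mul_left_cancel₀ hν ?_
    linear_combination Nm * ν * f1 - Nl * ν * f2 + κ * σ κ * Nl * hCb m m - κ * σ κ * Nm * hCb l l
  obtain ⟨k₁, hk₁0, hk₁⟩ := Herm.exists_skew hσ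
  have hk₁' : k₁ + σ k₁ = 0 := by rw [hk₁, add_neg_cancel]
  by_cases hreal : ∃ r : F, σ r = r ∧ r ≠ 0 ∧ r ≠ 1 ∧ r ≠ -1
  · obtain ⟨r, hr, hr0, hr1, hr2⟩ := hreal
    have e1 := sim k₁ hk₁0 hk₁'
    have e2 := sim (r * k₁) (mul_ne_zero hr0 hk₁0) (by rw [map_mul, hr, hk₁]; ring)
    rw [map_mul, hr] at e2
    have : (r * r - 1) * (k₁ * σ k₁ * N' * Nl) = 0 := by linear_combination e2 - e1
    have h1 := (mul_eq_zero.1 this).resolve_right
      (mul_ne_zero (mul_ne_zero (mul_ne_zero hk₁0 ((map_ne_zero σ).2 hk₁0)) hN') hNl)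
    rcases mul_self_eq_one_iff.1 (sub_eq_zero.1 h1) with h | h
    · exact hr1 h
    · exact hr2 h
  -- three fixed elements
  push Not at hreal
  have hr3 : ∀ r : F, σ r = r → r = 0 ∨ r = 1 ∨ r = -1 := fun r hr => by
    by_cases h0 : r = 0
    · exact Or.inl h0
    by_cases h1 : r = 1
    · exact Or.inr (Or.inl h1)
    exact Or.inr (Or.inr (hreal r hr h0 h1))
  have h20 : (2 : F) ≠ 0 := fun h2 => by
    obtain ⟨k, hk, hk0, hk1⟩ := hd.hex hW
    rcases hr3 k hk with h | h | h
    · exact hk0 h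
    · exact hk1 h
    · exact hk1 (by linear_combination h - h2)
  have h30 : (3 : F) = 0 := by
    rcases hr3 2 (map_ofNat σ 2) with h | h | h
    · exact absurd h h20
    · exact absurd (show (1 : F) = 0 by linear_combination h) one_ne_zero
    · linear_combination h
  have hsq : ∀ r : F, σ r = r → r ≠ 0 → r * r = 1 := fun r hr h0 => by
    rcases hr3 r hr with rfl | rfl | rfl
    · exact absurd rfl h0
    · ring
    · ring
  have hk₁k : k₁ * k₁ = -1 := by
    have hfix : σ (k₁ * k₁) = k₁ * k₁ := by rw [map_mul, hk₁]; ring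
    rcases hr3 _ hfix with h | h | h
    · exact absurd (mul_self_eq_zero.1 h) hk₁0
    · refine absurd ?_ (mul_ne_zero h20 hk₁0)
      rcases mul_self_eq_one_iff.1 h with e | e <;> rw [e] at hk₁ ⊢ <;>
        simp only [map_one, map_neg] at hk₁ <;> linear_combination hk₁
    · exact h
  obtain ⟨v', hv', hvv', -⟩ := exists_iso_partner hA hv0 hv
  obtain ⟨z₀, hvz, -, hzv, -, hzz⟩ := exists_perp_pair_value hA (by omega) hv hv' hvv' (c := (1 : F)) (map_one σ)
  obtain ⟨E, hEX, -, κ, HE⟩ := hO.exists_eichler hF hv hvz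
  set ρ := hF.ev z₀ + κ • hF.ev v
  have hEw : E w = w + (-pt z₀) m' + pt v (ρ w) := HE.eq w
  set V₀ := B w (E w) with hV₀
  have hV₀' : V₀ + σ V₀ = -N' := by
    have h := hO.iso E hEX w w
    conv_lhs at h => rw [hEw]
    rw [hV₀, hB.symm, hEw]
    simp only [map_add, LinearMap.neg_apply, map_neg, LinearMap.add_apply, hBww, hF.prod, hzz, hvz, hzv, hv, zero_mul,
      one_mul, neg_zero, add_zero, neg_neg] at h ⊢
    linear_combination h
  set β := (k₁ - (V₀ - N')) / N' with hβ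
  have hβ' : β + σ β = 0 := by
    rw [hβ, map_div₀, map_sub, map_sub, fN', hk₁, ← add_div]
    rw [show k₁ - (V₀ - N') + (-k₁ - (σ V₀ - N')) = N' * 3 by linear_combination -hV₀', h30, mul_zero, zero_div]
  set n := hF.lt v β * E with hn
  have hnX : n ∈ X := mul_mem (hO.lt_mem hF hv hβ') hEX
  have hnp : n p = p := by
    rw [hn, LinearEquiv.mul_apply, HE.eq p, hp, hF.ev_pt, hv, zero_smul, map_zero, HE.fix, map_zero, add_zero,
      add_zero, hF.lt_apply hv, hF.ev_pt, hv, zero_smul, map_zero, smul_zero, add_zero]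
  set w₁ := n w with hw₁
  set Vw := B w w₁ with hVw
  have hBwq : B w q = N' := by rw [← hB.symm, hBqw, fN']
  have hV : Vw = N' + k₁ := by
    rw [hVw, hw₁, hn, LinearEquiv.mul_apply, hF.lt_apply hv, HE.ev_eq hv, map_add, map_smul, ← hm', ← hq, hBwq,
      smul_eq_mul, ← hV₀, hβ, div_mul_cancel₀ _ hN']
    ring
  have hNV : Vw * σ Vw = -1 := by
    rw [hV, map_add, fN', hk₁]
    linear_combination hsq N' fN' hN' - hk₁k + h30
  set γ := k₁ / Nm with hγdef
  have hγ : γ * γ = -1 := by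
    rw [hγdef, div_mul_div_comm, hk₁k, hsq Nm fNm hNm, div_one]
  have hBw₁p : B w₁ p = 0 := by rw [hw₁, ← hnp, hO.iso n hnX]; exact hBwp
  have hBpw₁ : B p w₁ = 0 := (Herm.eq_zero_comm hB).1 hBw₁p
  have hBw₁w₁ : B w₁ w₁ = 0 := by rw [hw₁, hO.iso n hnX]; exact hBww
  have hBw₁w : B w₁ w = σ Vw := (hB.symm w w₁).symm
  set T := g * hF.lt u k₁ * g⁻¹
  set Y := T * (n * T * n⁻¹) with hY
  have hYX : Y ∈ X := mul_mem (hXmem _ hk₁') (mul_mem (mul_mem hnX (hXmem _ hk₁')) (inv_mem hnX))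
  have hYz : ∀ z, Y z = z + (2 * (k₁ / Nl) * B p z) • p + (γ * (B w z + γ * Vw * B w₁ z)) • w + (γ * B w₁ z) • w₁ := by
    intro z
    have h1 : (n * T * n⁻¹) z = z + k₁ • ((B p z / Nl) • p + (B w₁ z / Nm) • w₁) := by
      rw [LinearEquiv.mul_apply, LinearEquiv.mul_apply, hX, map_add, apply_inv, map_smul, map_add, map_smul, map_smul,
        hnp, ← hw₁]
      congr 4
      · rw [← hO.iso n hnX p (n⁻¹ z), apply_inv, hnp]
      · rw [← hO.iso n hnX w (n⁻¹ z), apply_inv]
    rw [hY, LinearEquiv.mul_apply, h1, hX]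
    simp only [map_add, map_smul, smul_eq_mul, hBpp, hBpw₁, hBwp, ← hVw, mul_zero, add_zero, zero_add, hγdef]
    match_scalars <;> ring
  have hY2 : ∀ z, (Y * Y) z = z + (4 * (k₁ / Nl) * B p z) • p + (-(Vw * B w₁ z)) • w + (-(σ Vw * B w z)) • w₁ := by
    intro z
    rw [LinearEquiv.mul_apply, hYz (Y z), hYz z]
    simp only [map_add, map_smul, smul_eq_mul, hBpp, hBpw, hBpw₁, hBwp, hBww, ← hVw, hBw₁p, hBw₁w, hBw₁w₁, mul_zero,
      add_zero, zero_add]
    match_scalars
    · ring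
    · ring
    · linear_combination (γ * B w z + γ * γ * Vw * B w₁ z) * h30
        + (γ * γ * γ * B w z + γ * γ * γ * γ * Vw * B w₁ z) * hNV
        + (-(γ * B w z) + Vw * B w₁ z * (1 - γ * γ)) * hγ
    · linear_combination (γ * B w₁ z) * h30 + γ * γ * γ * B w₁ z * hNV + (σ Vw * B w z - γ * B w₁ z) * hγ
  set c₀ := 8 * (k₁ / Nl) with hc₀
  have hrad : hF.rad v (c₀ • (C l').smulRight l') = Y * Y * (Y * Y) := LinearEquiv.ext fun z => by
    rw [hF.rad_apply hv, LinearEquiv.mul_apply, hY2 ((Y * Y) z), hY2 z, LinearMap.smul_apply, LinearMap.smulRight_apply,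
      hF.C_ev, ← hp, map_smul, map_smul, ← hp]
    simp only [map_add, map_smul, smul_eq_mul, hBpp, hBpw, hBpw₁, hBwp, hBww, ← hVw, hBw₁p, hBw₁w, hBw₁w₁, mul_zero,
      add_zero, zero_add, hc₀]
    match_scalars
    · ring
    · ring
    · linear_combination (Vw * B w₁ z) * h30 - (Vw * B w₁ z) * hNV
    · linear_combination (σ Vw * B w z) * h30 - (σ Vw * B w z) * hNV
  obtain ⟨μ, hμ⟩ := hO.rad_scalar hF hd hD hv0 hv (hrad ▸ mul_mem (mul_mem hYX hYX) (mul_mem hYX hYX))
  have e1 := hμ m'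
  rw [LinearMap.smul_apply, LinearMap.smulRight_apply, hlm', zero_smul, smul_zero, eq_comm, smul_eq_zero] at e1
  have e2 := hμ l'
  rw [LinearMap.smul_apply, LinearMap.smulRight_apply, e1.resolve_right hm'0, zero_smul, smul_smul, smul_eq_zero] at e2
  have h80 : (8 : F) ≠ 0 := by
    rw [show (8 : F) = 2 * 2 * 2 by norm_num]; exact mul_ne_zero (mul_ne_zero h20 h20) h20
  exact e2.elim (mul_ne_zero (mul_ne_zero h80 (div_ne_zero hk₁0 hNl)) hNl') hl'0

end Cfsg.Agent.ClassicalMax.UnTensor
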