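import Cfsg.Agent.ClassicalMax.UnTensor.Chain

/-!
Overgroups of the stabiliser of a unitary tensor decomposition: an element mapping one isotropic subspace `u ⊗ W`
into another preserves the decomposition unless every isotropic centre is present.
-/

set_option autoImplicit false
set_option linter.unusedSectionVars false
set_option linter.style.haveILetI false

namespace Cfsg.Agent.ClassicalMax.UnTensor

open Module Cfsg.Agent.Classical Cfsg.Agent.ClassicalMax

variable {F U W V : Type*} [Field F] [Finite F] [AddCommGroup U] [Module F U] [AddCommGroup W] [Module F W]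
  [AddCommGroup V] [Module F V] [FiniteDimensional F U] [FiniteDimensional F W] [FiniteDimensional F V]
  {σ : F →+* F} {B : V →ₛₗ[σ] V →ₗ[F] F} {A : U →ₛₗ[σ] U →ₗ[F] F} {C : W →ₛₗ[σ] W →ₗ[F] F}
  {pt : U →ₗ[F] W →ₗ[F] V} {X : Subgroup (V ≃ₗ[F] V)}

/-- an isometry fixing `u ⊗ W` pointwise and acting trivially on its orthogonal modulo it -/
structure Hel (hF : Frame B A C pt) (u : U) (h : V ≃ₗ[F] V) (ψ : W →ₗ[F] V) (ρ : V →ₗ[F] W) : Prop where
  iso : ∀ z z', B (h z) (h z') = B z z'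
  ev : ∀ e, hF.ev u (ψ e) = 0
  fix : ∀ y, ρ (pt u y) = 0
  eq : ∀ z, h z = z + ψ (hF.ev u z) + pt u (ρ z)

namespace Hel

variable {hF : Frame B A C pt} {u : U} (hu : A u u = 0) {h h' : V ≃ₗ[F] V} {ψ ψ' : W →ₗ[F] V} {ρ ρ' : V →ₗ[F] W}
include hu

theorem ev_eq (H : Hel hF u h ψ ρ) (z : V) : hF.ev u (h z) = hF.ev u z := by
  rw [H.eq, map_add, map_add, H.ev, hF.ev_pt, hu, zero_smul, add_zero, add_zero]

theorem det (H : Hel hF u h ψ ρ) : LinearMap.det h.toLinearMap = 1 :=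
  det_one_of_cube _ fun z => by
    simp only [H.eq, map_add, map_sub, H.ev, H.fix, hF.ev_pt, hu, zero_smul, add_zero, map_zero, sub_zero]
    abel

theorem key (H : Hel hF u h ψ ρ) (hu0 : u ≠ 0) {w : V} (hw : hF.ev u w = 0) (y : W) :
    C (ρ w) y = -B w (ψ y) := by
  obtain ⟨u', hu', huu'⟩ := exists_pairing_one hF.hA hu0
  have h1 := H.iso w (pt u' y)
  rw [H.eq w, H.eq (pt u' y), hw, map_zero, add_zero, hF.ev_pt, huu', one_smul] at h1
  simp only [map_add, LinearMap.add_apply, hF.B_pt u w, hw, map_zero, LinearMap.zero_apply, hF.prod, huu', hu,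
    one_mul, zero_mul, add_zero, ← hF.C_ev u (ψ y), H.ev, ← hF.C_ev u (pt u' y)] at h1
  linear_combination h1

/-- the commutator is supported on `u ⊗ W` -/
theorem comm (H : Hel hF u h ψ ρ) (H' : Hel hF u h' ψ' ρ') (hu0 : u ≠ 0) :
    ∃ S : W →ₗ[F] W, h * h' * (h' * h)⁻¹ = hF.rad u S ∧
      ∀ e y, C (S e) y = B (ψ e) (ψ' y) - B (ψ' e) (ψ y) := by
  refine ⟨ρ ∘ₗ ψ' - ρ' ∘ₗ ψ, LinearEquiv.ext fun z => ?_, fun e y => ?_⟩
  · obtain ⟨z, rfl⟩ := (h' * h).surjective z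
    rw [LinearEquiv.mul_apply, inv_apply, hF.rad_apply hu,
      show hF.ev u ((h' * h) z) = hF.ev u z by rw [LinearEquiv.mul_apply, H'.ev_eq hu, H.ev_eq hu],
      LinearEquiv.mul_apply, LinearEquiv.mul_apply, H.eq (h' z), H'.ev_eq hu, H'.eq (h z), H.ev_eq hu, H.eq z, H'.eq z]
    simp only [LinearMap.sub_apply, LinearMap.comp_apply, map_add, map_sub, H.fix, H'.fix, map_zero, add_zero]
    abel
  · rw [LinearMap.sub_apply, LinearMap.comp_apply, LinearMap.comp_apply, map_sub, LinearMap.sub_apply,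
      H.key hu hu0 (H'.ev e), H'.key hu hu0 (H.ev e)]
    ring

theorem conj (H : Hel hF u h ψ ρ) {g : V ≃ₗ[F] V} (hg : ∀ z z', B (g z) (g z') = B z z') {T T' : W →ₗ[F] W}
    (hT : ∀ y, g (pt u y) = pt u (T y)) (hs : ∀ y, ∃ y', T y' = y) (hinj : Function.Injective T')
    (hev : ∀ z, hF.ev u (g⁻¹ z) = T' (hF.ev u z)) :
    Hel hF u (g * h * g⁻¹) (g.toLinearMap ∘ₗ ψ ∘ₗ T') (T ∘ₗ ρ ∘ₗ g⁻¹.toLinearMap) := by
  refine ⟨fun z z' => ?_, fun e => hinj ?_, fun y => ?_, fun z => ?_⟩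
  · rw [LinearEquiv.mul_apply, LinearEquiv.mul_apply, LinearEquiv.mul_apply, LinearEquiv.mul_apply, hg, H.iso,
      iso_inv hg]
  · rw [LinearMap.comp_apply, LinearMap.comp_apply, LinearEquiv.coe_coe, ← hev, inv_apply, H.ev, map_zero]
  · obtain ⟨y, rfl⟩ := hs y
    rw [LinearMap.comp_apply, LinearMap.comp_apply, LinearEquiv.coe_coe, ← hT, inv_apply, H.fix, map_zero]
  · rw [LinearEquiv.mul_apply, LinearEquiv.mul_apply, H.eq, map_add, map_add, apply_inv, hT, hev]
    rfl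

end Hel

variable (hO : Over B pt X) (hF : Frame B A C pt)
include hO hF

/-- the Eichler elements of the first factor -/
theorem Over.exists_eichler {u w : U} (hu : A u u = 0) (huw : A u w = 0) :
    ∃ E ∈ X, InN pt E ∧ ∃ κ : F, Hel hF u E (-pt w) (hF.ev w + κ • hF.ev u) := by
  have hwu : A w u = 0 := (Herm.eq_zero_comm hF.hA).1 huw
  obtain ⟨κ, hκ⟩ := Herm.exists_trace hF.hA.toIsInvol (a := -A (-w) (-w)) (by rw [map_neg σ, Herm.fix_self hF.hA])
  have hae : A (-w) u = 0 := by rw [map_neg, LinearMap.neg_apply, hwu, neg_zero]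
  obtain ⟨E, hE, hEN, hEp, -⟩ := hF.exists_lift (a := Herm.eichler hF.hA hu hae κ) (b := LinearEquiv.refl F W)
    (μ := (1 : F)) (ν := 1)
    (fun x y => ((Herm.eichler_mem hF.hA hu hae hκ).1 x y).trans (one_mul _).symm)
    (fun x y => (one_mul _).symm) (one_mul _)
  have heq : ∀ z, E z = z + (-pt w) (hF.ev u z) + pt u ((hF.ev w + κ • hF.ev u) z) := by
    let R : V →ₗ[F] V := LinearMap.id + (-pt w) ∘ₗ hF.ev u + pt u ∘ₗ (hF.ev w + κ • hF.ev u)
    have : E.toLinearMap = R := hF.ext_pure fun x y => by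
      simp only [R, LinearEquiv.coe_coe, hEp, LinearEquiv.refl_apply, Herm.eichler_apply, LinearMap.add_apply,
        LinearMap.comp_apply, LinearMap.id_apply, LinearMap.smul_apply, LinearMap.neg_apply, hF.ev_pt, map_add,
        map_sub, map_neg, map_smul]
      module
    exact fun z => LinearMap.congr_fun this z
  have H : Hel hF u E (-pt w) (hF.ev w + κ • hF.ev u) := ⟨hE, fun e => by
    rw [LinearMap.neg_apply, map_neg, hF.ev_pt, huw, zero_smul, neg_zero], fun y => by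
    rw [LinearMap.add_apply, LinearMap.smul_apply, hF.ev_pt, hF.ev_pt, hwu, hu, zero_smul, smul_zero, add_zero], heq⟩
  exact ⟨E, hO.mem E hE hEN (H.det hu), hEN, κ, H⟩

/-- modulo `u ⊗ W` the values of an element are pure, with a fixed second factor -/
theorem Over.hel_scalar (hd : Dims σ U W) (hD : ¬ Done B X) {u : U} (hu0 : u ≠ 0) (hu : A u u = 0)
    {h : V ≃ₗ[F] V} (hh : h ∈ X) {ψ : W →ₗ[F] V} {ρ : V →ₗ[F] W} (H : Hel hF u h ψ ρ) {v : U} (huv : A u v = 0) :
    ∃ φ : F, ∀ e, hF.ev v (ψ e) = φ • e := by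
  have hC := hF.hC
  set M : W →ₗ[F] W := hF.ev v ∘ₗ ψ with hM
  have hrel : ∀ ω : F, ∃ ν : F, ∀ e y, σ ω * C e (M y) - ω * C (M e) y = ν * C e y := by
    intro ω
    obtain ⟨E, hE, -, κ, HE⟩ := hO.exists_eichler hF (w := ω • v) hu (by rw [map_smul, huv, smul_zero])
    obtain ⟨S, hS, hSC⟩ := H.comm hu HE hu0
    obtain ⟨μ, hμ⟩ := hO.rad_scalar hF hd hD hu0 hu
      (hS ▸ mul_mem (mul_mem hh hE) (inv_mem (mul_mem hE hh)))
    refine ⟨σ μ, fun e y => ?_⟩
    have := hSC e y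
    rw [hμ, map_smulₛₗ, LinearMap.smul_apply, smul_eq_mul] at this
    rw [this]
    simp only [LinearMap.neg_apply, map_neg, ← hF.C_ev, hF.B_pt, map_smulₛₗ, LinearMap.smul_apply, smul_eq_mul,
      RingHom.id_apply, hC.invol, hM, LinearMap.comp_apply]
    ring
  obtain ⟨ω, hω⟩ := Herm.exists_moved hC.toIsInvol
  obtain ⟨ν₁, h1⟩ := hrel 1
  obtain ⟨ν₂, h2⟩ := hrel ω
  refine ⟨(ν₂ - ω * ν₁) / (σ ω - ω), fun e => hF.eq_of_C fun x => ?_⟩
  have e1 := h1 x e
  have e2 := h2 x e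
  rw [map_one, one_mul, one_mul] at e1
  rw [map_smul, smul_eq_mul, div_mul_eq_mul_div, eq_div_iff (sub_ne_zero.2 hω)]
  linear_combination e2 - ω * e1

/-- an element mapping one isotropic `u ⊗ W` into itself preserves the decomposition -/
theorem Over.stab_inN (hd : Dims σ U W) (hD : ¬ Done B X) {u : U} (hu0 : u ≠ 0) (hu : A u u = 0) {g : V ≃ₗ[F] V}
    (hg : g ∈ X) (hR : ∀ y, g (pt u y) ∈ LinearMap.range (pt u)) : InN pt g := by
  classical
  have hA := hF.hA
  have hC := hF.hC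
  have hgi := hO.iso g hg
  haveI : Nontrivial W := Module.nontrivial_of_finrank_pos (R := F) (by have := hd.two; omega)
  haveI : Nontrivial U := Module.nontrivial_of_finrank_pos (R := F) (by have := hd.five; omega)
  haveI : NeZero (finrank F W) := ⟨by have := hd.two; omega⟩
  obtain ⟨u', hu', huu', hu'u⟩ := exists_iso_partner hA hu0 hu
  set y₀ := hF.onb 0 with hy₀
  have h00 : C y₀ y₀ = 1 := by rw [hy₀, hF.onb_spec, if_pos rfl]
  -- the action on `u ⊗ W`
  set T₀ : W →ₗ[F] W := hF.ev u' ∘ₗ g.toLinearMap ∘ₗ pt u with hT₀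
  have hgT : ∀ y, g (pt u y) = pt u (T₀ y) := fun y => by
    obtain ⟨p, hp⟩ := hR y
    simp only [hT₀, LinearMap.comp_apply, LinearEquiv.coe_coe, ← hp, hF.ev_pt, hu'u, one_smul]
  have hTinj : Function.Injective T₀ := fun y y' h => hF.pt_injective hu0 (g.injective (by rw [hgT, hgT, h]))
  have hTs : ∀ y, ∃ y', T₀ y' = y := fun y => LinearMap.injective_iff_surjective.1 hTinj y
  have hadj : ∀ z, hF.ev u (g⁻¹ z) = hF.adj T₀ (hF.ev u z) := fun z => hF.eq_of_C fun y => by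
    rw [hF.C_adj, hF.C_ev, hF.C_ev, ← hgT, ← hgi (pt u y) (g⁻¹ z), apply_inv]
  obtain ⟨c₀, hc0, hc⟩ := Herm.exists_skew hA.toIsInvol
  have hc' : c₀ + σ c₀ = 0 := by rw [hc, add_neg_cancel]
  have hrad : hF.rad u (c₀ • (T₀ ∘ₗ hF.adj T₀)) = g * hF.lt u c₀ * g⁻¹ := LinearEquiv.ext fun z => by
    rw [LinearEquiv.mul_apply, LinearEquiv.mul_apply, hF.lt_apply hu, map_add, apply_inv, hF.rad_apply hu, map_smul,
      hgT, hadj, LinearMap.smul_apply, LinearMap.comp_apply, map_smul]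
  obtain ⟨ν, hν⟩ := hO.rad_scalar hF hd hD hu0 hu (hrad ▸ mul_mem (mul_mem hg (hO.lt_mem hF hu hc')) (inv_mem hg))
  set μ := c₀⁻¹ * ν with hμdef
  have hTT : ∀ e, T₀ (hF.adj T₀ e) = μ • e := fun e => by
    have := hν e
    rw [LinearMap.smul_apply, LinearMap.comp_apply] at this
    rw [hμdef, mul_smul, ← this, inv_smul_smul₀ hc0]
  have hTT' : ∀ e, hF.adj T₀ (T₀ e) = μ • e := fun e => hTinj (by rw [hTT, map_smul])
  have hsim : ∀ y y', C (T₀ y) (T₀ y') = μ * C y y' := fun y y' => by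
    rw [← hF.C_adj, hTT', map_smul, smul_eq_mul]
  have hμ0 : μ ≠ 0 := fun h0 => by
    have hz : T₀ y₀ = 0 := hC.nondeg _ fun w => by
      obtain ⟨w, rfl⟩ := hTs w
      rw [hsim, h0, zero_mul]
    have := hTinj (hz.trans (map_zero T₀).symm)
    rw [this, map_zero] at h00
    exact zero_ne_one h00
  have hadjinj : Function.Injective (hF.adj T₀) := fun e e' he => by
    have := congrArg T₀ he
    rw [hTT, hTT] at this
    exact smul_right_injective W hμ0 this
  have hμσ : σ μ = μ := by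
    have := Herm.fix_self hC (T₀ y₀)
    rwa [hsim, h00, mul_one] at this
  obtain ⟨l, hl⟩ := Herm.exists_norm hA.toIsInvol hμσ
  have hl0 : l ≠ 0 := fun h0 => hμ0 (by rw [← hl, h0, zero_mul])
  have hσl : σ l ≠ 0 := (map_ne_zero σ).2 hl0
  let b₀ : W ≃ₗ[F] W := LinearEquiv.ofInjectiveEndo (l⁻¹ • T₀) fun y y' h =>
    hTinj (smul_right_injective W (inv_ne_zero hl0) h)
  have hb₀ : ∀ y, b₀ y = l⁻¹ • T₀ y := fun y => rfl
  have hb₀iso : ∀ y y', C (b₀ y) (b₀ y') = C y y' := fun y y' => by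
    simp only [hb₀, map_smulₛₗ, LinearMap.smul_apply, hsim, smul_eq_mul, RingHom.id_apply, map_inv₀]
    rw [← hl]
    field_simp
  have hevg : ∀ z, hF.ev u z = 0 → hF.ev u (g z) = 0 := fun z hz => hadjinj (by
    rw [← hadj, inv_apply, hz, map_zero])
  -- the images of `w ⊗ W` for `w ⊥ u`
  let Lf : U →ₛₗ[σ] U →ₗ[F] F := LinearMap.mk₂'ₛₗ σ (RingHom.id F)
    (fun v w => μ⁻¹ * C (T₀ y₀) (hF.ev v (g (pt w y₀))))
    (fun v v' w => by simp only [map_add, LinearMap.add_apply]; ring)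
    (fun c v w => by simp only [map_smulₛₗ, LinearMap.smul_apply, smul_eq_mul, RingHom.id_apply]; ring)
    (fun v w w' => by simp only [map_add, LinearMap.add_apply]; ring)
    (fun c v w => by simp only [map_smul, LinearMap.smul_apply, smul_eq_mul, RingHom.id_apply]; ring)
  have hLf : ∀ v w, Lf v w = μ⁻¹ * C (T₀ y₀) (hF.ev v (g (pt w y₀))) := fun v w => rfl
  have hpure : ∀ v w, A u v = 0 → A u w = 0 → ∀ y, hF.ev v (g (pt w y)) = Lf v w • T₀ y := by
    intro v w huv huw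
    obtain ⟨E, hE, -, κ, HE⟩ := hO.exists_eichler hF hu huw
    obtain ⟨φ, hφ⟩ := hO.hel_scalar hF hd hD hu0 hu (mul_mem (mul_mem hg hE) (inv_mem hg))
      (HE.conj hu hgi hgT hTs hadjinj hadj) huv
    have hval : ∀ y, hF.ev v (g (pt w y)) = (-(φ / μ)) • T₀ y := fun y => by
      have := hφ (T₀ y)
      simp only [LinearMap.comp_apply, hTT', LinearMap.neg_apply, LinearEquiv.coe_coe, map_neg, map_smul] at this
      rw [neg_smul, div_eq_inv_mul, mul_smul, ← this]
      simp [smul_smul, hμ0]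
    intro y
    rw [hval, hLf, hval, map_smul, hsim, h00, mul_one, smul_eq_mul]
    congr 1
    field_simp
  let π : U →ₗ[F] U := LinearMap.id - (A u').smulRight u - (A u).smulRight u'
  have hπ : ∀ x, π x = x - A u' x • u - A u x • u' := fun x => rfl
  have hπu : ∀ x, A u (π x) = 0 := fun x => by simp [hπ, hu, huu']
  have hπu' : ∀ x, A u' (π x) = 0 := fun x => by simp [hπ, hu', hu'u]
  have hπ0 : π u = 0 := by simp [hπ, hu, hu'u]
  have hπ0' : π u' = 0 := by simp [hπ, hu', huu']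
  have hππ : ∀ x, A u x = 0 → A u' x = 0 → π x = x := fun x h h' => by simp [hπ, h, h']
  obtain ⟨xb, hxb⟩ := Herm.exists_orthonormal hA
  have hrepr : ∀ (f : U →ₛₗ[σ] F), ∀ v, A v (∑ i, f (xb i) • xb i) = f v := by
    intro f
    have : A.flip (∑ i, f (xb i) • xb i) = f := xb.ext fun j => by
      rw [LinearMap.flip_apply, map_sum, Finset.sum_eq_single j]
      · rw [map_smul, hxb, if_pos rfl, smul_eq_mul, mul_one]
      · intro i _ hi
        rw [map_smul, hxb, if_neg (Ne.symm hi), smul_zero]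
      · simp
    exact fun v => LinearMap.congr_fun this v
  let Φ : U →ₗ[F] U := ∑ i, (l • (Lf (π (xb i)) ∘ₗ π)).smulRight (xb i)
  have hΦ : ∀ v w, A v (Φ w) = l * Lf (π v) (π w) := by
    intro v w
    have h1 := hrepr (l • ((Lf.flip (π w)).comp π)) v
    simp only [LinearMap.smul_apply, LinearMap.comp_apply, LinearMap.flip_apply, smul_eq_mul] at h1
    rw [← h1]
    simp [Φ, LinearMap.sum_apply, smul_smul]
  have hΦu : ∀ w, A u (Φ w) = 0 := fun w => by rw [hΦ, hπ0, map_zero, LinearMap.zero_apply, mul_zero]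
  have hΦu' : ∀ w, A u' (Φ w) = 0 := fun w => by rw [hΦ, hπ0', map_zero, LinearMap.zero_apply, mul_zero]
  have hdiff : ∀ w, A u w = 0 → A u' w = 0 → ∀ y, g (pt w y) - pt (Φ w) (b₀ y) ∈ LinearMap.range (pt u) := by
    intro w hw hw' y
    refine hF.mem_R hu0 fun v hv => ?_
    have huv : A u v = 0 := (Herm.eq_zero_comm hA).1 hv
    have hev : hF.ev v (g (pt w y)) = hF.ev (π v) (g (pt w y)) := by
      rw [hπ, huv, zero_smul, sub_zero, map_sub, map_smulₛₗ, LinearMap.sub_apply, LinearMap.smul_apply,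
        hevg _ (by rw [hF.ev_pt, hw, zero_smul]), smul_zero, sub_zero]
    rw [map_sub, hev, hF.ev_pt, hpure _ _ (hπu v) hw, hΦ, hππ w hw hw', hb₀, smul_smul, mul_comm l, mul_assoc,
      mul_inv_cancel₀ hl0, mul_one, sub_self]
  have hΦiso : ∀ w w', A u w = 0 → A u' w = 0 → A u w' = 0 → A u' w' = 0 → A (Φ w) (Φ w') = A w w' := by
    intro w w' hw h1 hw' h1'
    obtain ⟨p, hp⟩ := hdiff w hw h1 y₀
    obtain ⟨p', hp'⟩ := hdiff w' hw' h1' y₀
    have hB := hgi (pt w y₀) (pt w' y₀)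
    rw [show g (pt w y₀) = pt (Φ w) (b₀ y₀) + pt u p by rw [hp, add_sub_cancel],
      show g (pt w' y₀) = pt (Φ w') (b₀ y₀) + pt u p' by rw [hp', add_sub_cancel]] at hB
    simp only [map_add, LinearMap.add_apply, hF.prod, hb₀iso, h00, mul_one, hΦu, hu,
      (Herm.eq_zero_comm hA).1 (hΦu _), zero_mul, add_zero] at hB
    exact hB
  let φa : U →ₗ[F] U := (A u').smulRight (l • u) + (A u).smulRight ((σ l)⁻¹ • u') + Φ
  have hφa : ∀ x, φa x = A u' x • l • u + A u x • (σ l)⁻¹ • u' + Φ x := fun x => rfl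
  have hΦπ : ∀ x, Φ x = Φ (π x) := fun x => by
    refine sub_eq_zero.1 (hA.nondeg _ fun v => (Herm.eq_zero_comm hA).1 ?_)
    rw [map_sub, hΦ, hΦ, hππ _ (hπu x) (hπu' x), sub_self]
  have hφiso : ∀ x x', A (φa x) (φa x') = A x x' := by
    intro x x'
    have e : A (Φ x) (Φ x') = A (π x) (π x') := by
      rw [hΦπ x, hΦπ x', hΦiso _ _ (hπu x) (hπu' x) (hπu x') (hπu' x')]
    conv_rhs => rw [show x = A u' x • u + A u x • u' + π x by rw [hπ]; abel,
      show x' = A u' x' • u + A u x' • u' + π x' by rw [hπ]; abel]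
    simp only [hφa, map_add, map_smulₛₗ, LinearMap.add_apply, LinearMap.smul_apply, smul_eq_mul, RingHom.id_apply,
      map_inv₀, hA.invol, hu, hu', huu', hu'u, hΦu, hΦu', hπu, hπu', (Herm.eq_zero_comm hA).1 (hΦu _),
      (Herm.eq_zero_comm hA).1 (hΦu' _), (Herm.eq_zero_comm hA).1 (hπu _), (Herm.eq_zero_comm hA).1 (hπu' _), e,
      mul_zero, add_zero, zero_add]
    field_simp
  obtain ⟨a, ha⟩ : ∃ a : U ≃ₗ[F] U, ∀ x, a x = φa x :=
    ⟨LinearEquiv.ofInjectiveEndo φa ((injective_iff_map_eq_zero φa).2 fun x hx => hA.nondeg x fun x' => by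
      rw [← hφiso, hx, map_zero, LinearMap.zero_apply]), fun _ => rfl⟩
  have hau : a u = l • u := by
    rw [ha, hφa, hu'u, hu, one_smul, zero_smul, add_zero, hΦπ, hπ0, map_zero, add_zero]
  obtain ⟨k, hki, hkN, hkp, -⟩ := hF.exists_lift (a := a) (b := b₀) (μ := (1 : F)) (ν := 1)
    (fun x y => by rw [ha, ha, hφiso, one_mul]) (fun x y => by rw [hb₀iso, one_mul]) (one_mul _)
  have hku : ∀ y, k (pt u y) = pt u (T₀ y) := fun y => by
    rw [hkp, hau, hb₀, map_smul pt, LinearMap.smul_apply, map_smul, smul_smul, mul_inv_cancel₀ hl0, one_smul]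
  -- the element is now trivial on the sections
  set g₁ := k⁻¹ * g with hg₁
  have hkg₁ : ∀ z, k (g₁ z) = g z := fun z => by rw [hg₁, LinearEquiv.mul_apply, apply_inv]
  have hg₁i : ∀ z z', B (g₁ z) (g₁ z') = B z z' := fun z z' => by rw [← hki, hkg₁, hkg₁, hgi]
  have hfix₁ : ∀ y, g₁ (pt u y) = pt u y := fun y => k.injective (by rw [hkg₁, hgT, hku])
  have hevu₁ : ∀ z, hF.ev u (g₁ z) = hF.ev u z := fun z => hF.eq_of_C fun y => by
    rw [hF.C_ev, hF.C_ev, ← hg₁i (pt u y) z, hfix₁]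
  have hw₁ : ∀ w, A u w = 0 → ∀ y, g₁ (pt w y) - pt w y ∈ LinearMap.range (pt u) := by
    intro w hw y
    obtain ⟨p, hp⟩ := hdiff (π w) (hπu w) (hπu' w) y
    obtain ⟨q, rfl⟩ := hTs p
    refine ⟨q, k.injective ?_⟩
    have hsplit : pt w y = pt (π w) y + A u' w • pt u y := by
      conv_lhs => rw [show w = π w + A u' w • u by rw [hπ, hw, zero_smul, sub_zero, sub_add_cancel]]
      rw [map_add pt, map_smul pt, LinearMap.add_apply, LinearMap.smul_apply]
    have hkπ : k (pt (π w) y) = pt (Φ (π w)) (b₀ y) := by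
      rw [hkp, ha, hφa, hπu, hπu', zero_smul, zero_smul, zero_add, zero_add]
    rw [map_sub, hkg₁, hku, hp, hsplit, map_add g, map_smul g, hgT, map_add k, map_smul k, hku, hkπ]
    abel
  have htriv : ∀ z, hF.ev u z = 0 → ∀ v, A v u = 0 → hF.ev v (g₁ z) = hF.ev v z := by
    intro z hz v hv
    refine hF.eq_of_C fun y => ?_
    obtain ⟨p, hp⟩ := hw₁ v ((Herm.eq_zero_comm hA).1 hv) y
    rw [hF.C_ev, hF.C_ev, ← hg₁i (pt v y) z, show g₁ (pt v y) = pt v y + pt u p by rw [hp, add_sub_cancel],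
      map_add, LinearMap.add_apply, ← hF.C_ev u (g₁ z), hevu₁, hz, map_zero, add_zero]
  let ψ : W →ₗ[F] V := (g₁.toLinearMap - LinearMap.id) ∘ₗ pt u'
  let ρ : V →ₗ[F] W := hF.ev u' ∘ₗ (g₁.toLinearMap - LinearMap.id) ∘ₗ (LinearMap.id - pt u' ∘ₗ hF.ev u)
  have hψ : ∀ e, ψ e = g₁ (pt u' e) - pt u' e := fun e => rfl
  have hρ : ∀ z, ρ z = hF.ev u' (g₁ (z - pt u' (hF.ev u z)) - (z - pt u' (hF.ev u z))) := fun z => rfl
  have H₁ : Hel hF u g₁ ψ ρ := by
    refine ⟨hg₁i, fun e => ?_, fun y => ?_, fun z => ?_⟩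
    · rw [hψ, map_sub, hevu₁, sub_self]
    · rw [hρ, hF.ev_pt, hu, zero_smul, map_zero, sub_zero, hfix₁, sub_self, map_zero]
    · set e := hF.ev u z
      have hz0 : hF.ev u (z - pt u' e) = 0 := by rw [map_sub, hF.ev_pt, huu', one_smul, sub_self]
      rw [hρ, ← hF.eq_pt hu'u fun v hv => by rw [map_sub, htriv _ hz0 v hv, sub_self], hψ, map_sub]
      abel
  have hdk : LinearMap.det k.toLinearMap = 1 := by
    have h1 : LinearMap.det (k.toLinearMap ∘ₗ g₁.toLinearMap) = 1 := by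
      rw [show k.toLinearMap ∘ₗ g₁.toLinearMap = g.toLinearMap from LinearMap.ext hkg₁]
      exact hO.det g hg
    rwa [LinearMap.det_comp, H₁.det hu, mul_one] at h1
  have hkX : k ∈ X := hO.mem k hki hkN hdk
  have hg₁X : g₁ ∈ X := mul_mem (inv_mem hkX) hg
  -- subtract the pure part
  obtain ⟨v', hv'⟩ : ∃ v', ∀ v, A v v' = C y₀ (hF.ev (π v) (ψ y₀)) :=
    ⟨_, hrepr (((C y₀).comp ((hF.ev.flip (ψ y₀)).comp π)))⟩
  have huv' : A u v' = 0 := by rw [hv', hπ0, map_zero, LinearMap.zero_apply, map_zero]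
  have hψv : ∀ e, ψ e - pt v' e ∈ LinearMap.range (pt u) := fun e => hF.mem_R hu0 fun v hv => by
    have huv : A u v = 0 := (Herm.eq_zero_comm hA).1 hv
    have hev : ∀ z, hF.ev u z = 0 → hF.ev v z = hF.ev (π v) z := fun z hz => by
      rw [hπ, huv, zero_smul, sub_zero, map_sub, map_smulₛₗ, LinearMap.sub_apply, LinearMap.smul_apply,
        hz, smul_zero, sub_zero]
    obtain ⟨φ, hφ⟩ := hO.hel_scalar hF hd hD hu0 hu hg₁X H₁ (hπu v)
    rw [map_sub, hev _ (H₁.ev e), hF.ev_pt, hv', hφ, hφ, map_smul, h00, smul_eq_mul, mul_one, sub_self]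
  obtain ⟨E, hEX, hEN, κ, HE⟩ := hO.exists_eichler hF hu huv'
  set h := E * g₁ with hh
  have hhX : h ∈ X := mul_mem hEX hg₁X
  have hdif : ∀ z, h z - z ∈ LinearMap.range (pt u) := fun z => by
    rw [hh, LinearEquiv.mul_apply, HE.eq, H₁.ev_eq hu, H₁.eq]
    obtain ⟨p, hp⟩ := hψv (hF.ev u z)
    rw [sub_eq_iff_eq_add.1 hp.symm, LinearMap.neg_apply]
    refine ⟨p + ρ z + (hF.ev v' + κ • hF.ev u) (z + (pt u p + pt v' (hF.ev u z)) + pt u (ρ z)), ?_⟩
    rw [map_add, map_add]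
    abel
  let S : W →ₗ[F] W := hF.ev u' ∘ₗ (h.toLinearMap - LinearMap.id) ∘ₗ pt u'
  have hSd : ∀ e, h (pt u' e) = pt u' e + pt u (S e) := fun e => by
    obtain ⟨p, hp⟩ := hdif (pt u' e)
    show _ = _ + pt u (hF.ev u' (h (pt u' e) - pt u' e))
    rw [← hp, hF.ev_pt, hu'u, one_smul, hp, add_sub_cancel]
  have hfixh : ∀ z, hF.ev u z = 0 → h z = z := fun z hz => by
    obtain ⟨p, hp⟩ := hdif z
    have e1 : h z = z + pt u p := by rw [hp, add_sub_cancel]
    suffices p = 0 by rw [e1, this, map_zero, add_zero]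
    refine hC.nondeg p fun y => ?_
    have h1 := hO.iso h hhX z (pt u' y)
    rw [e1, hSd] at h1
    simp only [map_add, LinearMap.add_apply, hF.B_pt u z, hz, map_zero, LinearMap.zero_apply, hF.prod, huu', hu,
      one_mul, zero_mul, add_zero] at h1
    linear_combination h1
  have hrad' : h = hF.rad u S := LinearEquiv.ext fun z => by
    have h0 := hfixh (z - pt u' (hF.ev u z)) (by rw [map_sub, hF.ev_pt, huu', one_smul, sub_self])
    rw [map_sub, hSd] at h0
    rw [hF.rad_apply hu]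
    linear_combination (norm := abel) h0
  obtain ⟨τ, hτ⟩ := hO.rad_scalar hF hd hD hu0 hu (hrad' ▸ hhX)
  have hhN : InN pt h := by
    rw [hrad', show S = τ • LinearMap.id from LinearMap.ext hτ]
    exact hF.lt_inN hu τ
  have hN₁ : InN pt g₁ := by
    have := (hF.inN_inv hEN).mul hhN
    rwa [hh, inv_mul_cancel_left] at this
  have := hkN.mul hN₁
  rwa [hg₁, mul_inv_cancel_left] at this

/-- an element mapping one isotropic `u ⊗ W` into another preserves the decomposition -/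
theorem Over.maps_inN (hd : Dims σ U W) (hD : ¬ Done B X) {u v : U} (hu0 : u ≠ 0) (hu : A u u = 0) (hv0 : v ≠ 0)
    (hv : A v v = 0) {g : V ≃ₗ[F] V} (hg : g ∈ X) (hR : ∀ y, g (pt u y) ∈ LinearMap.range (pt v)) : InN pt g := by
  haveI : Nontrivial W := Module.nontrivial_of_finrank_pos (R := F) (by have := hd.two; omega)
  haveI : Nontrivial U := Module.nontrivial_of_finrank_pos (R := F) (by have := hd.five; omega)
  obtain ⟨a, ha, l, -, hav⟩ := exists_TU_line hF.hA hv0 hv hu0 hu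
  obtain ⟨k, hk, e⟩ := hO.lift_TU hF ha
  have hkN : InN pt k := ⟨a.toLinearMap, LinearMap.id, e⟩
  have := hO.stab_inN hF hd hD hu0 hu (g := k * g) (mul_mem hk hg) (fun y => by
    obtain ⟨p, hp⟩ := hR y
    exact ⟨l • p, by rw [LinearEquiv.mul_apply, ← hp, e, hav, map_smul, map_smul pt, LinearMap.smul_apply]⟩)
  have := (hF.inN_inv hkN).mul this
  rwa [inv_mul_cancel_left] at this

/-- a conjugate of a transvection of the first factor by an outside element is outside -/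
theorem Over.conj_not_inN (hd : Dims σ U W) (hD : ¬ Done B X) {g : V ≃ₗ[F] V} (hg : g ∈ X) (hgN : ¬ InN pt g) {x : U}
    (hx0 : x ≠ 0) (hx : A x x = 0) {c : F} (hc0 : c ≠ 0) : ¬ InN pt (g⁻¹ * hF.lt x c * g) := by
  intro hN
  haveI : Nontrivial W := Module.nontrivial_of_finrank_pos (R := F) (by have := hd.two; omega)
  haveI : NeZero (finrank F W) := ⟨by have := hd.two; omega⟩
  set R := (LinearMap.range (pt x)).map g⁻¹.toLinearMap with hR
  have hz : ∀ z, (g⁻¹ * hF.lt x c * g) z - z = g⁻¹ (pt x (c • hF.ev x (g z))) := fun z => by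
    rw [LinearEquiv.mul_apply, LinearEquiv.mul_apply, hF.lt_apply hx, map_add, inv_apply, add_sub_cancel_left,
      map_smul (pt x)]
  obtain ⟨w, hw0, hw⟩ := hF.range_inN hd.lt hN (fun h1 => by
    obtain ⟨y, hy⟩ := exists_ne (0 : W)
    obtain ⟨z, hz'⟩ := hF.ev_surjective hx0 y
    have := hz (g⁻¹ z)
    rw [h1, apply_inv, hz'] at this
    have h2 := g⁻¹.injective ((show g⁻¹ (pt x (c • y)) = g⁻¹ 0 by rw [← this, map_zero]; simp))
    exact hy ((smul_eq_zero.1 (hF.pt_injective hx0 (h2.trans (map_zero (pt x)).symm))).resolve_left hc0))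
    (R := R) (fun z => by rw [hz]; exact ⟨_, ⟨_, rfl⟩, rfl⟩) (by
      rw [hR, LinearEquiv.finrank_map_eq, hF.finrank_R hx0])
  have hwy : ∀ y, ∃ p, pt w y = g⁻¹ (pt x p) := fun y => by
    obtain ⟨_, ⟨p, rfl⟩, hp⟩ : pt w y ∈ R := by rw [← hw]; exact ⟨y, rfl⟩
    exact ⟨p, hp.symm⟩
  have hww : A w w = 0 := by
    obtain ⟨p, hp⟩ := hwy (hF.onb 0)
    have := congrArg₂ (fun a b => B a b) hp hp
    simp only [iso_inv (hO.iso g hg), hF.prod, hF.onb_spec 0 0, if_true, mul_one, hx, zero_mul] at this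
    exact this
  exact hgN (hO.maps_inN hF hd hD hw0 hww hx0 hx hg fun y => by
    obtain ⟨p, hp⟩ := hwy y
    exact ⟨p, by rw [hp, apply_inv]⟩)

end Cfsg.Agent.ClassicalMax.UnTensor
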