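import Cfsg.Agent.ClassicalMax.UnTensor.Stab
import Cfsg.Agent.ClassicalMax.UnTensor.Eigen

/-!
Overgroups of the stabiliser of a unitary tensor decomposition: the unipotent elements of the stabiliser attached to
orthogonal isotropic vectors of one factor, members with a prescribed eigenvector, and pure vectors fixed by
unipotent preserving elements.
-/

set_option autoImplicit false
set_option linter.unusedSectionVars false
set_option linter.style.haveILetI false

namespace Cfsg.Agent.ClassicalMax.UnTensor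

open Module Cfsg.Agent.Classical Cfsg.Agent.ClassicalMax

variable {F U W V : Type*} [Field F] [Finite F] [AddCommGroup U] [Module F U] [AddCommGroup W] [Module F W]
  [AddCommGroup V] [Module F V] [FiniteDimensional F U] [FiniteDimensional F W] [FiniteDimensional F V]
  {σ : F →+* F} {B : V →ₛₗ[σ] V →ₗ[F] F} {A : U →ₛₗ[σ] U →ₗ[F] F} {C : W →ₛₗ[σ] W →ₗ[F] F}
  {pt : U →ₗ[F] W →ₗ[F] V}

/-- the nilpotent map attached to a family of vectors of the first factor and a matrix -/
noncomputable def Frame.dop (hF : Frame B A C pt) {t : ℕ} (z : Fin t → U) (H : Matrix (Fin t) (Fin t) F) :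
    V →ₗ[F] V :=
  ∑ i, ∑ j, H i j • (pt (z i) ∘ₗ hF.ev (z j))

namespace Frame

variable (hF : Frame B A C pt) {t : ℕ} {z : Fin t → U} {H : Matrix (Fin t) (Fin t) F}

theorem dop_apply (x : V) : hF.dop z H x = ∑ i, ∑ j, H i j • pt (z i) (hF.ev (z j) x) := by
  simp [Frame.dop, LinearMap.sum_apply]

theorem dop_sum {ι : Type} [Fintype ι] (x : ι → F) (K : ι → Matrix (Fin t) (Fin t) F) (c : V) :
    hF.dop z (∑ a, x a • K a) c = ∑ a, x a • hF.dop z (K a) c := by
  simp only [dop_apply, Matrix.sum_apply, Matrix.smul_apply, smul_eq_mul, Finset.smul_sum, Finset.sum_smul, smul_smul]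
  exact (Finset.sum_congr rfl fun i _ => Finset.sum_comm).trans Finset.sum_comm

theorem ev_dop {v : U} (hv : ∀ i, A v (z i) = 0) (x : V) : hF.ev v (hF.dop z H x) = 0 := by
  simp [dop_apply, hF.ev_pt, hv]

theorem dop_eq_zero {x : V} (h : ∀ j, hF.ev (z j) x = 0) : hF.dop z H x = 0 := by
  simp [dop_apply, h]

theorem dop_skew (hH : ∀ i j, σ (H i j) + H j i = 0) (x y : V) :
    B (hF.dop z H x) y + B x (hF.dop z H y) = 0 := by
  simp only [dop_apply, map_sum, map_smulₛₗ, LinearMap.sum_apply, LinearMap.smul_apply, smul_eq_mul, RingHom.id_apply,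
    ← hF.C_ev, hF.B_pt]
  rw [Finset.sum_comm, ← Finset.sum_add_distrib]
  refine Finset.sum_eq_zero fun i _ => ?_
  rw [← Finset.sum_add_distrib]
  exact Finset.sum_eq_zero fun j _ => by rw [← add_mul, hH, zero_mul]

/-- the element of the stabiliser -/
theorem exists_step (hz : ∀ i j, A (z i) (z j) = 0) (hH : ∀ i j, σ (H i j) + H j i = 0) :
    ∃ Q : V ≃ₗ[F] V, (∀ x y, B (Q x) (Q y) = B x y) ∧ InN pt Q ∧ LinearMap.det Q.toLinearMap = 1 ∧
      (∀ x, Q x = x + hF.dop z H x) ∧ ∀ x, hF.dop z H (hF.dop z H x) = 0 := by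
  have hsq : ∀ x, hF.dop z H (hF.dop z H x) = 0 := fun x => hF.dop_eq_zero fun j => hF.ev_dop (hz j) x
  let Q : V ≃ₗ[F] V := LinearEquiv.ofLinearMap (LinearMap.id + hF.dop z H) (LinearMap.id - hF.dop z H)
    (LinearMap.ext fun x => by simp [hsq]) (LinearMap.ext fun x => by simp [hsq])
  have hQ : ∀ x, Q x = x + hF.dop z H x := fun x => rfl
  refine ⟨Q, fun x y => ?_, ⟨LinearMap.id + ∑ i, ∑ j, H i j • (A (z j)).smulRight (z i), LinearMap.id,
    fun x y => ?_⟩, det_one_of_cube Q fun x => ?_, hQ, hsq⟩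
  · rw [hQ, hQ, map_add, map_add, LinearMap.add_apply, LinearMap.add_apply]
    have h1 := hF.dop_skew (z := z) hH x y
    have h2 : B (hF.dop z H x) (hF.dop z H y) = 0 := by
      have := hF.dop_skew (z := z) hH x (hF.dop z H y)
      rwa [hsq, map_zero, add_zero] at this
    linear_combination h1 + h2
  · rw [hQ, dop_apply]
    simp [hF.ev_pt, LinearMap.sum_apply, map_add, map_sum, smul_smul]
  · simp only [hQ, map_add, map_sub, hsq, map_zero, add_zero]
    abel

/-- a non-zero matrix whose map kills a vector gives an isotropic combination killing it -/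
theorem exists_kill {w : Fin t → U} (hw : ∀ i j, A (w i) (z j) = if i = j then 1 else 0)
    (hz : ∀ i j, A (z i) (z j) = 0) (hH : H ≠ 0) {c : V} (hc : hF.dop z H c = 0) :
    ∃ x, x ≠ 0 ∧ A x x = 0 ∧ (∀ j, A x (z j) = 0) ∧ hF.ev x c = 0 := by
  have hrow : ∀ i, ∑ j, H i j • hF.ev (z j) c = 0 := fun i => by
    have := congrArg (hF.ev (w i)) hc
    rw [map_zero, dop_apply, map_sum,
      Fintype.sum_eq_single i fun k hk => by simp [map_sum, hF.ev_pt, hw, Ne.symm hk]] at this
    simpa [map_sum, hF.ev_pt, hw] using this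
  obtain ⟨i, j, hij⟩ : ∃ i j, H i j ≠ 0 := by
    by_contra! h
    exact hH (Matrix.ext h)
  refine ⟨∑ k, σ (H i k) • z k, fun h0 => hij ?_, ?_, fun k => ?_, ?_⟩
  · have := congrArg (A (w j)) h0
    simpa [map_sum, hw] using this
  · simp [map_sum, LinearMap.sum_apply, hz]
  · simp [map_sum, LinearMap.sum_apply, hz]
  · rw [← hrow i]
    simp [map_sum, LinearMap.sum_apply, hF.hA.invol]

/-- a member of a linear family of skew maps with an eigenvector on the orthogonal of a subspace -/
theorem exists_member {g : V ≃ₗ[F] V} (hg : ∀ x y, B (g x) (g y) = B x y) {u : U} {ι : Type} [Fintype ι]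
    [DecidableEq ι] (Dm : ι → (V →ₗ[F] V)) (hsk : ∀ a x y, B (Dm a x) y + B x (Dm a y) = 0) {L : Submodule F W}
    (hnd : ∀ l ∈ L, l ∈ orth C L → l = 0) (hL : L ≠ ⊤)
    (hkill : ∀ a, ∀ l ∈ L, hF.ev u (g⁻¹ (Dm a (g (pt u l)))) = 0)
    (hcard : finrank F (orth C L) ≤ Fintype.card ι) :
    ∃ x : ι → F, (∀ a, σ (x a) = x a) ∧ x ≠ 0 ∧
      (∀ y ∈ orth C L, hF.ev u (g⁻¹ (∑ a, x a • Dm a (g (pt u y)))) ∈ orth C L) ∧
      ∃ lam : F, lam + σ lam = 0 ∧
        (∃ y ∈ orth C L, y ≠ 0 ∧ hF.ev u (g⁻¹ (∑ a, x a • Dm a (g (pt u y)))) = lam • y) ∧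
        (finrank F (orth C L) < Fintype.card ι →
          ∃ e ∈ orth C L, C e e = 1 ∧ C e (hF.ev u (g⁻¹ (∑ a, x a • Dm a (g (pt u e))))) = 0) := by
  classical
  have hC := hF.hC
  set Lp := orth C L with hLp
  let G : ι → (W →ₗ[F] W) := fun a => hF.ev u ∘ₗ g⁻¹.toLinearMap ∘ₗ Dm a ∘ₗ g.toLinearMap ∘ₗ pt u
  have hCG : ∀ a y y', C y (G a y') = B (g (pt u y)) (Dm a (g (pt u y'))) := fun a y y' => by
    show C y (hF.ev u (g⁻¹ (Dm a (g (pt u y'))))) = _
    rw [hF.C_ev, ← hg, apply_inv]
  have hsym : ∀ a y y', σ (C y (G a y')) = -C y' (G a y) := fun a y y' => by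
    rw [hCG, hCG, hF.hB.symm]
    linear_combination hsk a (g (pt u y')) (g (pt u y))
  have hmem : ∀ a y, G a y ∈ Lp := fun a y l hl => by
    have h0 := hsym a y l
    rw [show G a l = 0 from hkill a l hl, map_zero, map_zero, eq_comm, neg_eq_zero] at h0
    exact h0
  have hsum : ∀ (x : ι → F) y, hF.ev u (g⁻¹ (∑ a, x a • Dm a (g (pt u y)))) = ∑ a, x a • G a y := fun x y => by
    simp only [map_sum, map_smul]
    rfl
  let C₀ : Lp →ₛₗ[σ] Lp →ₗ[F] F := (C.compl₂ Lp.subtype).comp Lp.subtype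
  have hC₀ : Herm.IsHerm C₀ :=
    { toIsInvol := hC.toIsInvol
      symm := fun x y => hC.symm _ _
      nondeg := fun x hx => Subtype.ext (hC.nondeg _ fun y => by
        obtain ⟨l, hl, p, hp, rfl⟩ := Submodule.mem_sup.1 ((sup_orth hC hnd).symm ▸ Submodule.mem_top : y ∈ L ⊔ Lp)
        rw [map_add, (Herm.eq_zero_comm hC).1 (x.2 l hl), show C (x : W) p = 0 from hx ⟨p, hp⟩, add_zero]) }
  obtain ⟨b, hb⟩ := Herm.exists_orthonormal hC₀
  have hpos : finrank F Lp ≠ 0 := fun h0 => hL (by
    have := sup_orth hC hnd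
    rwa [← hLp, Submodule.finrank_eq_zero.1 h0, sup_bot_eq] at this)
  haveI : NeZero (finrank F Lp) := ⟨hpos⟩
  obtain ⟨c₀, hc0, hc⟩ := Herm.exists_skew hC.toIsInvol
  let M : ι → Matrix (Fin (finrank F Lp)) (Fin (finrank F Lp)) F := fun a =>
    Matrix.of fun k l => c₀⁻¹ * C (b k : W) (G a (b l : W))
  have hM : ∀ a k l, σ (M a k l) = M a l k := fun a k l => by
    simp only [M, Matrix.of_apply, map_mul, map_inv₀, hc, hsym]
    field_simp
  obtain ⟨x, hx, hx0, hdiag, μ, hμ, v, hv, hev⟩ := exists_eigen hC.toIsInvol M hM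
    (if finrank F Lp < Fintype.card ι then {0} else ∅) (by split_ifs with h <;> simp <;> omega)
  set y : Lp := ∑ l, v l • b l with hy
  have hcoord : ∀ k, C (b k : W) (y : W) = v k := fun k => by
    show C₀ (b k) y = v k
    simp [hy, hb k]
  refine ⟨x, hx, hx0, fun y hy => by rw [hsum]; exact Lp.sum_mem fun a _ => Lp.smul_mem _ (hmem a y),
    c₀ * μ, by rw [map_mul, hc, hμ]; ring, ⟨y, y.2, fun h0 => hv (funext fun k => by
      rw [← hcoord k, h0, map_zero]; rfl), ?_⟩, fun hlt => ⟨(b 0 : W), (b 0).2, by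
      show C₀ (b 0) (b 0) = 1
      rw [hb, if_pos rfl], ?_⟩⟩
  · refine hF.eq_of_C fun w => ?_
    obtain ⟨l, hl, p, hp, rfl⟩ := Submodule.mem_sup.1 ((sup_orth hC hnd).symm ▸ Submodule.mem_top : w ∈ L ⊔ Lp)
    have h1 : ∀ q ∈ Lp, C (l + p) q = C p q := fun q hq => by
      rw [map_add, LinearMap.add_apply, hq l hl, zero_add]
    rw [hsum, h1 _ (Lp.sum_mem fun a _ => Lp.smul_mem _ (hmem a y)), h1 _ (Lp.smul_mem _ y.2)]
    -- compare on the orthonormal basis
    let φ : Lp →ₛₗ[σ] F := (C.flip (∑ a, x a • G a (y : W))).comp Lp.subtype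
    let φ' : Lp →ₛₗ[σ] F := (C.flip ((c₀ * μ) • (y : W))).comp Lp.subtype
    suffices φ = φ' from LinearMap.congr_fun this ⟨p, hp⟩
    refine b.ext fun k => ?_
    show C (b k : W) (∑ a, x a • G a (y : W)) = C (b k : W) ((c₀ * μ) • (y : W))
    have := congrFun hev k
    simp only [Matrix.mulVec, dotProduct, Matrix.sum_apply, Matrix.smul_apply, M, Matrix.of_apply, smul_eq_mul,
      Pi.smul_apply, Finset.sum_mul] at this
    rw [map_smul, smul_eq_mul, hcoord, mul_assoc, ← this, Finset.mul_sum, hy]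
    simp only [Submodule.coe_sum, Submodule.coe_smul, map_sum, map_smul, smul_eq_mul, Finset.mul_sum]
    rw [Finset.sum_comm]
    refine Finset.sum_congr rfl fun k' _ => Finset.sum_congr rfl fun a _ => ?_
    field_simp
  · have := hdiag 0 (by rw [if_pos hlt]; simp)
    simp only [Matrix.sum_apply, Matrix.smul_apply, M, Matrix.of_apply, smul_eq_mul] at this
    rw [hsum, map_sum]
    refine (mul_eq_zero.1 (show c₀⁻¹ * ∑ a, C (b 0 : W) (x a • G a (b 0 : W)) = 0 from ?_)).resolve_left
      (inv_ne_zero hc0)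
    rw [← this, Finset.mul_sum]
    exact Finset.sum_congr rfl fun a _ => by rw [map_smul, smul_eq_mul]; ring

include hF in
/-- a preserving unipotent element fixes a pure vector with isotropic first factor -/
theorem exists_fixed (hU : 4 ≤ finrank F U) (hW : 0 < finrank F W) {n : V ≃ₗ[F] V} (hn : InN pt n)
    (hsq : ∀ z, n (n z - z) = n z - z) : ∃ u' y', u' ≠ 0 ∧ A u' u' = 0 ∧ y' ≠ 0 ∧ n (pt u' y') = pt u' y' := by
  haveI : Nontrivial W := Module.nontrivial_of_finrank_pos (R := F) hW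
  haveI : Nontrivial U := Module.nontrivial_of_finrank_pos (R := F) (by omega)
  haveI : Nontrivial (Module.End F W) := inferInstance
  haveI : Nontrivial V := by
    obtain ⟨x, hx⟩ := exists_ne (0 : U)
    exact (hF.pt_injective hx).nontrivial
  obtain ⟨a, b, e⟩ := hn
  obtain ⟨p, hp⟩ := CharP.exists F
  haveI : Fact p.Prime := ⟨CharP.char_is_prime F p⟩
  haveI : CharP (Module.End F V) p := charP_of_injective_algebraMap (algebraMap F (Module.End F V)).injective p
  haveI : CharP (Module.End F W) p := charP_of_injective_algebraMap (algebraMap F (Module.End F W)).injective p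
  have hnil : ((n : Module.End F V) - 1) ^ 2 = 0 := LinearMap.ext fun z => by
    simp only [pow_two, Module.End.mul_apply, LinearMap.sub_apply, Module.End.one_apply, LinearEquiv.coe_coe, hsq,
      sub_self, LinearMap.zero_apply]
  have hnp : (n : Module.End F V) ^ p = 1 := by
    have h2 : 2 ≤ p := (Fact.out : p.Prime).two_le
    rw [show (n : Module.End F V) = ((n : Module.End F V) - 1) + 1 from (sub_add_cancel _ _).symm,
      add_pow_char_of_commute p (Commute.one_right _), one_pow, ← Nat.add_sub_cancel' h2, pow_add, hnil, zero_mul,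
      zero_add]
  have hpow : ∀ (k : ℕ) x y, ((n : Module.End F V) ^ k) (pt x y) = pt ((a ^ k : Module.End F U) x) ((b ^ k : Module.End F W) y) := by
    intro k
    induction k with
    | zero => intro x y; rfl
    | succ k ih =>
      intro x y
      rw [pow_succ, pow_succ, pow_succ, Module.End.mul_apply, LinearEquiv.coe_coe, e, ih]
      rfl
  obtain ⟨x₀, hx₀⟩ := exists_ne (0 : U)
  obtain ⟨x₁, hx₁, -⟩ := exists_pairing_one hF.hA hx₀
  set κ := A x₁ ((a ^ p : Module.End F U) x₀) with hκ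
  have hb : ∀ y, κ • (b ^ p : Module.End F W) y = y := fun y => by
    have := congrArg (hF.ev x₁) (hpow p x₀ y)
    rw [hnp, Module.End.one_apply, hF.ev_pt, hx₁, one_smul, hF.ev_pt] at this
    exact this.symm
  have hκ0 : κ ≠ 0 := fun h0 => by
    obtain ⟨y, hy⟩ := exists_ne (0 : W)
    exact hy (by rw [← hb y, h0, zero_smul])
  obtain ⟨γ, hγ⟩ := (Finite.injective_iff_surjective.1 (frobenius_inj F p)) κ⁻¹
  rw [frobenius_def] at hγ
  obtain ⟨y', hy', hby'⟩ : ∃ y', y' ≠ 0 ∧ b y' = γ • y' := by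
    by_contra! hno
    have hinj : Function.Injective (b - algebraMap F (Module.End F W) γ : Module.End F W) :=
      (injective_iff_map_eq_zero _).2 fun y hy => by
        by_contra h0
        rw [LinearMap.sub_apply, Module.algebraMap_end_apply, sub_eq_zero] at hy
        exact hno y h0 hy
    have hzero : (b - algebraMap F (Module.End F W) γ : Module.End F W) ^ p = 0 := by
      rw [sub_pow_char_of_commute p ((Algebra.commutes γ _).symm), ← map_pow, hγ, sub_eq_zero]
      refine LinearMap.ext fun y => ?_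
      rw [Module.algebraMap_end_apply, ← smul_right_injective W hκ0 |>.eq_iff, hb, smul_inv_smul₀ hκ0]
    obtain ⟨y, hy⟩ := exists_ne (0 : W)
    refine hy ((show Function.Injective ((b - algebraMap F (Module.End F W) γ : Module.End F W) ^ p) from by
      rw [Module.End.coe_pow]; exact hinj.iterate p) ?_)
    rw [hzero, LinearMap.zero_apply, LinearMap.zero_apply]
  let N : U →ₗ[F] U := γ • a - LinearMap.id
  have hN : ∀ x, n (pt x y') - pt x y' = pt (N x) y' := fun x => by
    simp only [N, e, hby', map_smul, LinearMap.sub_apply, LinearMap.smul_apply, LinearMap.id_apply, map_sub]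
  have hNN : ∀ x, N (N x) = 0 := fun x => (hF.swap.pt_injective hy') (by
    rw [map_zero]
    show pt (N (N x)) y' = 0
    rw [← hN, ← hN, map_sub, sub_eq_zero, ← map_sub, hsq])
  have hker : LinearMap.range N ≤ LinearMap.ker N := by
    rintro _ ⟨x, rfl⟩
    exact hNN x
  have h1 := N.finrank_range_add_finrank_ker
  have h2 := Submodule.finrank_mono hker
  obtain ⟨u', hu', hu'0, huu⟩ := exists_iso_mem hF.hA (S := LinearMap.ker N) (by omega)
  refine ⟨u', y', hu'0, huu, hy', sub_eq_zero.1 ?_⟩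
  rw [hN, LinearMap.mem_ker.1 hu', map_zero, LinearMap.zero_apply]

/-- an isotropic vector whose contraction of a given vector vanishes -/
theorem exists_iso_kill {P : Submodule F U} {S : Submodule F W} (hdim : finrank F S + 2 ≤ finrank F P) {c : V}
    (hS : ∀ x ∈ P, hF.ev x c ∈ S) : ∃ x ∈ P, x ≠ 0 ∧ A x x = 0 ∧ hF.ev x c = 0 := by
  let φ : U →ₗ[F] (W →ₗ[F] F) :=
    LinearMap.mk₂ F (fun x y => B c (pt x y)) (fun x x' y => by simp) (fun k x y => by simp)
      (fun x y y' => by simp) (fun k x y => by simp)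
  have hφ : ∀ x y, φ x y = C (hF.ev x c) y := fun x y => hF.B_pt x c y
  let T : P →ₗ[F] (W →ₗ[F] F) := φ.domRestrict P
  have hT : LinearMap.range T ≤ (orth C S).dualAnnihilator := by
    rintro _ ⟨x, rfl⟩
    refine (Submodule.mem_dualAnnihilator _).2 fun y hy => ?_
    show φ x y = 0
    rw [hφ]
    exact hy _ (hS x x.2)
  have h1 := T.finrank_range_add_finrank_ker
  have h2 := Submodule.finrank_mono hT
  have h3 := Subspace.finrank_add_finrank_dualAnnihilator_eq (orth C S)
  have h4 := finrank_orth_add hF.hC S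
  have h5 : finrank F (LinearMap.range T) ≤ finrank F S :=
    h2.trans (le_of_eq (Nat.add_left_cancel (h3.trans h4.symm)))
  obtain ⟨x, hx, hx0, hxx⟩ := exists_iso_mem hF.hA (S := (LinearMap.ker T).map P.subtype) (by
    rw [Submodule.finrank_map_subtype_eq]; omega)
  obtain ⟨⟨x, hxP⟩, hxT, rfl⟩ := hx
  refine ⟨x, hxP, hx0, hxx, hF.hC.nondeg _ fun y => ?_⟩
  rw [← hφ]
  exact LinearMap.congr_fun (LinearMap.mem_ker.1 hxT) y

end Frame

end Cfsg.Agent.ClassicalMax.UnTensor
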